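import Cfsg.Agent.Lib.ToddCox.Suz22880.Data0
set_option autoImplicit false
set_option maxRecDepth 100000
namespace Cfsg.Agent.Lib.ToddCox.Suz22880
def eT_0_2 (j : ℕ) : ℕ := bif Nat.blt j 1 then E_0 else E_1
def eT_3_5 (j : ℕ) : ℕ := bif Nat.blt j 4 then E_3 else E_4
def eT_2_5 (j : ℕ) : ℕ := bif Nat.blt j 3 then E_2 else (eT_3_5 j)
def eT_0_5 (j : ℕ) : ℕ := bif Nat.blt j 2 then (eT_0_2 j) else (eT_2_5 j)
def eT_5_7 (j : ℕ) : ℕ := bif Nat.blt j 6 then E_5 else E_6
def eT_8_10 (j : ℕ) : ℕ := bif Nat.blt j 9 then E_8 else E_9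
def eT_7_10 (j : ℕ) : ℕ := bif Nat.blt j 8 then E_7 else (eT_8_10 j)
def eT_5_10 (j : ℕ) : ℕ := bif Nat.blt j 7 then (eT_5_7 j) else (eT_7_10 j)
def eT_0_10 (j : ℕ) : ℕ := bif Nat.blt j 5 then (eT_0_5 j) else (eT_5_10 j)
def eT_10_12 (j : ℕ) : ℕ := bif Nat.blt j 11 then E_10 else E_11
def eT_13_15 (j : ℕ) : ℕ := bif Nat.blt j 14 then E_13 else E_14
def eT_12_15 (j : ℕ) : ℕ := bif Nat.blt j 13 then E_12 else (eT_13_15 j)
def eT_10_15 (j : ℕ) : ℕ := bif Nat.blt j 12 then (eT_10_12 j) else (eT_12_15 j)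
def eT_15_17 (j : ℕ) : ℕ := bif Nat.blt j 16 then E_15 else E_16
def eT_18_20 (j : ℕ) : ℕ := bif Nat.blt j 19 then E_18 else E_19
def eT_17_20 (j : ℕ) : ℕ := bif Nat.blt j 18 then E_17 else (eT_18_20 j)
def eT_15_20 (j : ℕ) : ℕ := bif Nat.blt j 17 then (eT_15_17 j) else (eT_17_20 j)
def eT_10_20 (j : ℕ) : ℕ := bif Nat.blt j 15 then (eT_10_15 j) else (eT_15_20 j)
def eT_0_20 (j : ℕ) : ℕ := bif Nat.blt j 10 then (eT_0_10 j) else (eT_10_20 j)
def eT_20_22 (j : ℕ) : ℕ := bif Nat.blt j 21 then E_20 else E_21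
def eT_23_25 (j : ℕ) : ℕ := bif Nat.blt j 24 then E_23 else E_24
def eT_22_25 (j : ℕ) : ℕ := bif Nat.blt j 23 then E_22 else (eT_23_25 j)
def eT_20_25 (j : ℕ) : ℕ := bif Nat.blt j 22 then (eT_20_22 j) else (eT_22_25 j)
def eT_25_27 (j : ℕ) : ℕ := bif Nat.blt j 26 then E_25 else E_26
def eT_28_30 (j : ℕ) : ℕ := bif Nat.blt j 29 then E_28 else E_29
def eT_27_30 (j : ℕ) : ℕ := bif Nat.blt j 28 then E_27 else (eT_28_30 j)
def eT_25_30 (j : ℕ) : ℕ := bif Nat.blt j 27 then (eT_25_27 j) else (eT_27_30 j)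
def eT_20_30 (j : ℕ) : ℕ := bif Nat.blt j 25 then (eT_20_25 j) else (eT_25_30 j)
def eT_30_32 (j : ℕ) : ℕ := bif Nat.blt j 31 then E_30 else E_31
def eT_33_35 (j : ℕ) : ℕ := bif Nat.blt j 34 then E_33 else E_34
def eT_32_35 (j : ℕ) : ℕ := bif Nat.blt j 33 then E_32 else (eT_33_35 j)
def eT_30_35 (j : ℕ) : ℕ := bif Nat.blt j 32 then (eT_30_32 j) else (eT_32_35 j)
def eT_36_38 (j : ℕ) : ℕ := bif Nat.blt j 37 then E_36 else E_37
def eT_35_38 (j : ℕ) : ℕ := bif Nat.blt j 36 then E_35 else (eT_36_38 j)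
def eT_39_41 (j : ℕ) : ℕ := bif Nat.blt j 40 then E_39 else E_40
def eT_38_41 (j : ℕ) : ℕ := bif Nat.blt j 39 then E_38 else (eT_39_41 j)
def eT_35_41 (j : ℕ) : ℕ := bif Nat.blt j 38 then (eT_35_38 j) else (eT_38_41 j)
def eT_30_41 (j : ℕ) : ℕ := bif Nat.blt j 35 then (eT_30_35 j) else (eT_35_41 j)
def eT_20_41 (j : ℕ) : ℕ := bif Nat.blt j 30 then (eT_20_30 j) else (eT_30_41 j)
def eT_0_41 (j : ℕ) : ℕ := bif Nat.blt j 20 then (eT_0_20 j) else (eT_20_41 j)
def eT_41_43 (j : ℕ) : ℕ := bif Nat.blt j 42 then E_41 else E_42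
def eT_44_46 (j : ℕ) : ℕ := bif Nat.blt j 45 then E_44 else E_45
def eT_43_46 (j : ℕ) : ℕ := bif Nat.blt j 44 then E_43 else (eT_44_46 j)
def eT_41_46 (j : ℕ) : ℕ := bif Nat.blt j 43 then (eT_41_43 j) else (eT_43_46 j)
def eT_46_48 (j : ℕ) : ℕ := bif Nat.blt j 47 then E_46 else E_47
def eT_49_51 (j : ℕ) : ℕ := bif Nat.blt j 50 then E_49 else E_50
def eT_48_51 (j : ℕ) : ℕ := bif Nat.blt j 49 then E_48 else (eT_49_51 j)
def eT_46_51 (j : ℕ) : ℕ := bif Nat.blt j 48 then (eT_46_48 j) else (eT_48_51 j)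
def eT_41_51 (j : ℕ) : ℕ := bif Nat.blt j 46 then (eT_41_46 j) else (eT_46_51 j)
def eT_51_53 (j : ℕ) : ℕ := bif Nat.blt j 52 then E_51 else E_52
def eT_54_56 (j : ℕ) : ℕ := bif Nat.blt j 55 then E_54 else E_55
def eT_53_56 (j : ℕ) : ℕ := bif Nat.blt j 54 then E_53 else (eT_54_56 j)
def eT_51_56 (j : ℕ) : ℕ := bif Nat.blt j 53 then (eT_51_53 j) else (eT_53_56 j)
def eT_57_59 (j : ℕ) : ℕ := bif Nat.blt j 58 then E_57 else E_58
def eT_56_59 (j : ℕ) : ℕ := bif Nat.blt j 57 then E_56 else (eT_57_59 j)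
def eT_60_62 (j : ℕ) : ℕ := bif Nat.blt j 61 then E_60 else E_61
def eT_59_62 (j : ℕ) : ℕ := bif Nat.blt j 60 then E_59 else (eT_60_62 j)
def eT_56_62 (j : ℕ) : ℕ := bif Nat.blt j 59 then (eT_56_59 j) else (eT_59_62 j)
def eT_51_62 (j : ℕ) : ℕ := bif Nat.blt j 56 then (eT_51_56 j) else (eT_56_62 j)
def eT_41_62 (j : ℕ) : ℕ := bif Nat.blt j 51 then (eT_41_51 j) else (eT_51_62 j)
def eT_62_64 (j : ℕ) : ℕ := bif Nat.blt j 63 then E_62 else E_63
def eT_65_67 (j : ℕ) : ℕ := bif Nat.blt j 66 then E_65 else E_66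
def eT_64_67 (j : ℕ) : ℕ := bif Nat.blt j 65 then E_64 else (eT_65_67 j)
def eT_62_67 (j : ℕ) : ℕ := bif Nat.blt j 64 then (eT_62_64 j) else (eT_64_67 j)
def eT_67_69 (j : ℕ) : ℕ := bif Nat.blt j 68 then E_67 else E_68
def eT_70_72 (j : ℕ) : ℕ := bif Nat.blt j 71 then E_70 else E_71
def eT_69_72 (j : ℕ) : ℕ := bif Nat.blt j 70 then E_69 else (eT_70_72 j)
def eT_67_72 (j : ℕ) : ℕ := bif Nat.blt j 69 then (eT_67_69 j) else (eT_69_72 j)
def eT_62_72 (j : ℕ) : ℕ := bif Nat.blt j 67 then (eT_62_67 j) else (eT_67_72 j)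
def eT_72_74 (j : ℕ) : ℕ := bif Nat.blt j 73 then E_72 else E_73
def eT_75_77 (j : ℕ) : ℕ := bif Nat.blt j 76 then E_75 else E_76
def eT_74_77 (j : ℕ) : ℕ := bif Nat.blt j 75 then E_74 else (eT_75_77 j)
def eT_72_77 (j : ℕ) : ℕ := bif Nat.blt j 74 then (eT_72_74 j) else (eT_74_77 j)
def eT_78_80 (j : ℕ) : ℕ := bif Nat.blt j 79 then E_78 else E_79
def eT_77_80 (j : ℕ) : ℕ := bif Nat.blt j 78 then E_77 else (eT_78_80 j)
def eT_81_83 (j : ℕ) : ℕ := bif Nat.blt j 82 then E_81 else E_82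
def eT_80_83 (j : ℕ) : ℕ := bif Nat.blt j 81 then E_80 else (eT_81_83 j)
def eT_77_83 (j : ℕ) : ℕ := bif Nat.blt j 80 then (eT_77_80 j) else (eT_80_83 j)
def eT_72_83 (j : ℕ) : ℕ := bif Nat.blt j 77 then (eT_72_77 j) else (eT_77_83 j)
def eT_62_83 (j : ℕ) : ℕ := bif Nat.blt j 72 then (eT_62_72 j) else (eT_72_83 j)
def eT_41_83 (j : ℕ) : ℕ := bif Nat.blt j 62 then (eT_41_62 j) else (eT_62_83 j)
def eT_0_83 (j : ℕ) : ℕ := bif Nat.blt j 41 then (eT_0_41 j) else (eT_41_83 j)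
def eT_83_85 (j : ℕ) : ℕ := bif Nat.blt j 84 then E_83 else E_84
def eT_86_88 (j : ℕ) : ℕ := bif Nat.blt j 87 then E_86 else E_87
def eT_85_88 (j : ℕ) : ℕ := bif Nat.blt j 86 then E_85 else (eT_86_88 j)
def eT_83_88 (j : ℕ) : ℕ := bif Nat.blt j 85 then (eT_83_85 j) else (eT_85_88 j)
def eT_88_90 (j : ℕ) : ℕ := bif Nat.blt j 89 then E_88 else E_89
def eT_91_93 (j : ℕ) : ℕ := bif Nat.blt j 92 then E_91 else E_92
def eT_90_93 (j : ℕ) : ℕ := bif Nat.blt j 91 then E_90 else (eT_91_93 j)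
def eT_88_93 (j : ℕ) : ℕ := bif Nat.blt j 90 then (eT_88_90 j) else (eT_90_93 j)
def eT_83_93 (j : ℕ) : ℕ := bif Nat.blt j 88 then (eT_83_88 j) else (eT_88_93 j)
def eT_93_95 (j : ℕ) : ℕ := bif Nat.blt j 94 then E_93 else E_94
def eT_96_98 (j : ℕ) : ℕ := bif Nat.blt j 97 then E_96 else E_97
def eT_95_98 (j : ℕ) : ℕ := bif Nat.blt j 96 then E_95 else (eT_96_98 j)
def eT_93_98 (j : ℕ) : ℕ := bif Nat.blt j 95 then (eT_93_95 j) else (eT_95_98 j)
def eT_99_101 (j : ℕ) : ℕ := bif Nat.blt j 100 then E_99 else E_100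
def eT_98_101 (j : ℕ) : ℕ := bif Nat.blt j 99 then E_98 else (eT_99_101 j)
def eT_102_104 (j : ℕ) : ℕ := bif Nat.blt j 103 then E_102 else E_103
def eT_101_104 (j : ℕ) : ℕ := bif Nat.blt j 102 then E_101 else (eT_102_104 j)
def eT_98_104 (j : ℕ) : ℕ := bif Nat.blt j 101 then (eT_98_101 j) else (eT_101_104 j)
def eT_93_104 (j : ℕ) : ℕ := bif Nat.blt j 98 then (eT_93_98 j) else (eT_98_104 j)
def eT_83_104 (j : ℕ) : ℕ := bif Nat.blt j 93 then (eT_83_93 j) else (eT_93_104 j)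
def eT_104_106 (j : ℕ) : ℕ := bif Nat.blt j 105 then E_104 else E_105
def eT_107_109 (j : ℕ) : ℕ := bif Nat.blt j 108 then E_107 else E_108
def eT_106_109 (j : ℕ) : ℕ := bif Nat.blt j 107 then E_106 else (eT_107_109 j)
def eT_104_109 (j : ℕ) : ℕ := bif Nat.blt j 106 then (eT_104_106 j) else (eT_106_109 j)
def eT_109_111 (j : ℕ) : ℕ := bif Nat.blt j 110 then E_109 else E_110
def eT_112_114 (j : ℕ) : ℕ := bif Nat.blt j 113 then E_112 else E_113
def eT_111_114 (j : ℕ) : ℕ := bif Nat.blt j 112 then E_111 else (eT_112_114 j)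
def eT_109_114 (j : ℕ) : ℕ := bif Nat.blt j 111 then (eT_109_111 j) else (eT_111_114 j)
def eT_104_114 (j : ℕ) : ℕ := bif Nat.blt j 109 then (eT_104_109 j) else (eT_109_114 j)
def eT_114_116 (j : ℕ) : ℕ := bif Nat.blt j 115 then E_114 else E_115
def eT_117_119 (j : ℕ) : ℕ := bif Nat.blt j 118 then E_117 else E_118
def eT_116_119 (j : ℕ) : ℕ := bif Nat.blt j 117 then E_116 else (eT_117_119 j)
def eT_114_119 (j : ℕ) : ℕ := bif Nat.blt j 116 then (eT_114_116 j) else (eT_116_119 j)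
def eT_120_122 (j : ℕ) : ℕ := bif Nat.blt j 121 then E_120 else E_121
def eT_119_122 (j : ℕ) : ℕ := bif Nat.blt j 120 then E_119 else (eT_120_122 j)
def eT_123_125 (j : ℕ) : ℕ := bif Nat.blt j 124 then E_123 else E_124
def eT_122_125 (j : ℕ) : ℕ := bif Nat.blt j 123 then E_122 else (eT_123_125 j)
def eT_119_125 (j : ℕ) : ℕ := bif Nat.blt j 122 then (eT_119_122 j) else (eT_122_125 j)
def eT_114_125 (j : ℕ) : ℕ := bif Nat.blt j 119 then (eT_114_119 j) else (eT_119_125 j)
def eT_104_125 (j : ℕ) : ℕ := bif Nat.blt j 114 then (eT_104_114 j) else (eT_114_125 j)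
def eT_83_125 (j : ℕ) : ℕ := bif Nat.blt j 104 then (eT_83_104 j) else (eT_104_125 j)
def eT_125_127 (j : ℕ) : ℕ := bif Nat.blt j 126 then E_125 else E_126
def eT_128_130 (j : ℕ) : ℕ := bif Nat.blt j 129 then E_128 else E_129
def eT_127_130 (j : ℕ) : ℕ := bif Nat.blt j 128 then E_127 else (eT_128_130 j)
def eT_125_130 (j : ℕ) : ℕ := bif Nat.blt j 127 then (eT_125_127 j) else (eT_127_130 j)
def eT_130_132 (j : ℕ) : ℕ := bif Nat.blt j 131 then E_130 else E_131
def eT_133_135 (j : ℕ) : ℕ := bif Nat.blt j 134 then E_133 else E_134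
def eT_132_135 (j : ℕ) : ℕ := bif Nat.blt j 133 then E_132 else (eT_133_135 j)
def eT_130_135 (j : ℕ) : ℕ := bif Nat.blt j 132 then (eT_130_132 j) else (eT_132_135 j)
def eT_125_135 (j : ℕ) : ℕ := bif Nat.blt j 130 then (eT_125_130 j) else (eT_130_135 j)
def eT_135_137 (j : ℕ) : ℕ := bif Nat.blt j 136 then E_135 else E_136
def eT_138_140 (j : ℕ) : ℕ := bif Nat.blt j 139 then E_138 else E_139
def eT_137_140 (j : ℕ) : ℕ := bif Nat.blt j 138 then E_137 else (eT_138_140 j)
def eT_135_140 (j : ℕ) : ℕ := bif Nat.blt j 137 then (eT_135_137 j) else (eT_137_140 j)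
def eT_141_143 (j : ℕ) : ℕ := bif Nat.blt j 142 then E_141 else E_142
def eT_140_143 (j : ℕ) : ℕ := bif Nat.blt j 141 then E_140 else (eT_141_143 j)
def eT_144_146 (j : ℕ) : ℕ := bif Nat.blt j 145 then E_144 else E_145
def eT_143_146 (j : ℕ) : ℕ := bif Nat.blt j 144 then E_143 else (eT_144_146 j)
def eT_140_146 (j : ℕ) : ℕ := bif Nat.blt j 143 then (eT_140_143 j) else (eT_143_146 j)
def eT_135_146 (j : ℕ) : ℕ := bif Nat.blt j 140 then (eT_135_140 j) else (eT_140_146 j)
def eT_125_146 (j : ℕ) : ℕ := bif Nat.blt j 135 then (eT_125_135 j) else (eT_135_146 j)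
def eT_146_148 (j : ℕ) : ℕ := bif Nat.blt j 147 then E_146 else E_147
def eT_149_151 (j : ℕ) : ℕ := bif Nat.blt j 150 then E_149 else E_150
def eT_148_151 (j : ℕ) : ℕ := bif Nat.blt j 149 then E_148 else (eT_149_151 j)
def eT_146_151 (j : ℕ) : ℕ := bif Nat.blt j 148 then (eT_146_148 j) else (eT_148_151 j)
def eT_151_153 (j : ℕ) : ℕ := bif Nat.blt j 152 then E_151 else E_152
def eT_154_156 (j : ℕ) : ℕ := bif Nat.blt j 155 then E_154 else E_155
def eT_153_156 (j : ℕ) : ℕ := bif Nat.blt j 154 then E_153 else (eT_154_156 j)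
def eT_151_156 (j : ℕ) : ℕ := bif Nat.blt j 153 then (eT_151_153 j) else (eT_153_156 j)
def eT_146_156 (j : ℕ) : ℕ := bif Nat.blt j 151 then (eT_146_151 j) else (eT_151_156 j)
def eT_156_158 (j : ℕ) : ℕ := bif Nat.blt j 157 then E_156 else E_157
def eT_159_161 (j : ℕ) : ℕ := bif Nat.blt j 160 then E_159 else E_160
def eT_158_161 (j : ℕ) : ℕ := bif Nat.blt j 159 then E_158 else (eT_159_161 j)
def eT_156_161 (j : ℕ) : ℕ := bif Nat.blt j 158 then (eT_156_158 j) else (eT_158_161 j)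
def eT_162_164 (j : ℕ) : ℕ := bif Nat.blt j 163 then E_162 else E_163
def eT_161_164 (j : ℕ) : ℕ := bif Nat.blt j 162 then E_161 else (eT_162_164 j)
def eT_165_167 (j : ℕ) : ℕ := bif Nat.blt j 166 then E_165 else E_166
def eT_164_167 (j : ℕ) : ℕ := bif Nat.blt j 165 then E_164 else (eT_165_167 j)
def eT_161_167 (j : ℕ) : ℕ := bif Nat.blt j 164 then (eT_161_164 j) else (eT_164_167 j)
def eT_156_167 (j : ℕ) : ℕ := bif Nat.blt j 161 then (eT_156_161 j) else (eT_161_167 j)
def eT_146_167 (j : ℕ) : ℕ := bif Nat.blt j 156 then (eT_146_156 j) else (eT_156_167 j)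
def eT_125_167 (j : ℕ) : ℕ := bif Nat.blt j 146 then (eT_125_146 j) else (eT_146_167 j)
def eT_83_167 (j : ℕ) : ℕ := bif Nat.blt j 125 then (eT_83_125 j) else (eT_125_167 j)
def eT_0_167 (j : ℕ) : ℕ := bif Nat.blt j 83 then (eT_0_83 j) else (eT_83_167 j)
def eT_167_169 (j : ℕ) : ℕ := bif Nat.blt j 168 then E_167 else E_168
def eT_170_172 (j : ℕ) : ℕ := bif Nat.blt j 171 then E_170 else E_171
def eT_169_172 (j : ℕ) : ℕ := bif Nat.blt j 170 then E_169 else (eT_170_172 j)
def eT_167_172 (j : ℕ) : ℕ := bif Nat.blt j 169 then (eT_167_169 j) else (eT_169_172 j)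
def eT_172_174 (j : ℕ) : ℕ := bif Nat.blt j 173 then E_172 else E_173
def eT_175_177 (j : ℕ) : ℕ := bif Nat.blt j 176 then E_175 else E_176
def eT_174_177 (j : ℕ) : ℕ := bif Nat.blt j 175 then E_174 else (eT_175_177 j)
def eT_172_177 (j : ℕ) : ℕ := bif Nat.blt j 174 then (eT_172_174 j) else (eT_174_177 j)
def eT_167_177 (j : ℕ) : ℕ := bif Nat.blt j 172 then (eT_167_172 j) else (eT_172_177 j)
def eT_177_179 (j : ℕ) : ℕ := bif Nat.blt j 178 then E_177 else E_178
def eT_180_182 (j : ℕ) : ℕ := bif Nat.blt j 181 then E_180 else E_181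
def eT_179_182 (j : ℕ) : ℕ := bif Nat.blt j 180 then E_179 else (eT_180_182 j)
def eT_177_182 (j : ℕ) : ℕ := bif Nat.blt j 179 then (eT_177_179 j) else (eT_179_182 j)
def eT_183_185 (j : ℕ) : ℕ := bif Nat.blt j 184 then E_183 else E_184
def eT_182_185 (j : ℕ) : ℕ := bif Nat.blt j 183 then E_182 else (eT_183_185 j)
def eT_186_188 (j : ℕ) : ℕ := bif Nat.blt j 187 then E_186 else E_187
def eT_185_188 (j : ℕ) : ℕ := bif Nat.blt j 186 then E_185 else (eT_186_188 j)
def eT_182_188 (j : ℕ) : ℕ := bif Nat.blt j 185 then (eT_182_185 j) else (eT_185_188 j)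
def eT_177_188 (j : ℕ) : ℕ := bif Nat.blt j 182 then (eT_177_182 j) else (eT_182_188 j)
def eT_167_188 (j : ℕ) : ℕ := bif Nat.blt j 177 then (eT_167_177 j) else (eT_177_188 j)
def eT_188_190 (j : ℕ) : ℕ := bif Nat.blt j 189 then E_188 else E_189
def eT_191_193 (j : ℕ) : ℕ := bif Nat.blt j 192 then E_191 else E_192
def eT_190_193 (j : ℕ) : ℕ := bif Nat.blt j 191 then E_190 else (eT_191_193 j)
def eT_188_193 (j : ℕ) : ℕ := bif Nat.blt j 190 then (eT_188_190 j) else (eT_190_193 j)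
def eT_193_195 (j : ℕ) : ℕ := bif Nat.blt j 194 then E_193 else E_194
def eT_196_198 (j : ℕ) : ℕ := bif Nat.blt j 197 then E_196 else E_197
def eT_195_198 (j : ℕ) : ℕ := bif Nat.blt j 196 then E_195 else (eT_196_198 j)
def eT_193_198 (j : ℕ) : ℕ := bif Nat.blt j 195 then (eT_193_195 j) else (eT_195_198 j)
def eT_188_198 (j : ℕ) : ℕ := bif Nat.blt j 193 then (eT_188_193 j) else (eT_193_198 j)
def eT_198_200 (j : ℕ) : ℕ := bif Nat.blt j 199 then E_198 else E_199
def eT_201_203 (j : ℕ) : ℕ := bif Nat.blt j 202 then E_201 else E_202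
def eT_200_203 (j : ℕ) : ℕ := bif Nat.blt j 201 then E_200 else (eT_201_203 j)
def eT_198_203 (j : ℕ) : ℕ := bif Nat.blt j 200 then (eT_198_200 j) else (eT_200_203 j)
def eT_204_206 (j : ℕ) : ℕ := bif Nat.blt j 205 then E_204 else E_205
def eT_203_206 (j : ℕ) : ℕ := bif Nat.blt j 204 then E_203 else (eT_204_206 j)
def eT_207_209 (j : ℕ) : ℕ := bif Nat.blt j 208 then E_207 else E_208
def eT_206_209 (j : ℕ) : ℕ := bif Nat.blt j 207 then E_206 else (eT_207_209 j)
def eT_203_209 (j : ℕ) : ℕ := bif Nat.blt j 206 then (eT_203_206 j) else (eT_206_209 j)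
def eT_198_209 (j : ℕ) : ℕ := bif Nat.blt j 203 then (eT_198_203 j) else (eT_203_209 j)
def eT_188_209 (j : ℕ) : ℕ := bif Nat.blt j 198 then (eT_188_198 j) else (eT_198_209 j)
def eT_167_209 (j : ℕ) : ℕ := bif Nat.blt j 188 then (eT_167_188 j) else (eT_188_209 j)
def eT_209_211 (j : ℕ) : ℕ := bif Nat.blt j 210 then E_209 else E_210
def eT_212_214 (j : ℕ) : ℕ := bif Nat.blt j 213 then E_212 else E_213
def eT_211_214 (j : ℕ) : ℕ := bif Nat.blt j 212 then E_211 else (eT_212_214 j)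
def eT_209_214 (j : ℕ) : ℕ := bif Nat.blt j 211 then (eT_209_211 j) else (eT_211_214 j)
def eT_214_216 (j : ℕ) : ℕ := bif Nat.blt j 215 then E_214 else E_215
def eT_217_219 (j : ℕ) : ℕ := bif Nat.blt j 218 then E_217 else E_218
def eT_216_219 (j : ℕ) : ℕ := bif Nat.blt j 217 then E_216 else (eT_217_219 j)
def eT_214_219 (j : ℕ) : ℕ := bif Nat.blt j 216 then (eT_214_216 j) else (eT_216_219 j)
def eT_209_219 (j : ℕ) : ℕ := bif Nat.blt j 214 then (eT_209_214 j) else (eT_214_219 j)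
def eT_219_221 (j : ℕ) : ℕ := bif Nat.blt j 220 then E_219 else E_220
def eT_222_224 (j : ℕ) : ℕ := bif Nat.blt j 223 then E_222 else E_223
def eT_221_224 (j : ℕ) : ℕ := bif Nat.blt j 222 then E_221 else (eT_222_224 j)
def eT_219_224 (j : ℕ) : ℕ := bif Nat.blt j 221 then (eT_219_221 j) else (eT_221_224 j)
def eT_225_227 (j : ℕ) : ℕ := bif Nat.blt j 226 then E_225 else E_226
def eT_224_227 (j : ℕ) : ℕ := bif Nat.blt j 225 then E_224 else (eT_225_227 j)
def eT_228_230 (j : ℕ) : ℕ := bif Nat.blt j 229 then E_228 else E_229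
def eT_227_230 (j : ℕ) : ℕ := bif Nat.blt j 228 then E_227 else (eT_228_230 j)
def eT_224_230 (j : ℕ) : ℕ := bif Nat.blt j 227 then (eT_224_227 j) else (eT_227_230 j)
def eT_219_230 (j : ℕ) : ℕ := bif Nat.blt j 224 then (eT_219_224 j) else (eT_224_230 j)
def eT_209_230 (j : ℕ) : ℕ := bif Nat.blt j 219 then (eT_209_219 j) else (eT_219_230 j)
def eT_230_232 (j : ℕ) : ℕ := bif Nat.blt j 231 then E_230 else E_231
def eT_233_235 (j : ℕ) : ℕ := bif Nat.blt j 234 then E_233 else E_234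
def eT_232_235 (j : ℕ) : ℕ := bif Nat.blt j 233 then E_232 else (eT_233_235 j)
def eT_230_235 (j : ℕ) : ℕ := bif Nat.blt j 232 then (eT_230_232 j) else (eT_232_235 j)
def eT_235_237 (j : ℕ) : ℕ := bif Nat.blt j 236 then E_235 else E_236
def eT_238_240 (j : ℕ) : ℕ := bif Nat.blt j 239 then E_238 else E_239
def eT_237_240 (j : ℕ) : ℕ := bif Nat.blt j 238 then E_237 else (eT_238_240 j)
def eT_235_240 (j : ℕ) : ℕ := bif Nat.blt j 237 then (eT_235_237 j) else (eT_237_240 j)
def eT_230_240 (j : ℕ) : ℕ := bif Nat.blt j 235 then (eT_230_235 j) else (eT_235_240 j)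
def eT_240_242 (j : ℕ) : ℕ := bif Nat.blt j 241 then E_240 else E_241
def eT_243_245 (j : ℕ) : ℕ := bif Nat.blt j 244 then E_243 else E_244
def eT_242_245 (j : ℕ) : ℕ := bif Nat.blt j 243 then E_242 else (eT_243_245 j)
def eT_240_245 (j : ℕ) : ℕ := bif Nat.blt j 242 then (eT_240_242 j) else (eT_242_245 j)
def eT_246_248 (j : ℕ) : ℕ := bif Nat.blt j 247 then E_246 else E_247
def eT_245_248 (j : ℕ) : ℕ := bif Nat.blt j 246 then E_245 else (eT_246_248 j)
def eT_249_251 (j : ℕ) : ℕ := bif Nat.blt j 250 then E_249 else E_250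
def eT_248_251 (j : ℕ) : ℕ := bif Nat.blt j 249 then E_248 else (eT_249_251 j)
def eT_245_251 (j : ℕ) : ℕ := bif Nat.blt j 248 then (eT_245_248 j) else (eT_248_251 j)
def eT_240_251 (j : ℕ) : ℕ := bif Nat.blt j 245 then (eT_240_245 j) else (eT_245_251 j)
def eT_230_251 (j : ℕ) : ℕ := bif Nat.blt j 240 then (eT_230_240 j) else (eT_240_251 j)
def eT_209_251 (j : ℕ) : ℕ := bif Nat.blt j 230 then (eT_209_230 j) else (eT_230_251 j)
def eT_167_251 (j : ℕ) : ℕ := bif Nat.blt j 209 then (eT_167_209 j) else (eT_209_251 j)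
def eT_251_253 (j : ℕ) : ℕ := bif Nat.blt j 252 then E_251 else E_252
def eT_254_256 (j : ℕ) : ℕ := bif Nat.blt j 255 then E_254 else E_255
def eT_253_256 (j : ℕ) : ℕ := bif Nat.blt j 254 then E_253 else (eT_254_256 j)
def eT_251_256 (j : ℕ) : ℕ := bif Nat.blt j 253 then (eT_251_253 j) else (eT_253_256 j)
def eT_256_258 (j : ℕ) : ℕ := bif Nat.blt j 257 then E_256 else E_257
def eT_259_261 (j : ℕ) : ℕ := bif Nat.blt j 260 then E_259 else E_260
def eT_258_261 (j : ℕ) : ℕ := bif Nat.blt j 259 then E_258 else (eT_259_261 j)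
def eT_256_261 (j : ℕ) : ℕ := bif Nat.blt j 258 then (eT_256_258 j) else (eT_258_261 j)
def eT_251_261 (j : ℕ) : ℕ := bif Nat.blt j 256 then (eT_251_256 j) else (eT_256_261 j)
def eT_261_263 (j : ℕ) : ℕ := bif Nat.blt j 262 then E_261 else E_262
def eT_264_266 (j : ℕ) : ℕ := bif Nat.blt j 265 then E_264 else E_265
def eT_263_266 (j : ℕ) : ℕ := bif Nat.blt j 264 then E_263 else (eT_264_266 j)
def eT_261_266 (j : ℕ) : ℕ := bif Nat.blt j 263 then (eT_261_263 j) else (eT_263_266 j)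
def eT_267_269 (j : ℕ) : ℕ := bif Nat.blt j 268 then E_267 else E_268
def eT_266_269 (j : ℕ) : ℕ := bif Nat.blt j 267 then E_266 else (eT_267_269 j)
def eT_270_272 (j : ℕ) : ℕ := bif Nat.blt j 271 then E_270 else E_271
def eT_269_272 (j : ℕ) : ℕ := bif Nat.blt j 270 then E_269 else (eT_270_272 j)
def eT_266_272 (j : ℕ) : ℕ := bif Nat.blt j 269 then (eT_266_269 j) else (eT_269_272 j)
def eT_261_272 (j : ℕ) : ℕ := bif Nat.blt j 266 then (eT_261_266 j) else (eT_266_272 j)
def eT_251_272 (j : ℕ) : ℕ := bif Nat.blt j 261 then (eT_251_261 j) else (eT_261_272 j)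
def eT_272_274 (j : ℕ) : ℕ := bif Nat.blt j 273 then E_272 else E_273
def eT_275_277 (j : ℕ) : ℕ := bif Nat.blt j 276 then E_275 else E_276
def eT_274_277 (j : ℕ) : ℕ := bif Nat.blt j 275 then E_274 else (eT_275_277 j)
def eT_272_277 (j : ℕ) : ℕ := bif Nat.blt j 274 then (eT_272_274 j) else (eT_274_277 j)
def eT_277_279 (j : ℕ) : ℕ := bif Nat.blt j 278 then E_277 else E_278
def eT_280_282 (j : ℕ) : ℕ := bif Nat.blt j 281 then E_280 else E_281
def eT_279_282 (j : ℕ) : ℕ := bif Nat.blt j 280 then E_279 else (eT_280_282 j)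
def eT_277_282 (j : ℕ) : ℕ := bif Nat.blt j 279 then (eT_277_279 j) else (eT_279_282 j)
def eT_272_282 (j : ℕ) : ℕ := bif Nat.blt j 277 then (eT_272_277 j) else (eT_277_282 j)
def eT_282_284 (j : ℕ) : ℕ := bif Nat.blt j 283 then E_282 else E_283
def eT_285_287 (j : ℕ) : ℕ := bif Nat.blt j 286 then E_285 else E_286
def eT_284_287 (j : ℕ) : ℕ := bif Nat.blt j 285 then E_284 else (eT_285_287 j)
def eT_282_287 (j : ℕ) : ℕ := bif Nat.blt j 284 then (eT_282_284 j) else (eT_284_287 j)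
def eT_288_290 (j : ℕ) : ℕ := bif Nat.blt j 289 then E_288 else E_289
def eT_287_290 (j : ℕ) : ℕ := bif Nat.blt j 288 then E_287 else (eT_288_290 j)
def eT_291_293 (j : ℕ) : ℕ := bif Nat.blt j 292 then E_291 else E_292
def eT_290_293 (j : ℕ) : ℕ := bif Nat.blt j 291 then E_290 else (eT_291_293 j)
def eT_287_293 (j : ℕ) : ℕ := bif Nat.blt j 290 then (eT_287_290 j) else (eT_290_293 j)
def eT_282_293 (j : ℕ) : ℕ := bif Nat.blt j 287 then (eT_282_287 j) else (eT_287_293 j)
def eT_272_293 (j : ℕ) : ℕ := bif Nat.blt j 282 then (eT_272_282 j) else (eT_282_293 j)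
def eT_251_293 (j : ℕ) : ℕ := bif Nat.blt j 272 then (eT_251_272 j) else (eT_272_293 j)
def eT_293_295 (j : ℕ) : ℕ := bif Nat.blt j 294 then E_293 else E_294
def eT_296_298 (j : ℕ) : ℕ := bif Nat.blt j 297 then E_296 else E_297
def eT_295_298 (j : ℕ) : ℕ := bif Nat.blt j 296 then E_295 else (eT_296_298 j)
def eT_293_298 (j : ℕ) : ℕ := bif Nat.blt j 295 then (eT_293_295 j) else (eT_295_298 j)
def eT_298_300 (j : ℕ) : ℕ := bif Nat.blt j 299 then E_298 else E_299
def eT_301_303 (j : ℕ) : ℕ := bif Nat.blt j 302 then E_301 else E_302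
def eT_300_303 (j : ℕ) : ℕ := bif Nat.blt j 301 then E_300 else (eT_301_303 j)
def eT_298_303 (j : ℕ) : ℕ := bif Nat.blt j 300 then (eT_298_300 j) else (eT_300_303 j)
def eT_293_303 (j : ℕ) : ℕ := bif Nat.blt j 298 then (eT_293_298 j) else (eT_298_303 j)
def eT_303_305 (j : ℕ) : ℕ := bif Nat.blt j 304 then E_303 else E_304
def eT_306_308 (j : ℕ) : ℕ := bif Nat.blt j 307 then E_306 else E_307
def eT_305_308 (j : ℕ) : ℕ := bif Nat.blt j 306 then E_305 else (eT_306_308 j)
def eT_303_308 (j : ℕ) : ℕ := bif Nat.blt j 305 then (eT_303_305 j) else (eT_305_308 j)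
def eT_309_311 (j : ℕ) : ℕ := bif Nat.blt j 310 then E_309 else E_310
def eT_308_311 (j : ℕ) : ℕ := bif Nat.blt j 309 then E_308 else (eT_309_311 j)
def eT_312_314 (j : ℕ) : ℕ := bif Nat.blt j 313 then E_312 else E_313
def eT_311_314 (j : ℕ) : ℕ := bif Nat.blt j 312 then E_311 else (eT_312_314 j)
def eT_308_314 (j : ℕ) : ℕ := bif Nat.blt j 311 then (eT_308_311 j) else (eT_311_314 j)
def eT_303_314 (j : ℕ) : ℕ := bif Nat.blt j 308 then (eT_303_308 j) else (eT_308_314 j)
def eT_293_314 (j : ℕ) : ℕ := bif Nat.blt j 303 then (eT_293_303 j) else (eT_303_314 j)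
def eT_314_316 (j : ℕ) : ℕ := bif Nat.blt j 315 then E_314 else E_315
def eT_317_319 (j : ℕ) : ℕ := bif Nat.blt j 318 then E_317 else E_318
def eT_316_319 (j : ℕ) : ℕ := bif Nat.blt j 317 then E_316 else (eT_317_319 j)
def eT_314_319 (j : ℕ) : ℕ := bif Nat.blt j 316 then (eT_314_316 j) else (eT_316_319 j)
def eT_319_321 (j : ℕ) : ℕ := bif Nat.blt j 320 then E_319 else E_320
def eT_322_324 (j : ℕ) : ℕ := bif Nat.blt j 323 then E_322 else E_323
def eT_321_324 (j : ℕ) : ℕ := bif Nat.blt j 322 then E_321 else (eT_322_324 j)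
def eT_319_324 (j : ℕ) : ℕ := bif Nat.blt j 321 then (eT_319_321 j) else (eT_321_324 j)
def eT_314_324 (j : ℕ) : ℕ := bif Nat.blt j 319 then (eT_314_319 j) else (eT_319_324 j)
def eT_324_326 (j : ℕ) : ℕ := bif Nat.blt j 325 then E_324 else E_325
def eT_327_329 (j : ℕ) : ℕ := bif Nat.blt j 328 then E_327 else E_328
def eT_326_329 (j : ℕ) : ℕ := bif Nat.blt j 327 then E_326 else (eT_327_329 j)
def eT_324_329 (j : ℕ) : ℕ := bif Nat.blt j 326 then (eT_324_326 j) else (eT_326_329 j)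
def eT_330_332 (j : ℕ) : ℕ := bif Nat.blt j 331 then E_330 else E_331
def eT_329_332 (j : ℕ) : ℕ := bif Nat.blt j 330 then E_329 else (eT_330_332 j)
def eT_333_335 (j : ℕ) : ℕ := bif Nat.blt j 334 then E_333 else E_334
def eT_332_335 (j : ℕ) : ℕ := bif Nat.blt j 333 then E_332 else (eT_333_335 j)
def eT_329_335 (j : ℕ) : ℕ := bif Nat.blt j 332 then (eT_329_332 j) else (eT_332_335 j)
def eT_324_335 (j : ℕ) : ℕ := bif Nat.blt j 329 then (eT_324_329 j) else (eT_329_335 j)
def eT_314_335 (j : ℕ) : ℕ := bif Nat.blt j 324 then (eT_314_324 j) else (eT_324_335 j)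
def eT_293_335 (j : ℕ) : ℕ := bif Nat.blt j 314 then (eT_293_314 j) else (eT_314_335 j)
def eT_251_335 (j : ℕ) : ℕ := bif Nat.blt j 293 then (eT_251_293 j) else (eT_293_335 j)
def eT_167_335 (j : ℕ) : ℕ := bif Nat.blt j 251 then (eT_167_251 j) else (eT_251_335 j)
def eT_0_335 (j : ℕ) : ℕ := bif Nat.blt j 167 then (eT_0_167 j) else (eT_167_335 j)
def eT_335_337 (j : ℕ) : ℕ := bif Nat.blt j 336 then E_335 else E_336
def eT_338_340 (j : ℕ) : ℕ := bif Nat.blt j 339 then E_338 else E_339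
def eT_337_340 (j : ℕ) : ℕ := bif Nat.blt j 338 then E_337 else (eT_338_340 j)
def eT_335_340 (j : ℕ) : ℕ := bif Nat.blt j 337 then (eT_335_337 j) else (eT_337_340 j)
def eT_340_342 (j : ℕ) : ℕ := bif Nat.blt j 341 then E_340 else E_341
def eT_343_345 (j : ℕ) : ℕ := bif Nat.blt j 344 then E_343 else E_344
def eT_342_345 (j : ℕ) : ℕ := bif Nat.blt j 343 then E_342 else (eT_343_345 j)
def eT_340_345 (j : ℕ) : ℕ := bif Nat.blt j 342 then (eT_340_342 j) else (eT_342_345 j)
def eT_335_345 (j : ℕ) : ℕ := bif Nat.blt j 340 then (eT_335_340 j) else (eT_340_345 j)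
def eT_345_347 (j : ℕ) : ℕ := bif Nat.blt j 346 then E_345 else E_346
def eT_348_350 (j : ℕ) : ℕ := bif Nat.blt j 349 then E_348 else E_349
def eT_347_350 (j : ℕ) : ℕ := bif Nat.blt j 348 then E_347 else (eT_348_350 j)
def eT_345_350 (j : ℕ) : ℕ := bif Nat.blt j 347 then (eT_345_347 j) else (eT_347_350 j)
def eT_350_352 (j : ℕ) : ℕ := bif Nat.blt j 351 then E_350 else E_351
def eT_353_355 (j : ℕ) : ℕ := bif Nat.blt j 354 then E_353 else E_354
def eT_352_355 (j : ℕ) : ℕ := bif Nat.blt j 353 then E_352 else (eT_353_355 j)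
def eT_350_355 (j : ℕ) : ℕ := bif Nat.blt j 352 then (eT_350_352 j) else (eT_352_355 j)
def eT_345_355 (j : ℕ) : ℕ := bif Nat.blt j 350 then (eT_345_350 j) else (eT_350_355 j)
def eT_335_355 (j : ℕ) : ℕ := bif Nat.blt j 345 then (eT_335_345 j) else (eT_345_355 j)
def eT_355_357 (j : ℕ) : ℕ := bif Nat.blt j 356 then E_355 else E_356
def eT_358_360 (j : ℕ) : ℕ := bif Nat.blt j 359 then E_358 else E_359
def eT_357_360 (j : ℕ) : ℕ := bif Nat.blt j 358 then E_357 else (eT_358_360 j)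
def eT_355_360 (j : ℕ) : ℕ := bif Nat.blt j 357 then (eT_355_357 j) else (eT_357_360 j)
def eT_360_362 (j : ℕ) : ℕ := bif Nat.blt j 361 then E_360 else E_361
def eT_363_365 (j : ℕ) : ℕ := bif Nat.blt j 364 then E_363 else E_364
def eT_362_365 (j : ℕ) : ℕ := bif Nat.blt j 363 then E_362 else (eT_363_365 j)
def eT_360_365 (j : ℕ) : ℕ := bif Nat.blt j 362 then (eT_360_362 j) else (eT_362_365 j)
def eT_355_365 (j : ℕ) : ℕ := bif Nat.blt j 360 then (eT_355_360 j) else (eT_360_365 j)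
def eT_365_367 (j : ℕ) : ℕ := bif Nat.blt j 366 then E_365 else E_366
def eT_368_370 (j : ℕ) : ℕ := bif Nat.blt j 369 then E_368 else E_369
def eT_367_370 (j : ℕ) : ℕ := bif Nat.blt j 368 then E_367 else (eT_368_370 j)
def eT_365_370 (j : ℕ) : ℕ := bif Nat.blt j 367 then (eT_365_367 j) else (eT_367_370 j)
def eT_371_373 (j : ℕ) : ℕ := bif Nat.blt j 372 then E_371 else E_372
def eT_370_373 (j : ℕ) : ℕ := bif Nat.blt j 371 then E_370 else (eT_371_373 j)
def eT_374_376 (j : ℕ) : ℕ := bif Nat.blt j 375 then E_374 else E_375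
def eT_373_376 (j : ℕ) : ℕ := bif Nat.blt j 374 then E_373 else (eT_374_376 j)
def eT_370_376 (j : ℕ) : ℕ := bif Nat.blt j 373 then (eT_370_373 j) else (eT_373_376 j)
def eT_365_376 (j : ℕ) : ℕ := bif Nat.blt j 370 then (eT_365_370 j) else (eT_370_376 j)
def eT_355_376 (j : ℕ) : ℕ := bif Nat.blt j 365 then (eT_355_365 j) else (eT_365_376 j)
def eT_335_376 (j : ℕ) : ℕ := bif Nat.blt j 355 then (eT_335_355 j) else (eT_355_376 j)
def eT_376_378 (j : ℕ) : ℕ := bif Nat.blt j 377 then E_376 else E_377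
def eT_379_381 (j : ℕ) : ℕ := bif Nat.blt j 380 then E_379 else E_380
def eT_378_381 (j : ℕ) : ℕ := bif Nat.blt j 379 then E_378 else (eT_379_381 j)
def eT_376_381 (j : ℕ) : ℕ := bif Nat.blt j 378 then (eT_376_378 j) else (eT_378_381 j)
def eT_381_383 (j : ℕ) : ℕ := bif Nat.blt j 382 then E_381 else E_382
def eT_384_386 (j : ℕ) : ℕ := bif Nat.blt j 385 then E_384 else E_385
def eT_383_386 (j : ℕ) : ℕ := bif Nat.blt j 384 then E_383 else (eT_384_386 j)
def eT_381_386 (j : ℕ) : ℕ := bif Nat.blt j 383 then (eT_381_383 j) else (eT_383_386 j)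
def eT_376_386 (j : ℕ) : ℕ := bif Nat.blt j 381 then (eT_376_381 j) else (eT_381_386 j)
def eT_386_388 (j : ℕ) : ℕ := bif Nat.blt j 387 then E_386 else E_387
def eT_389_391 (j : ℕ) : ℕ := bif Nat.blt j 390 then E_389 else E_390
def eT_388_391 (j : ℕ) : ℕ := bif Nat.blt j 389 then E_388 else (eT_389_391 j)
def eT_386_391 (j : ℕ) : ℕ := bif Nat.blt j 388 then (eT_386_388 j) else (eT_388_391 j)
def eT_392_394 (j : ℕ) : ℕ := bif Nat.blt j 393 then E_392 else E_393
def eT_391_394 (j : ℕ) : ℕ := bif Nat.blt j 392 then E_391 else (eT_392_394 j)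
def eT_395_397 (j : ℕ) : ℕ := bif Nat.blt j 396 then E_395 else E_396
def eT_394_397 (j : ℕ) : ℕ := bif Nat.blt j 395 then E_394 else (eT_395_397 j)
def eT_391_397 (j : ℕ) : ℕ := bif Nat.blt j 394 then (eT_391_394 j) else (eT_394_397 j)
def eT_386_397 (j : ℕ) : ℕ := bif Nat.blt j 391 then (eT_386_391 j) else (eT_391_397 j)
def eT_376_397 (j : ℕ) : ℕ := bif Nat.blt j 386 then (eT_376_386 j) else (eT_386_397 j)
def eT_397_399 (j : ℕ) : ℕ := bif Nat.blt j 398 then E_397 else E_398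
def eT_400_402 (j : ℕ) : ℕ := bif Nat.blt j 401 then E_400 else E_401
def eT_399_402 (j : ℕ) : ℕ := bif Nat.blt j 400 then E_399 else (eT_400_402 j)
def eT_397_402 (j : ℕ) : ℕ := bif Nat.blt j 399 then (eT_397_399 j) else (eT_399_402 j)
def eT_402_404 (j : ℕ) : ℕ := bif Nat.blt j 403 then E_402 else E_403
def eT_405_407 (j : ℕ) : ℕ := bif Nat.blt j 406 then E_405 else E_406
def eT_404_407 (j : ℕ) : ℕ := bif Nat.blt j 405 then E_404 else (eT_405_407 j)
def eT_402_407 (j : ℕ) : ℕ := bif Nat.blt j 404 then (eT_402_404 j) else (eT_404_407 j)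
def eT_397_407 (j : ℕ) : ℕ := bif Nat.blt j 402 then (eT_397_402 j) else (eT_402_407 j)
def eT_407_409 (j : ℕ) : ℕ := bif Nat.blt j 408 then E_407 else E_408
def eT_410_412 (j : ℕ) : ℕ := bif Nat.blt j 411 then E_410 else E_411
def eT_409_412 (j : ℕ) : ℕ := bif Nat.blt j 410 then E_409 else (eT_410_412 j)
def eT_407_412 (j : ℕ) : ℕ := bif Nat.blt j 409 then (eT_407_409 j) else (eT_409_412 j)
def eT_413_415 (j : ℕ) : ℕ := bif Nat.blt j 414 then E_413 else E_414
def eT_412_415 (j : ℕ) : ℕ := bif Nat.blt j 413 then E_412 else (eT_413_415 j)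
def eT_416_418 (j : ℕ) : ℕ := bif Nat.blt j 417 then E_416 else E_417
def eT_415_418 (j : ℕ) : ℕ := bif Nat.blt j 416 then E_415 else (eT_416_418 j)
def eT_412_418 (j : ℕ) : ℕ := bif Nat.blt j 415 then (eT_412_415 j) else (eT_415_418 j)
def eT_407_418 (j : ℕ) : ℕ := bif Nat.blt j 412 then (eT_407_412 j) else (eT_412_418 j)
def eT_397_418 (j : ℕ) : ℕ := bif Nat.blt j 407 then (eT_397_407 j) else (eT_407_418 j)
def eT_376_418 (j : ℕ) : ℕ := bif Nat.blt j 397 then (eT_376_397 j) else (eT_397_418 j)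
def eT_335_418 (j : ℕ) : ℕ := bif Nat.blt j 376 then (eT_335_376 j) else (eT_376_418 j)
def eT_418_420 (j : ℕ) : ℕ := bif Nat.blt j 419 then E_418 else E_419
def eT_421_423 (j : ℕ) : ℕ := bif Nat.blt j 422 then E_421 else E_422
def eT_420_423 (j : ℕ) : ℕ := bif Nat.blt j 421 then E_420 else (eT_421_423 j)
def eT_418_423 (j : ℕ) : ℕ := bif Nat.blt j 420 then (eT_418_420 j) else (eT_420_423 j)
def eT_423_425 (j : ℕ) : ℕ := bif Nat.blt j 424 then E_423 else E_424
def eT_426_428 (j : ℕ) : ℕ := bif Nat.blt j 427 then E_426 else E_427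
def eT_425_428 (j : ℕ) : ℕ := bif Nat.blt j 426 then E_425 else (eT_426_428 j)
def eT_423_428 (j : ℕ) : ℕ := bif Nat.blt j 425 then (eT_423_425 j) else (eT_425_428 j)
def eT_418_428 (j : ℕ) : ℕ := bif Nat.blt j 423 then (eT_418_423 j) else (eT_423_428 j)
def eT_428_430 (j : ℕ) : ℕ := bif Nat.blt j 429 then E_428 else E_429
def eT_431_433 (j : ℕ) : ℕ := bif Nat.blt j 432 then E_431 else E_432
def eT_430_433 (j : ℕ) : ℕ := bif Nat.blt j 431 then E_430 else (eT_431_433 j)
def eT_428_433 (j : ℕ) : ℕ := bif Nat.blt j 430 then (eT_428_430 j) else (eT_430_433 j)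
def eT_434_436 (j : ℕ) : ℕ := bif Nat.blt j 435 then E_434 else E_435
def eT_433_436 (j : ℕ) : ℕ := bif Nat.blt j 434 then E_433 else (eT_434_436 j)
def eT_437_439 (j : ℕ) : ℕ := bif Nat.blt j 438 then E_437 else E_438
def eT_436_439 (j : ℕ) : ℕ := bif Nat.blt j 437 then E_436 else (eT_437_439 j)
def eT_433_439 (j : ℕ) : ℕ := bif Nat.blt j 436 then (eT_433_436 j) else (eT_436_439 j)
def eT_428_439 (j : ℕ) : ℕ := bif Nat.blt j 433 then (eT_428_433 j) else (eT_433_439 j)
def eT_418_439 (j : ℕ) : ℕ := bif Nat.blt j 428 then (eT_418_428 j) else (eT_428_439 j)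
def eT_439_441 (j : ℕ) : ℕ := bif Nat.blt j 440 then E_439 else E_440
def eT_442_444 (j : ℕ) : ℕ := bif Nat.blt j 443 then E_442 else E_443
def eT_441_444 (j : ℕ) : ℕ := bif Nat.blt j 442 then E_441 else (eT_442_444 j)
def eT_439_444 (j : ℕ) : ℕ := bif Nat.blt j 441 then (eT_439_441 j) else (eT_441_444 j)
def eT_444_446 (j : ℕ) : ℕ := bif Nat.blt j 445 then E_444 else E_445
def eT_447_449 (j : ℕ) : ℕ := bif Nat.blt j 448 then E_447 else E_448
def eT_446_449 (j : ℕ) : ℕ := bif Nat.blt j 447 then E_446 else (eT_447_449 j)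
def eT_444_449 (j : ℕ) : ℕ := bif Nat.blt j 446 then (eT_444_446 j) else (eT_446_449 j)
def eT_439_449 (j : ℕ) : ℕ := bif Nat.blt j 444 then (eT_439_444 j) else (eT_444_449 j)
def eT_449_451 (j : ℕ) : ℕ := bif Nat.blt j 450 then E_449 else E_450
def eT_452_454 (j : ℕ) : ℕ := bif Nat.blt j 453 then E_452 else E_453
def eT_451_454 (j : ℕ) : ℕ := bif Nat.blt j 452 then E_451 else (eT_452_454 j)
def eT_449_454 (j : ℕ) : ℕ := bif Nat.blt j 451 then (eT_449_451 j) else (eT_451_454 j)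
def eT_455_457 (j : ℕ) : ℕ := bif Nat.blt j 456 then E_455 else E_456
def eT_454_457 (j : ℕ) : ℕ := bif Nat.blt j 455 then E_454 else (eT_455_457 j)
def eT_458_460 (j : ℕ) : ℕ := bif Nat.blt j 459 then E_458 else E_459
def eT_457_460 (j : ℕ) : ℕ := bif Nat.blt j 458 then E_457 else (eT_458_460 j)
def eT_454_460 (j : ℕ) : ℕ := bif Nat.blt j 457 then (eT_454_457 j) else (eT_457_460 j)
def eT_449_460 (j : ℕ) : ℕ := bif Nat.blt j 454 then (eT_449_454 j) else (eT_454_460 j)
def eT_439_460 (j : ℕ) : ℕ := bif Nat.blt j 449 then (eT_439_449 j) else (eT_449_460 j)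
def eT_418_460 (j : ℕ) : ℕ := bif Nat.blt j 439 then (eT_418_439 j) else (eT_439_460 j)
def eT_460_462 (j : ℕ) : ℕ := bif Nat.blt j 461 then E_460 else E_461
def eT_463_465 (j : ℕ) : ℕ := bif Nat.blt j 464 then E_463 else E_464
def eT_462_465 (j : ℕ) : ℕ := bif Nat.blt j 463 then E_462 else (eT_463_465 j)
def eT_460_465 (j : ℕ) : ℕ := bif Nat.blt j 462 then (eT_460_462 j) else (eT_462_465 j)
def eT_465_467 (j : ℕ) : ℕ := bif Nat.blt j 466 then E_465 else E_466
def eT_468_470 (j : ℕ) : ℕ := bif Nat.blt j 469 then E_468 else E_469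
def eT_467_470 (j : ℕ) : ℕ := bif Nat.blt j 468 then E_467 else (eT_468_470 j)
def eT_465_470 (j : ℕ) : ℕ := bif Nat.blt j 467 then (eT_465_467 j) else (eT_467_470 j)
def eT_460_470 (j : ℕ) : ℕ := bif Nat.blt j 465 then (eT_460_465 j) else (eT_465_470 j)
def eT_470_472 (j : ℕ) : ℕ := bif Nat.blt j 471 then E_470 else E_471
def eT_473_475 (j : ℕ) : ℕ := bif Nat.blt j 474 then E_473 else E_474
def eT_472_475 (j : ℕ) : ℕ := bif Nat.blt j 473 then E_472 else (eT_473_475 j)
def eT_470_475 (j : ℕ) : ℕ := bif Nat.blt j 472 then (eT_470_472 j) else (eT_472_475 j)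
def eT_476_478 (j : ℕ) : ℕ := bif Nat.blt j 477 then E_476 else E_477
def eT_475_478 (j : ℕ) : ℕ := bif Nat.blt j 476 then E_475 else (eT_476_478 j)
def eT_479_481 (j : ℕ) : ℕ := bif Nat.blt j 480 then E_479 else E_480
def eT_478_481 (j : ℕ) : ℕ := bif Nat.blt j 479 then E_478 else (eT_479_481 j)
def eT_475_481 (j : ℕ) : ℕ := bif Nat.blt j 478 then (eT_475_478 j) else (eT_478_481 j)
def eT_470_481 (j : ℕ) : ℕ := bif Nat.blt j 475 then (eT_470_475 j) else (eT_475_481 j)
def eT_460_481 (j : ℕ) : ℕ := bif Nat.blt j 470 then (eT_460_470 j) else (eT_470_481 j)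
def eT_481_483 (j : ℕ) : ℕ := bif Nat.blt j 482 then E_481 else E_482
def eT_484_486 (j : ℕ) : ℕ := bif Nat.blt j 485 then E_484 else E_485
def eT_483_486 (j : ℕ) : ℕ := bif Nat.blt j 484 then E_483 else (eT_484_486 j)
def eT_481_486 (j : ℕ) : ℕ := bif Nat.blt j 483 then (eT_481_483 j) else (eT_483_486 j)
def eT_486_488 (j : ℕ) : ℕ := bif Nat.blt j 487 then E_486 else E_487
def eT_489_491 (j : ℕ) : ℕ := bif Nat.blt j 490 then E_489 else E_490
def eT_488_491 (j : ℕ) : ℕ := bif Nat.blt j 489 then E_488 else (eT_489_491 j)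
def eT_486_491 (j : ℕ) : ℕ := bif Nat.blt j 488 then (eT_486_488 j) else (eT_488_491 j)
def eT_481_491 (j : ℕ) : ℕ := bif Nat.blt j 486 then (eT_481_486 j) else (eT_486_491 j)
def eT_491_493 (j : ℕ) : ℕ := bif Nat.blt j 492 then E_491 else E_492
def eT_494_496 (j : ℕ) : ℕ := bif Nat.blt j 495 then E_494 else E_495
def eT_493_496 (j : ℕ) : ℕ := bif Nat.blt j 494 then E_493 else (eT_494_496 j)
def eT_491_496 (j : ℕ) : ℕ := bif Nat.blt j 493 then (eT_491_493 j) else (eT_493_496 j)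
def eT_497_499 (j : ℕ) : ℕ := bif Nat.blt j 498 then E_497 else E_498
def eT_496_499 (j : ℕ) : ℕ := bif Nat.blt j 497 then E_496 else (eT_497_499 j)
def eT_500_502 (j : ℕ) : ℕ := bif Nat.blt j 501 then E_500 else E_501
def eT_499_502 (j : ℕ) : ℕ := bif Nat.blt j 500 then E_499 else (eT_500_502 j)
def eT_496_502 (j : ℕ) : ℕ := bif Nat.blt j 499 then (eT_496_499 j) else (eT_499_502 j)
def eT_491_502 (j : ℕ) : ℕ := bif Nat.blt j 496 then (eT_491_496 j) else (eT_496_502 j)
def eT_481_502 (j : ℕ) : ℕ := bif Nat.blt j 491 then (eT_481_491 j) else (eT_491_502 j)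
def eT_460_502 (j : ℕ) : ℕ := bif Nat.blt j 481 then (eT_460_481 j) else (eT_481_502 j)
def eT_418_502 (j : ℕ) : ℕ := bif Nat.blt j 460 then (eT_418_460 j) else (eT_460_502 j)
def eT_335_502 (j : ℕ) : ℕ := bif Nat.blt j 418 then (eT_335_418 j) else (eT_418_502 j)
def eT_502_504 (j : ℕ) : ℕ := bif Nat.blt j 503 then E_502 else E_503
def eT_505_507 (j : ℕ) : ℕ := bif Nat.blt j 506 then E_505 else E_506
def eT_504_507 (j : ℕ) : ℕ := bif Nat.blt j 505 then E_504 else (eT_505_507 j)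
def eT_502_507 (j : ℕ) : ℕ := bif Nat.blt j 504 then (eT_502_504 j) else (eT_504_507 j)
def eT_507_509 (j : ℕ) : ℕ := bif Nat.blt j 508 then E_507 else E_508
def eT_510_512 (j : ℕ) : ℕ := bif Nat.blt j 511 then E_510 else E_511
def eT_509_512 (j : ℕ) : ℕ := bif Nat.blt j 510 then E_509 else (eT_510_512 j)
def eT_507_512 (j : ℕ) : ℕ := bif Nat.blt j 509 then (eT_507_509 j) else (eT_509_512 j)
def eT_502_512 (j : ℕ) : ℕ := bif Nat.blt j 507 then (eT_502_507 j) else (eT_507_512 j)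
def eT_512_514 (j : ℕ) : ℕ := bif Nat.blt j 513 then E_512 else E_513
def eT_515_517 (j : ℕ) : ℕ := bif Nat.blt j 516 then E_515 else E_516
def eT_514_517 (j : ℕ) : ℕ := bif Nat.blt j 515 then E_514 else (eT_515_517 j)
def eT_512_517 (j : ℕ) : ℕ := bif Nat.blt j 514 then (eT_512_514 j) else (eT_514_517 j)
def eT_518_520 (j : ℕ) : ℕ := bif Nat.blt j 519 then E_518 else E_519
def eT_517_520 (j : ℕ) : ℕ := bif Nat.blt j 518 then E_517 else (eT_518_520 j)
def eT_521_523 (j : ℕ) : ℕ := bif Nat.blt j 522 then E_521 else E_522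
def eT_520_523 (j : ℕ) : ℕ := bif Nat.blt j 521 then E_520 else (eT_521_523 j)
def eT_517_523 (j : ℕ) : ℕ := bif Nat.blt j 520 then (eT_517_520 j) else (eT_520_523 j)
def eT_512_523 (j : ℕ) : ℕ := bif Nat.blt j 517 then (eT_512_517 j) else (eT_517_523 j)
def eT_502_523 (j : ℕ) : ℕ := bif Nat.blt j 512 then (eT_502_512 j) else (eT_512_523 j)
def eT_523_525 (j : ℕ) : ℕ := bif Nat.blt j 524 then E_523 else E_524
def eT_526_528 (j : ℕ) : ℕ := bif Nat.blt j 527 then E_526 else E_527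
def eT_525_528 (j : ℕ) : ℕ := bif Nat.blt j 526 then E_525 else (eT_526_528 j)
def eT_523_528 (j : ℕ) : ℕ := bif Nat.blt j 525 then (eT_523_525 j) else (eT_525_528 j)
def eT_528_530 (j : ℕ) : ℕ := bif Nat.blt j 529 then E_528 else E_529
def eT_531_533 (j : ℕ) : ℕ := bif Nat.blt j 532 then E_531 else E_532
def eT_530_533 (j : ℕ) : ℕ := bif Nat.blt j 531 then E_530 else (eT_531_533 j)
def eT_528_533 (j : ℕ) : ℕ := bif Nat.blt j 530 then (eT_528_530 j) else (eT_530_533 j)
def eT_523_533 (j : ℕ) : ℕ := bif Nat.blt j 528 then (eT_523_528 j) else (eT_528_533 j)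
def eT_533_535 (j : ℕ) : ℕ := bif Nat.blt j 534 then E_533 else E_534
def eT_536_538 (j : ℕ) : ℕ := bif Nat.blt j 537 then E_536 else E_537
def eT_535_538 (j : ℕ) : ℕ := bif Nat.blt j 536 then E_535 else (eT_536_538 j)
def eT_533_538 (j : ℕ) : ℕ := bif Nat.blt j 535 then (eT_533_535 j) else (eT_535_538 j)
def eT_539_541 (j : ℕ) : ℕ := bif Nat.blt j 540 then E_539 else E_540
def eT_538_541 (j : ℕ) : ℕ := bif Nat.blt j 539 then E_538 else (eT_539_541 j)
def eT_542_544 (j : ℕ) : ℕ := bif Nat.blt j 543 then E_542 else E_543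
def eT_541_544 (j : ℕ) : ℕ := bif Nat.blt j 542 then E_541 else (eT_542_544 j)
def eT_538_544 (j : ℕ) : ℕ := bif Nat.blt j 541 then (eT_538_541 j) else (eT_541_544 j)
def eT_533_544 (j : ℕ) : ℕ := bif Nat.blt j 538 then (eT_533_538 j) else (eT_538_544 j)
def eT_523_544 (j : ℕ) : ℕ := bif Nat.blt j 533 then (eT_523_533 j) else (eT_533_544 j)
def eT_502_544 (j : ℕ) : ℕ := bif Nat.blt j 523 then (eT_502_523 j) else (eT_523_544 j)
def eT_544_546 (j : ℕ) : ℕ := bif Nat.blt j 545 then E_544 else E_545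
def eT_547_549 (j : ℕ) : ℕ := bif Nat.blt j 548 then E_547 else E_548
def eT_546_549 (j : ℕ) : ℕ := bif Nat.blt j 547 then E_546 else (eT_547_549 j)
def eT_544_549 (j : ℕ) : ℕ := bif Nat.blt j 546 then (eT_544_546 j) else (eT_546_549 j)
def eT_549_551 (j : ℕ) : ℕ := bif Nat.blt j 550 then E_549 else E_550
def eT_552_554 (j : ℕ) : ℕ := bif Nat.blt j 553 then E_552 else E_553
def eT_551_554 (j : ℕ) : ℕ := bif Nat.blt j 552 then E_551 else (eT_552_554 j)
def eT_549_554 (j : ℕ) : ℕ := bif Nat.blt j 551 then (eT_549_551 j) else (eT_551_554 j)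
def eT_544_554 (j : ℕ) : ℕ := bif Nat.blt j 549 then (eT_544_549 j) else (eT_549_554 j)
def eT_554_556 (j : ℕ) : ℕ := bif Nat.blt j 555 then E_554 else E_555
def eT_557_559 (j : ℕ) : ℕ := bif Nat.blt j 558 then E_557 else E_558
def eT_556_559 (j : ℕ) : ℕ := bif Nat.blt j 557 then E_556 else (eT_557_559 j)
def eT_554_559 (j : ℕ) : ℕ := bif Nat.blt j 556 then (eT_554_556 j) else (eT_556_559 j)
def eT_560_562 (j : ℕ) : ℕ := bif Nat.blt j 561 then E_560 else E_561
def eT_559_562 (j : ℕ) : ℕ := bif Nat.blt j 560 then E_559 else (eT_560_562 j)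
def eT_563_565 (j : ℕ) : ℕ := bif Nat.blt j 564 then E_563 else E_564
def eT_562_565 (j : ℕ) : ℕ := bif Nat.blt j 563 then E_562 else (eT_563_565 j)
def eT_559_565 (j : ℕ) : ℕ := bif Nat.blt j 562 then (eT_559_562 j) else (eT_562_565 j)
def eT_554_565 (j : ℕ) : ℕ := bif Nat.blt j 559 then (eT_554_559 j) else (eT_559_565 j)
def eT_544_565 (j : ℕ) : ℕ := bif Nat.blt j 554 then (eT_544_554 j) else (eT_554_565 j)
def eT_565_567 (j : ℕ) : ℕ := bif Nat.blt j 566 then E_565 else E_566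
def eT_568_570 (j : ℕ) : ℕ := bif Nat.blt j 569 then E_568 else E_569
def eT_567_570 (j : ℕ) : ℕ := bif Nat.blt j 568 then E_567 else (eT_568_570 j)
def eT_565_570 (j : ℕ) : ℕ := bif Nat.blt j 567 then (eT_565_567 j) else (eT_567_570 j)
def eT_570_572 (j : ℕ) : ℕ := bif Nat.blt j 571 then E_570 else E_571
def eT_573_575 (j : ℕ) : ℕ := bif Nat.blt j 574 then E_573 else E_574
def eT_572_575 (j : ℕ) : ℕ := bif Nat.blt j 573 then E_572 else (eT_573_575 j)
def eT_570_575 (j : ℕ) : ℕ := bif Nat.blt j 572 then (eT_570_572 j) else (eT_572_575 j)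
def eT_565_575 (j : ℕ) : ℕ := bif Nat.blt j 570 then (eT_565_570 j) else (eT_570_575 j)
def eT_575_577 (j : ℕ) : ℕ := bif Nat.blt j 576 then E_575 else E_576
def eT_578_580 (j : ℕ) : ℕ := bif Nat.blt j 579 then E_578 else E_579
def eT_577_580 (j : ℕ) : ℕ := bif Nat.blt j 578 then E_577 else (eT_578_580 j)
def eT_575_580 (j : ℕ) : ℕ := bif Nat.blt j 577 then (eT_575_577 j) else (eT_577_580 j)
def eT_581_583 (j : ℕ) : ℕ := bif Nat.blt j 582 then E_581 else E_582
def eT_580_583 (j : ℕ) : ℕ := bif Nat.blt j 581 then E_580 else (eT_581_583 j)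
def eT_584_586 (j : ℕ) : ℕ := bif Nat.blt j 585 then E_584 else E_585
def eT_583_586 (j : ℕ) : ℕ := bif Nat.blt j 584 then E_583 else (eT_584_586 j)
def eT_580_586 (j : ℕ) : ℕ := bif Nat.blt j 583 then (eT_580_583 j) else (eT_583_586 j)
def eT_575_586 (j : ℕ) : ℕ := bif Nat.blt j 580 then (eT_575_580 j) else (eT_580_586 j)
def eT_565_586 (j : ℕ) : ℕ := bif Nat.blt j 575 then (eT_565_575 j) else (eT_575_586 j)
def eT_544_586 (j : ℕ) : ℕ := bif Nat.blt j 565 then (eT_544_565 j) else (eT_565_586 j)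
def eT_502_586 (j : ℕ) : ℕ := bif Nat.blt j 544 then (eT_502_544 j) else (eT_544_586 j)
def eT_586_588 (j : ℕ) : ℕ := bif Nat.blt j 587 then E_586 else E_587
def eT_589_591 (j : ℕ) : ℕ := bif Nat.blt j 590 then E_589 else E_590
def eT_588_591 (j : ℕ) : ℕ := bif Nat.blt j 589 then E_588 else (eT_589_591 j)
def eT_586_591 (j : ℕ) : ℕ := bif Nat.blt j 588 then (eT_586_588 j) else (eT_588_591 j)
def eT_591_593 (j : ℕ) : ℕ := bif Nat.blt j 592 then E_591 else E_592
def eT_594_596 (j : ℕ) : ℕ := bif Nat.blt j 595 then E_594 else E_595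
def eT_593_596 (j : ℕ) : ℕ := bif Nat.blt j 594 then E_593 else (eT_594_596 j)
def eT_591_596 (j : ℕ) : ℕ := bif Nat.blt j 593 then (eT_591_593 j) else (eT_593_596 j)
def eT_586_596 (j : ℕ) : ℕ := bif Nat.blt j 591 then (eT_586_591 j) else (eT_591_596 j)
def eT_596_598 (j : ℕ) : ℕ := bif Nat.blt j 597 then E_596 else E_597
def eT_599_601 (j : ℕ) : ℕ := bif Nat.blt j 600 then E_599 else E_600
def eT_598_601 (j : ℕ) : ℕ := bif Nat.blt j 599 then E_598 else (eT_599_601 j)
def eT_596_601 (j : ℕ) : ℕ := bif Nat.blt j 598 then (eT_596_598 j) else (eT_598_601 j)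
def eT_602_604 (j : ℕ) : ℕ := bif Nat.blt j 603 then E_602 else E_603
def eT_601_604 (j : ℕ) : ℕ := bif Nat.blt j 602 then E_601 else (eT_602_604 j)
def eT_605_607 (j : ℕ) : ℕ := bif Nat.blt j 606 then E_605 else E_606
def eT_604_607 (j : ℕ) : ℕ := bif Nat.blt j 605 then E_604 else (eT_605_607 j)
def eT_601_607 (j : ℕ) : ℕ := bif Nat.blt j 604 then (eT_601_604 j) else (eT_604_607 j)
def eT_596_607 (j : ℕ) : ℕ := bif Nat.blt j 601 then (eT_596_601 j) else (eT_601_607 j)
def eT_586_607 (j : ℕ) : ℕ := bif Nat.blt j 596 then (eT_586_596 j) else (eT_596_607 j)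
def eT_607_609 (j : ℕ) : ℕ := bif Nat.blt j 608 then E_607 else E_608
def eT_610_612 (j : ℕ) : ℕ := bif Nat.blt j 611 then E_610 else E_611
def eT_609_612 (j : ℕ) : ℕ := bif Nat.blt j 610 then E_609 else (eT_610_612 j)
def eT_607_612 (j : ℕ) : ℕ := bif Nat.blt j 609 then (eT_607_609 j) else (eT_609_612 j)
def eT_612_614 (j : ℕ) : ℕ := bif Nat.blt j 613 then E_612 else E_613
def eT_615_617 (j : ℕ) : ℕ := bif Nat.blt j 616 then E_615 else E_616
def eT_614_617 (j : ℕ) : ℕ := bif Nat.blt j 615 then E_614 else (eT_615_617 j)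
def eT_612_617 (j : ℕ) : ℕ := bif Nat.blt j 614 then (eT_612_614 j) else (eT_614_617 j)
def eT_607_617 (j : ℕ) : ℕ := bif Nat.blt j 612 then (eT_607_612 j) else (eT_612_617 j)
def eT_617_619 (j : ℕ) : ℕ := bif Nat.blt j 618 then E_617 else E_618
def eT_620_622 (j : ℕ) : ℕ := bif Nat.blt j 621 then E_620 else E_621
def eT_619_622 (j : ℕ) : ℕ := bif Nat.blt j 620 then E_619 else (eT_620_622 j)
def eT_617_622 (j : ℕ) : ℕ := bif Nat.blt j 619 then (eT_617_619 j) else (eT_619_622 j)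
def eT_623_625 (j : ℕ) : ℕ := bif Nat.blt j 624 then E_623 else E_624
def eT_622_625 (j : ℕ) : ℕ := bif Nat.blt j 623 then E_622 else (eT_623_625 j)
def eT_626_628 (j : ℕ) : ℕ := bif Nat.blt j 627 then E_626 else E_627
def eT_625_628 (j : ℕ) : ℕ := bif Nat.blt j 626 then E_625 else (eT_626_628 j)
def eT_622_628 (j : ℕ) : ℕ := bif Nat.blt j 625 then (eT_622_625 j) else (eT_625_628 j)
def eT_617_628 (j : ℕ) : ℕ := bif Nat.blt j 622 then (eT_617_622 j) else (eT_622_628 j)
def eT_607_628 (j : ℕ) : ℕ := bif Nat.blt j 617 then (eT_607_617 j) else (eT_617_628 j)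
def eT_586_628 (j : ℕ) : ℕ := bif Nat.blt j 607 then (eT_586_607 j) else (eT_607_628 j)
def eT_628_630 (j : ℕ) : ℕ := bif Nat.blt j 629 then E_628 else E_629
def eT_631_633 (j : ℕ) : ℕ := bif Nat.blt j 632 then E_631 else E_632
def eT_630_633 (j : ℕ) : ℕ := bif Nat.blt j 631 then E_630 else (eT_631_633 j)
def eT_628_633 (j : ℕ) : ℕ := bif Nat.blt j 630 then (eT_628_630 j) else (eT_630_633 j)
def eT_633_635 (j : ℕ) : ℕ := bif Nat.blt j 634 then E_633 else E_634
def eT_636_638 (j : ℕ) : ℕ := bif Nat.blt j 637 then E_636 else E_637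
def eT_635_638 (j : ℕ) : ℕ := bif Nat.blt j 636 then E_635 else (eT_636_638 j)
def eT_633_638 (j : ℕ) : ℕ := bif Nat.blt j 635 then (eT_633_635 j) else (eT_635_638 j)
def eT_628_638 (j : ℕ) : ℕ := bif Nat.blt j 633 then (eT_628_633 j) else (eT_633_638 j)
def eT_638_640 (j : ℕ) : ℕ := bif Nat.blt j 639 then E_638 else E_639
def eT_641_643 (j : ℕ) : ℕ := bif Nat.blt j 642 then E_641 else E_642
def eT_640_643 (j : ℕ) : ℕ := bif Nat.blt j 641 then E_640 else (eT_641_643 j)
def eT_638_643 (j : ℕ) : ℕ := bif Nat.blt j 640 then (eT_638_640 j) else (eT_640_643 j)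
def eT_644_646 (j : ℕ) : ℕ := bif Nat.blt j 645 then E_644 else E_645
def eT_643_646 (j : ℕ) : ℕ := bif Nat.blt j 644 then E_643 else (eT_644_646 j)
def eT_647_649 (j : ℕ) : ℕ := bif Nat.blt j 648 then E_647 else E_648
def eT_646_649 (j : ℕ) : ℕ := bif Nat.blt j 647 then E_646 else (eT_647_649 j)
def eT_643_649 (j : ℕ) : ℕ := bif Nat.blt j 646 then (eT_643_646 j) else (eT_646_649 j)
def eT_638_649 (j : ℕ) : ℕ := bif Nat.blt j 643 then (eT_638_643 j) else (eT_643_649 j)
def eT_628_649 (j : ℕ) : ℕ := bif Nat.blt j 638 then (eT_628_638 j) else (eT_638_649 j)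
def eT_649_651 (j : ℕ) : ℕ := bif Nat.blt j 650 then E_649 else E_650
def eT_652_654 (j : ℕ) : ℕ := bif Nat.blt j 653 then E_652 else E_653
def eT_651_654 (j : ℕ) : ℕ := bif Nat.blt j 652 then E_651 else (eT_652_654 j)
def eT_649_654 (j : ℕ) : ℕ := bif Nat.blt j 651 then (eT_649_651 j) else (eT_651_654 j)
def eT_654_656 (j : ℕ) : ℕ := bif Nat.blt j 655 then E_654 else E_655
def eT_657_659 (j : ℕ) : ℕ := bif Nat.blt j 658 then E_657 else E_658
def eT_656_659 (j : ℕ) : ℕ := bif Nat.blt j 657 then E_656 else (eT_657_659 j)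
def eT_654_659 (j : ℕ) : ℕ := bif Nat.blt j 656 then (eT_654_656 j) else (eT_656_659 j)
def eT_649_659 (j : ℕ) : ℕ := bif Nat.blt j 654 then (eT_649_654 j) else (eT_654_659 j)
def eT_659_661 (j : ℕ) : ℕ := bif Nat.blt j 660 then E_659 else E_660
def eT_662_664 (j : ℕ) : ℕ := bif Nat.blt j 663 then E_662 else E_663
def eT_661_664 (j : ℕ) : ℕ := bif Nat.blt j 662 then E_661 else (eT_662_664 j)
def eT_659_664 (j : ℕ) : ℕ := bif Nat.blt j 661 then (eT_659_661 j) else (eT_661_664 j)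
def eT_665_667 (j : ℕ) : ℕ := bif Nat.blt j 666 then E_665 else E_666
def eT_664_667 (j : ℕ) : ℕ := bif Nat.blt j 665 then E_664 else (eT_665_667 j)
def eT_668_670 (j : ℕ) : ℕ := bif Nat.blt j 669 then E_668 else E_669
def eT_667_670 (j : ℕ) : ℕ := bif Nat.blt j 668 then E_667 else (eT_668_670 j)
def eT_664_670 (j : ℕ) : ℕ := bif Nat.blt j 667 then (eT_664_667 j) else (eT_667_670 j)
def eT_659_670 (j : ℕ) : ℕ := bif Nat.blt j 664 then (eT_659_664 j) else (eT_664_670 j)
def eT_649_670 (j : ℕ) : ℕ := bif Nat.blt j 659 then (eT_649_659 j) else (eT_659_670 j)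
def eT_628_670 (j : ℕ) : ℕ := bif Nat.blt j 649 then (eT_628_649 j) else (eT_649_670 j)
def eT_586_670 (j : ℕ) : ℕ := bif Nat.blt j 628 then (eT_586_628 j) else (eT_628_670 j)
def eT_502_670 (j : ℕ) : ℕ := bif Nat.blt j 586 then (eT_502_586 j) else (eT_586_670 j)
def eT_335_670 (j : ℕ) : ℕ := bif Nat.blt j 502 then (eT_335_502 j) else (eT_502_670 j)
def eT_0_670 (j : ℕ) : ℕ := bif Nat.blt j 335 then (eT_0_335 j) else (eT_335_670 j)
def eT_670_672 (j : ℕ) : ℕ := bif Nat.blt j 671 then E_670 else E_671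
def eT_673_675 (j : ℕ) : ℕ := bif Nat.blt j 674 then E_673 else E_674
def eT_672_675 (j : ℕ) : ℕ := bif Nat.blt j 673 then E_672 else (eT_673_675 j)
def eT_670_675 (j : ℕ) : ℕ := bif Nat.blt j 672 then (eT_670_672 j) else (eT_672_675 j)
def eT_675_677 (j : ℕ) : ℕ := bif Nat.blt j 676 then E_675 else E_676
def eT_678_680 (j : ℕ) : ℕ := bif Nat.blt j 679 then E_678 else E_679
def eT_677_680 (j : ℕ) : ℕ := bif Nat.blt j 678 then E_677 else (eT_678_680 j)
def eT_675_680 (j : ℕ) : ℕ := bif Nat.blt j 677 then (eT_675_677 j) else (eT_677_680 j)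
def eT_670_680 (j : ℕ) : ℕ := bif Nat.blt j 675 then (eT_670_675 j) else (eT_675_680 j)
def eT_680_682 (j : ℕ) : ℕ := bif Nat.blt j 681 then E_680 else E_681
def eT_683_685 (j : ℕ) : ℕ := bif Nat.blt j 684 then E_683 else E_684
def eT_682_685 (j : ℕ) : ℕ := bif Nat.blt j 683 then E_682 else (eT_683_685 j)
def eT_680_685 (j : ℕ) : ℕ := bif Nat.blt j 682 then (eT_680_682 j) else (eT_682_685 j)
def eT_685_687 (j : ℕ) : ℕ := bif Nat.blt j 686 then E_685 else E_686
def eT_688_690 (j : ℕ) : ℕ := bif Nat.blt j 689 then E_688 else E_689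
def eT_687_690 (j : ℕ) : ℕ := bif Nat.blt j 688 then E_687 else (eT_688_690 j)
def eT_685_690 (j : ℕ) : ℕ := bif Nat.blt j 687 then (eT_685_687 j) else (eT_687_690 j)
def eT_680_690 (j : ℕ) : ℕ := bif Nat.blt j 685 then (eT_680_685 j) else (eT_685_690 j)
def eT_670_690 (j : ℕ) : ℕ := bif Nat.blt j 680 then (eT_670_680 j) else (eT_680_690 j)
def eT_690_692 (j : ℕ) : ℕ := bif Nat.blt j 691 then E_690 else E_691
def eT_693_695 (j : ℕ) : ℕ := bif Nat.blt j 694 then E_693 else E_694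
def eT_692_695 (j : ℕ) : ℕ := bif Nat.blt j 693 then E_692 else (eT_693_695 j)
def eT_690_695 (j : ℕ) : ℕ := bif Nat.blt j 692 then (eT_690_692 j) else (eT_692_695 j)
def eT_695_697 (j : ℕ) : ℕ := bif Nat.blt j 696 then E_695 else E_696
def eT_698_700 (j : ℕ) : ℕ := bif Nat.blt j 699 then E_698 else E_699
def eT_697_700 (j : ℕ) : ℕ := bif Nat.blt j 698 then E_697 else (eT_698_700 j)
def eT_695_700 (j : ℕ) : ℕ := bif Nat.blt j 697 then (eT_695_697 j) else (eT_697_700 j)
def eT_690_700 (j : ℕ) : ℕ := bif Nat.blt j 695 then (eT_690_695 j) else (eT_695_700 j)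
def eT_700_702 (j : ℕ) : ℕ := bif Nat.blt j 701 then E_700 else E_701
def eT_703_705 (j : ℕ) : ℕ := bif Nat.blt j 704 then E_703 else E_704
def eT_702_705 (j : ℕ) : ℕ := bif Nat.blt j 703 then E_702 else (eT_703_705 j)
def eT_700_705 (j : ℕ) : ℕ := bif Nat.blt j 702 then (eT_700_702 j) else (eT_702_705 j)
def eT_706_708 (j : ℕ) : ℕ := bif Nat.blt j 707 then E_706 else E_707
def eT_705_708 (j : ℕ) : ℕ := bif Nat.blt j 706 then E_705 else (eT_706_708 j)
def eT_709_711 (j : ℕ) : ℕ := bif Nat.blt j 710 then E_709 else E_710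
def eT_708_711 (j : ℕ) : ℕ := bif Nat.blt j 709 then E_708 else (eT_709_711 j)
def eT_705_711 (j : ℕ) : ℕ := bif Nat.blt j 708 then (eT_705_708 j) else (eT_708_711 j)
def eT_700_711 (j : ℕ) : ℕ := bif Nat.blt j 705 then (eT_700_705 j) else (eT_705_711 j)
def eT_690_711 (j : ℕ) : ℕ := bif Nat.blt j 700 then (eT_690_700 j) else (eT_700_711 j)
def eT_670_711 (j : ℕ) : ℕ := bif Nat.blt j 690 then (eT_670_690 j) else (eT_690_711 j)
def eT_711_713 (j : ℕ) : ℕ := bif Nat.blt j 712 then E_711 else E_712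
def eT_714_716 (j : ℕ) : ℕ := bif Nat.blt j 715 then E_714 else E_715
def eT_713_716 (j : ℕ) : ℕ := bif Nat.blt j 714 then E_713 else (eT_714_716 j)
def eT_711_716 (j : ℕ) : ℕ := bif Nat.blt j 713 then (eT_711_713 j) else (eT_713_716 j)
def eT_716_718 (j : ℕ) : ℕ := bif Nat.blt j 717 then E_716 else E_717
def eT_719_721 (j : ℕ) : ℕ := bif Nat.blt j 720 then E_719 else E_720
def eT_718_721 (j : ℕ) : ℕ := bif Nat.blt j 719 then E_718 else (eT_719_721 j)
def eT_716_721 (j : ℕ) : ℕ := bif Nat.blt j 718 then (eT_716_718 j) else (eT_718_721 j)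
def eT_711_721 (j : ℕ) : ℕ := bif Nat.blt j 716 then (eT_711_716 j) else (eT_716_721 j)
def eT_721_723 (j : ℕ) : ℕ := bif Nat.blt j 722 then E_721 else E_722
def eT_724_726 (j : ℕ) : ℕ := bif Nat.blt j 725 then E_724 else E_725
def eT_723_726 (j : ℕ) : ℕ := bif Nat.blt j 724 then E_723 else (eT_724_726 j)
def eT_721_726 (j : ℕ) : ℕ := bif Nat.blt j 723 then (eT_721_723 j) else (eT_723_726 j)
def eT_727_729 (j : ℕ) : ℕ := bif Nat.blt j 728 then E_727 else E_728
def eT_726_729 (j : ℕ) : ℕ := bif Nat.blt j 727 then E_726 else (eT_727_729 j)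
def eT_730_732 (j : ℕ) : ℕ := bif Nat.blt j 731 then E_730 else E_731
def eT_729_732 (j : ℕ) : ℕ := bif Nat.blt j 730 then E_729 else (eT_730_732 j)
def eT_726_732 (j : ℕ) : ℕ := bif Nat.blt j 729 then (eT_726_729 j) else (eT_729_732 j)
def eT_721_732 (j : ℕ) : ℕ := bif Nat.blt j 726 then (eT_721_726 j) else (eT_726_732 j)
def eT_711_732 (j : ℕ) : ℕ := bif Nat.blt j 721 then (eT_711_721 j) else (eT_721_732 j)
def eT_732_734 (j : ℕ) : ℕ := bif Nat.blt j 733 then E_732 else E_733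
def eT_735_737 (j : ℕ) : ℕ := bif Nat.blt j 736 then E_735 else E_736
def eT_734_737 (j : ℕ) : ℕ := bif Nat.blt j 735 then E_734 else (eT_735_737 j)
def eT_732_737 (j : ℕ) : ℕ := bif Nat.blt j 734 then (eT_732_734 j) else (eT_734_737 j)
def eT_737_739 (j : ℕ) : ℕ := bif Nat.blt j 738 then E_737 else E_738
def eT_740_742 (j : ℕ) : ℕ := bif Nat.blt j 741 then E_740 else E_741
def eT_739_742 (j : ℕ) : ℕ := bif Nat.blt j 740 then E_739 else (eT_740_742 j)
def eT_737_742 (j : ℕ) : ℕ := bif Nat.blt j 739 then (eT_737_739 j) else (eT_739_742 j)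
def eT_732_742 (j : ℕ) : ℕ := bif Nat.blt j 737 then (eT_732_737 j) else (eT_737_742 j)
def eT_742_744 (j : ℕ) : ℕ := bif Nat.blt j 743 then E_742 else E_743
def eT_745_747 (j : ℕ) : ℕ := bif Nat.blt j 746 then E_745 else E_746
def eT_744_747 (j : ℕ) : ℕ := bif Nat.blt j 745 then E_744 else (eT_745_747 j)
def eT_742_747 (j : ℕ) : ℕ := bif Nat.blt j 744 then (eT_742_744 j) else (eT_744_747 j)
def eT_748_750 (j : ℕ) : ℕ := bif Nat.blt j 749 then E_748 else E_749
def eT_747_750 (j : ℕ) : ℕ := bif Nat.blt j 748 then E_747 else (eT_748_750 j)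
def eT_751_753 (j : ℕ) : ℕ := bif Nat.blt j 752 then E_751 else E_752
def eT_750_753 (j : ℕ) : ℕ := bif Nat.blt j 751 then E_750 else (eT_751_753 j)
def eT_747_753 (j : ℕ) : ℕ := bif Nat.blt j 750 then (eT_747_750 j) else (eT_750_753 j)
def eT_742_753 (j : ℕ) : ℕ := bif Nat.blt j 747 then (eT_742_747 j) else (eT_747_753 j)
def eT_732_753 (j : ℕ) : ℕ := bif Nat.blt j 742 then (eT_732_742 j) else (eT_742_753 j)
def eT_711_753 (j : ℕ) : ℕ := bif Nat.blt j 732 then (eT_711_732 j) else (eT_732_753 j)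
def eT_670_753 (j : ℕ) : ℕ := bif Nat.blt j 711 then (eT_670_711 j) else (eT_711_753 j)
def eT_753_755 (j : ℕ) : ℕ := bif Nat.blt j 754 then E_753 else E_754
def eT_756_758 (j : ℕ) : ℕ := bif Nat.blt j 757 then E_756 else E_757
def eT_755_758 (j : ℕ) : ℕ := bif Nat.blt j 756 then E_755 else (eT_756_758 j)
def eT_753_758 (j : ℕ) : ℕ := bif Nat.blt j 755 then (eT_753_755 j) else (eT_755_758 j)
def eT_758_760 (j : ℕ) : ℕ := bif Nat.blt j 759 then E_758 else E_759
def eT_761_763 (j : ℕ) : ℕ := bif Nat.blt j 762 then E_761 else E_762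
def eT_760_763 (j : ℕ) : ℕ := bif Nat.blt j 761 then E_760 else (eT_761_763 j)
def eT_758_763 (j : ℕ) : ℕ := bif Nat.blt j 760 then (eT_758_760 j) else (eT_760_763 j)
def eT_753_763 (j : ℕ) : ℕ := bif Nat.blt j 758 then (eT_753_758 j) else (eT_758_763 j)
def eT_763_765 (j : ℕ) : ℕ := bif Nat.blt j 764 then E_763 else E_764
def eT_766_768 (j : ℕ) : ℕ := bif Nat.blt j 767 then E_766 else E_767
def eT_765_768 (j : ℕ) : ℕ := bif Nat.blt j 766 then E_765 else (eT_766_768 j)
def eT_763_768 (j : ℕ) : ℕ := bif Nat.blt j 765 then (eT_763_765 j) else (eT_765_768 j)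
def eT_769_771 (j : ℕ) : ℕ := bif Nat.blt j 770 then E_769 else E_770
def eT_768_771 (j : ℕ) : ℕ := bif Nat.blt j 769 then E_768 else (eT_769_771 j)
def eT_772_774 (j : ℕ) : ℕ := bif Nat.blt j 773 then E_772 else E_773
def eT_771_774 (j : ℕ) : ℕ := bif Nat.blt j 772 then E_771 else (eT_772_774 j)
def eT_768_774 (j : ℕ) : ℕ := bif Nat.blt j 771 then (eT_768_771 j) else (eT_771_774 j)
def eT_763_774 (j : ℕ) : ℕ := bif Nat.blt j 768 then (eT_763_768 j) else (eT_768_774 j)
def eT_753_774 (j : ℕ) : ℕ := bif Nat.blt j 763 then (eT_753_763 j) else (eT_763_774 j)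
def eT_774_776 (j : ℕ) : ℕ := bif Nat.blt j 775 then E_774 else E_775
def eT_777_779 (j : ℕ) : ℕ := bif Nat.blt j 778 then E_777 else E_778
def eT_776_779 (j : ℕ) : ℕ := bif Nat.blt j 777 then E_776 else (eT_777_779 j)
def eT_774_779 (j : ℕ) : ℕ := bif Nat.blt j 776 then (eT_774_776 j) else (eT_776_779 j)
def eT_779_781 (j : ℕ) : ℕ := bif Nat.blt j 780 then E_779 else E_780
def eT_782_784 (j : ℕ) : ℕ := bif Nat.blt j 783 then E_782 else E_783
def eT_781_784 (j : ℕ) : ℕ := bif Nat.blt j 782 then E_781 else (eT_782_784 j)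
def eT_779_784 (j : ℕ) : ℕ := bif Nat.blt j 781 then (eT_779_781 j) else (eT_781_784 j)
def eT_774_784 (j : ℕ) : ℕ := bif Nat.blt j 779 then (eT_774_779 j) else (eT_779_784 j)
def eT_784_786 (j : ℕ) : ℕ := bif Nat.blt j 785 then E_784 else E_785
def eT_787_789 (j : ℕ) : ℕ := bif Nat.blt j 788 then E_787 else E_788
def eT_786_789 (j : ℕ) : ℕ := bif Nat.blt j 787 then E_786 else (eT_787_789 j)
def eT_784_789 (j : ℕ) : ℕ := bif Nat.blt j 786 then (eT_784_786 j) else (eT_786_789 j)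
def eT_790_792 (j : ℕ) : ℕ := bif Nat.blt j 791 then E_790 else E_791
def eT_789_792 (j : ℕ) : ℕ := bif Nat.blt j 790 then E_789 else (eT_790_792 j)
def eT_793_795 (j : ℕ) : ℕ := bif Nat.blt j 794 then E_793 else E_794
def eT_792_795 (j : ℕ) : ℕ := bif Nat.blt j 793 then E_792 else (eT_793_795 j)
def eT_789_795 (j : ℕ) : ℕ := bif Nat.blt j 792 then (eT_789_792 j) else (eT_792_795 j)
def eT_784_795 (j : ℕ) : ℕ := bif Nat.blt j 789 then (eT_784_789 j) else (eT_789_795 j)
def eT_774_795 (j : ℕ) : ℕ := bif Nat.blt j 784 then (eT_774_784 j) else (eT_784_795 j)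
def eT_753_795 (j : ℕ) : ℕ := bif Nat.blt j 774 then (eT_753_774 j) else (eT_774_795 j)
def eT_795_797 (j : ℕ) : ℕ := bif Nat.blt j 796 then E_795 else E_796
def eT_798_800 (j : ℕ) : ℕ := bif Nat.blt j 799 then E_798 else E_799
def eT_797_800 (j : ℕ) : ℕ := bif Nat.blt j 798 then E_797 else (eT_798_800 j)
def eT_795_800 (j : ℕ) : ℕ := bif Nat.blt j 797 then (eT_795_797 j) else (eT_797_800 j)
def eT_800_802 (j : ℕ) : ℕ := bif Nat.blt j 801 then E_800 else E_801
def eT_803_805 (j : ℕ) : ℕ := bif Nat.blt j 804 then E_803 else E_804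
def eT_802_805 (j : ℕ) : ℕ := bif Nat.blt j 803 then E_802 else (eT_803_805 j)
def eT_800_805 (j : ℕ) : ℕ := bif Nat.blt j 802 then (eT_800_802 j) else (eT_802_805 j)
def eT_795_805 (j : ℕ) : ℕ := bif Nat.blt j 800 then (eT_795_800 j) else (eT_800_805 j)
def eT_805_807 (j : ℕ) : ℕ := bif Nat.blt j 806 then E_805 else E_806
def eT_808_810 (j : ℕ) : ℕ := bif Nat.blt j 809 then E_808 else E_809
def eT_807_810 (j : ℕ) : ℕ := bif Nat.blt j 808 then E_807 else (eT_808_810 j)
def eT_805_810 (j : ℕ) : ℕ := bif Nat.blt j 807 then (eT_805_807 j) else (eT_807_810 j)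
def eT_811_813 (j : ℕ) : ℕ := bif Nat.blt j 812 then E_811 else E_812
def eT_810_813 (j : ℕ) : ℕ := bif Nat.blt j 811 then E_810 else (eT_811_813 j)
def eT_814_816 (j : ℕ) : ℕ := bif Nat.blt j 815 then E_814 else E_815
def eT_813_816 (j : ℕ) : ℕ := bif Nat.blt j 814 then E_813 else (eT_814_816 j)
def eT_810_816 (j : ℕ) : ℕ := bif Nat.blt j 813 then (eT_810_813 j) else (eT_813_816 j)
def eT_805_816 (j : ℕ) : ℕ := bif Nat.blt j 810 then (eT_805_810 j) else (eT_810_816 j)
def eT_795_816 (j : ℕ) : ℕ := bif Nat.blt j 805 then (eT_795_805 j) else (eT_805_816 j)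
def eT_816_818 (j : ℕ) : ℕ := bif Nat.blt j 817 then E_816 else E_817
def eT_819_821 (j : ℕ) : ℕ := bif Nat.blt j 820 then E_819 else E_820
def eT_818_821 (j : ℕ) : ℕ := bif Nat.blt j 819 then E_818 else (eT_819_821 j)
def eT_816_821 (j : ℕ) : ℕ := bif Nat.blt j 818 then (eT_816_818 j) else (eT_818_821 j)
def eT_821_823 (j : ℕ) : ℕ := bif Nat.blt j 822 then E_821 else E_822
def eT_824_826 (j : ℕ) : ℕ := bif Nat.blt j 825 then E_824 else E_825
def eT_823_826 (j : ℕ) : ℕ := bif Nat.blt j 824 then E_823 else (eT_824_826 j)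
def eT_821_826 (j : ℕ) : ℕ := bif Nat.blt j 823 then (eT_821_823 j) else (eT_823_826 j)
def eT_816_826 (j : ℕ) : ℕ := bif Nat.blt j 821 then (eT_816_821 j) else (eT_821_826 j)
def eT_826_828 (j : ℕ) : ℕ := bif Nat.blt j 827 then E_826 else E_827
def eT_829_831 (j : ℕ) : ℕ := bif Nat.blt j 830 then E_829 else E_830
def eT_828_831 (j : ℕ) : ℕ := bif Nat.blt j 829 then E_828 else (eT_829_831 j)
def eT_826_831 (j : ℕ) : ℕ := bif Nat.blt j 828 then (eT_826_828 j) else (eT_828_831 j)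
def eT_832_834 (j : ℕ) : ℕ := bif Nat.blt j 833 then E_832 else E_833
def eT_831_834 (j : ℕ) : ℕ := bif Nat.blt j 832 then E_831 else (eT_832_834 j)
def eT_835_837 (j : ℕ) : ℕ := bif Nat.blt j 836 then E_835 else E_836
def eT_834_837 (j : ℕ) : ℕ := bif Nat.blt j 835 then E_834 else (eT_835_837 j)
def eT_831_837 (j : ℕ) : ℕ := bif Nat.blt j 834 then (eT_831_834 j) else (eT_834_837 j)
def eT_826_837 (j : ℕ) : ℕ := bif Nat.blt j 831 then (eT_826_831 j) else (eT_831_837 j)
def eT_816_837 (j : ℕ) : ℕ := bif Nat.blt j 826 then (eT_816_826 j) else (eT_826_837 j)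
def eT_795_837 (j : ℕ) : ℕ := bif Nat.blt j 816 then (eT_795_816 j) else (eT_816_837 j)
def eT_753_837 (j : ℕ) : ℕ := bif Nat.blt j 795 then (eT_753_795 j) else (eT_795_837 j)
def eT_670_837 (j : ℕ) : ℕ := bif Nat.blt j 753 then (eT_670_753 j) else (eT_753_837 j)
def eT_837_839 (j : ℕ) : ℕ := bif Nat.blt j 838 then E_837 else E_838
def eT_840_842 (j : ℕ) : ℕ := bif Nat.blt j 841 then E_840 else E_841
def eT_839_842 (j : ℕ) : ℕ := bif Nat.blt j 840 then E_839 else (eT_840_842 j)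
def eT_837_842 (j : ℕ) : ℕ := bif Nat.blt j 839 then (eT_837_839 j) else (eT_839_842 j)
def eT_842_844 (j : ℕ) : ℕ := bif Nat.blt j 843 then E_842 else E_843
def eT_845_847 (j : ℕ) : ℕ := bif Nat.blt j 846 then E_845 else E_846
def eT_844_847 (j : ℕ) : ℕ := bif Nat.blt j 845 then E_844 else (eT_845_847 j)
def eT_842_847 (j : ℕ) : ℕ := bif Nat.blt j 844 then (eT_842_844 j) else (eT_844_847 j)
def eT_837_847 (j : ℕ) : ℕ := bif Nat.blt j 842 then (eT_837_842 j) else (eT_842_847 j)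
def eT_847_849 (j : ℕ) : ℕ := bif Nat.blt j 848 then E_847 else E_848
def eT_850_852 (j : ℕ) : ℕ := bif Nat.blt j 851 then E_850 else E_851
def eT_849_852 (j : ℕ) : ℕ := bif Nat.blt j 850 then E_849 else (eT_850_852 j)
def eT_847_852 (j : ℕ) : ℕ := bif Nat.blt j 849 then (eT_847_849 j) else (eT_849_852 j)
def eT_853_855 (j : ℕ) : ℕ := bif Nat.blt j 854 then E_853 else E_854
def eT_852_855 (j : ℕ) : ℕ := bif Nat.blt j 853 then E_852 else (eT_853_855 j)
def eT_856_858 (j : ℕ) : ℕ := bif Nat.blt j 857 then E_856 else E_857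
def eT_855_858 (j : ℕ) : ℕ := bif Nat.blt j 856 then E_855 else (eT_856_858 j)
def eT_852_858 (j : ℕ) : ℕ := bif Nat.blt j 855 then (eT_852_855 j) else (eT_855_858 j)
def eT_847_858 (j : ℕ) : ℕ := bif Nat.blt j 852 then (eT_847_852 j) else (eT_852_858 j)
def eT_837_858 (j : ℕ) : ℕ := bif Nat.blt j 847 then (eT_837_847 j) else (eT_847_858 j)
def eT_858_860 (j : ℕ) : ℕ := bif Nat.blt j 859 then E_858 else E_859
def eT_861_863 (j : ℕ) : ℕ := bif Nat.blt j 862 then E_861 else E_862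
def eT_860_863 (j : ℕ) : ℕ := bif Nat.blt j 861 then E_860 else (eT_861_863 j)
def eT_858_863 (j : ℕ) : ℕ := bif Nat.blt j 860 then (eT_858_860 j) else (eT_860_863 j)
def eT_863_865 (j : ℕ) : ℕ := bif Nat.blt j 864 then E_863 else E_864
def eT_866_868 (j : ℕ) : ℕ := bif Nat.blt j 867 then E_866 else E_867
def eT_865_868 (j : ℕ) : ℕ := bif Nat.blt j 866 then E_865 else (eT_866_868 j)
def eT_863_868 (j : ℕ) : ℕ := bif Nat.blt j 865 then (eT_863_865 j) else (eT_865_868 j)
def eT_858_868 (j : ℕ) : ℕ := bif Nat.blt j 863 then (eT_858_863 j) else (eT_863_868 j)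
def eT_868_870 (j : ℕ) : ℕ := bif Nat.blt j 869 then E_868 else E_869
def eT_871_873 (j : ℕ) : ℕ := bif Nat.blt j 872 then E_871 else E_872
def eT_870_873 (j : ℕ) : ℕ := bif Nat.blt j 871 then E_870 else (eT_871_873 j)
def eT_868_873 (j : ℕ) : ℕ := bif Nat.blt j 870 then (eT_868_870 j) else (eT_870_873 j)
def eT_874_876 (j : ℕ) : ℕ := bif Nat.blt j 875 then E_874 else E_875
def eT_873_876 (j : ℕ) : ℕ := bif Nat.blt j 874 then E_873 else (eT_874_876 j)
def eT_877_879 (j : ℕ) : ℕ := bif Nat.blt j 878 then E_877 else E_878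
def eT_876_879 (j : ℕ) : ℕ := bif Nat.blt j 877 then E_876 else (eT_877_879 j)
def eT_873_879 (j : ℕ) : ℕ := bif Nat.blt j 876 then (eT_873_876 j) else (eT_876_879 j)
def eT_868_879 (j : ℕ) : ℕ := bif Nat.blt j 873 then (eT_868_873 j) else (eT_873_879 j)
def eT_858_879 (j : ℕ) : ℕ := bif Nat.blt j 868 then (eT_858_868 j) else (eT_868_879 j)
def eT_837_879 (j : ℕ) : ℕ := bif Nat.blt j 858 then (eT_837_858 j) else (eT_858_879 j)
def eT_879_881 (j : ℕ) : ℕ := bif Nat.blt j 880 then E_879 else E_880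
def eT_882_884 (j : ℕ) : ℕ := bif Nat.blt j 883 then E_882 else E_883
def eT_881_884 (j : ℕ) : ℕ := bif Nat.blt j 882 then E_881 else (eT_882_884 j)
def eT_879_884 (j : ℕ) : ℕ := bif Nat.blt j 881 then (eT_879_881 j) else (eT_881_884 j)
def eT_884_886 (j : ℕ) : ℕ := bif Nat.blt j 885 then E_884 else E_885
def eT_887_889 (j : ℕ) : ℕ := bif Nat.blt j 888 then E_887 else E_888
def eT_886_889 (j : ℕ) : ℕ := bif Nat.blt j 887 then E_886 else (eT_887_889 j)
def eT_884_889 (j : ℕ) : ℕ := bif Nat.blt j 886 then (eT_884_886 j) else (eT_886_889 j)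
def eT_879_889 (j : ℕ) : ℕ := bif Nat.blt j 884 then (eT_879_884 j) else (eT_884_889 j)
def eT_889_891 (j : ℕ) : ℕ := bif Nat.blt j 890 then E_889 else E_890
def eT_892_894 (j : ℕ) : ℕ := bif Nat.blt j 893 then E_892 else E_893
def eT_891_894 (j : ℕ) : ℕ := bif Nat.blt j 892 then E_891 else (eT_892_894 j)
def eT_889_894 (j : ℕ) : ℕ := bif Nat.blt j 891 then (eT_889_891 j) else (eT_891_894 j)
def eT_895_897 (j : ℕ) : ℕ := bif Nat.blt j 896 then E_895 else E_896
def eT_894_897 (j : ℕ) : ℕ := bif Nat.blt j 895 then E_894 else (eT_895_897 j)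
def eT_898_900 (j : ℕ) : ℕ := bif Nat.blt j 899 then E_898 else E_899
def eT_897_900 (j : ℕ) : ℕ := bif Nat.blt j 898 then E_897 else (eT_898_900 j)
def eT_894_900 (j : ℕ) : ℕ := bif Nat.blt j 897 then (eT_894_897 j) else (eT_897_900 j)
def eT_889_900 (j : ℕ) : ℕ := bif Nat.blt j 894 then (eT_889_894 j) else (eT_894_900 j)
def eT_879_900 (j : ℕ) : ℕ := bif Nat.blt j 889 then (eT_879_889 j) else (eT_889_900 j)
def eT_900_902 (j : ℕ) : ℕ := bif Nat.blt j 901 then E_900 else E_901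
def eT_903_905 (j : ℕ) : ℕ := bif Nat.blt j 904 then E_903 else E_904
def eT_902_905 (j : ℕ) : ℕ := bif Nat.blt j 903 then E_902 else (eT_903_905 j)
def eT_900_905 (j : ℕ) : ℕ := bif Nat.blt j 902 then (eT_900_902 j) else (eT_902_905 j)
def eT_905_907 (j : ℕ) : ℕ := bif Nat.blt j 906 then E_905 else E_906
def eT_908_910 (j : ℕ) : ℕ := bif Nat.blt j 909 then E_908 else E_909
def eT_907_910 (j : ℕ) : ℕ := bif Nat.blt j 908 then E_907 else (eT_908_910 j)
def eT_905_910 (j : ℕ) : ℕ := bif Nat.blt j 907 then (eT_905_907 j) else (eT_907_910 j)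
def eT_900_910 (j : ℕ) : ℕ := bif Nat.blt j 905 then (eT_900_905 j) else (eT_905_910 j)
def eT_910_912 (j : ℕ) : ℕ := bif Nat.blt j 911 then E_910 else E_911
def eT_913_915 (j : ℕ) : ℕ := bif Nat.blt j 914 then E_913 else E_914
def eT_912_915 (j : ℕ) : ℕ := bif Nat.blt j 913 then E_912 else (eT_913_915 j)
def eT_910_915 (j : ℕ) : ℕ := bif Nat.blt j 912 then (eT_910_912 j) else (eT_912_915 j)
def eT_916_918 (j : ℕ) : ℕ := bif Nat.blt j 917 then E_916 else E_917
def eT_915_918 (j : ℕ) : ℕ := bif Nat.blt j 916 then E_915 else (eT_916_918 j)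
def eT_919_921 (j : ℕ) : ℕ := bif Nat.blt j 920 then E_919 else E_920
def eT_918_921 (j : ℕ) : ℕ := bif Nat.blt j 919 then E_918 else (eT_919_921 j)
def eT_915_921 (j : ℕ) : ℕ := bif Nat.blt j 918 then (eT_915_918 j) else (eT_918_921 j)
def eT_910_921 (j : ℕ) : ℕ := bif Nat.blt j 915 then (eT_910_915 j) else (eT_915_921 j)
def eT_900_921 (j : ℕ) : ℕ := bif Nat.blt j 910 then (eT_900_910 j) else (eT_910_921 j)
def eT_879_921 (j : ℕ) : ℕ := bif Nat.blt j 900 then (eT_879_900 j) else (eT_900_921 j)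
def eT_837_921 (j : ℕ) : ℕ := bif Nat.blt j 879 then (eT_837_879 j) else (eT_879_921 j)
def eT_921_923 (j : ℕ) : ℕ := bif Nat.blt j 922 then E_921 else E_922
def eT_924_926 (j : ℕ) : ℕ := bif Nat.blt j 925 then E_924 else E_925
def eT_923_926 (j : ℕ) : ℕ := bif Nat.blt j 924 then E_923 else (eT_924_926 j)
def eT_921_926 (j : ℕ) : ℕ := bif Nat.blt j 923 then (eT_921_923 j) else (eT_923_926 j)
def eT_926_928 (j : ℕ) : ℕ := bif Nat.blt j 927 then E_926 else E_927
def eT_929_931 (j : ℕ) : ℕ := bif Nat.blt j 930 then E_929 else E_930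
def eT_928_931 (j : ℕ) : ℕ := bif Nat.blt j 929 then E_928 else (eT_929_931 j)
def eT_926_931 (j : ℕ) : ℕ := bif Nat.blt j 928 then (eT_926_928 j) else (eT_928_931 j)
def eT_921_931 (j : ℕ) : ℕ := bif Nat.blt j 926 then (eT_921_926 j) else (eT_926_931 j)
def eT_931_933 (j : ℕ) : ℕ := bif Nat.blt j 932 then E_931 else E_932
def eT_934_936 (j : ℕ) : ℕ := bif Nat.blt j 935 then E_934 else E_935
def eT_933_936 (j : ℕ) : ℕ := bif Nat.blt j 934 then E_933 else (eT_934_936 j)
def eT_931_936 (j : ℕ) : ℕ := bif Nat.blt j 933 then (eT_931_933 j) else (eT_933_936 j)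
def eT_937_939 (j : ℕ) : ℕ := bif Nat.blt j 938 then E_937 else E_938
def eT_936_939 (j : ℕ) : ℕ := bif Nat.blt j 937 then E_936 else (eT_937_939 j)
def eT_940_942 (j : ℕ) : ℕ := bif Nat.blt j 941 then E_940 else E_941
def eT_939_942 (j : ℕ) : ℕ := bif Nat.blt j 940 then E_939 else (eT_940_942 j)
def eT_936_942 (j : ℕ) : ℕ := bif Nat.blt j 939 then (eT_936_939 j) else (eT_939_942 j)
def eT_931_942 (j : ℕ) : ℕ := bif Nat.blt j 936 then (eT_931_936 j) else (eT_936_942 j)
def eT_921_942 (j : ℕ) : ℕ := bif Nat.blt j 931 then (eT_921_931 j) else (eT_931_942 j)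
def eT_942_944 (j : ℕ) : ℕ := bif Nat.blt j 943 then E_942 else E_943
def eT_945_947 (j : ℕ) : ℕ := bif Nat.blt j 946 then E_945 else E_946
def eT_944_947 (j : ℕ) : ℕ := bif Nat.blt j 945 then E_944 else (eT_945_947 j)
def eT_942_947 (j : ℕ) : ℕ := bif Nat.blt j 944 then (eT_942_944 j) else (eT_944_947 j)
def eT_947_949 (j : ℕ) : ℕ := bif Nat.blt j 948 then E_947 else E_948
def eT_950_952 (j : ℕ) : ℕ := bif Nat.blt j 951 then E_950 else E_951
def eT_949_952 (j : ℕ) : ℕ := bif Nat.blt j 950 then E_949 else (eT_950_952 j)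
def eT_947_952 (j : ℕ) : ℕ := bif Nat.blt j 949 then (eT_947_949 j) else (eT_949_952 j)
def eT_942_952 (j : ℕ) : ℕ := bif Nat.blt j 947 then (eT_942_947 j) else (eT_947_952 j)
def eT_952_954 (j : ℕ) : ℕ := bif Nat.blt j 953 then E_952 else E_953
def eT_955_957 (j : ℕ) : ℕ := bif Nat.blt j 956 then E_955 else E_956
def eT_954_957 (j : ℕ) : ℕ := bif Nat.blt j 955 then E_954 else (eT_955_957 j)
def eT_952_957 (j : ℕ) : ℕ := bif Nat.blt j 954 then (eT_952_954 j) else (eT_954_957 j)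
def eT_958_960 (j : ℕ) : ℕ := bif Nat.blt j 959 then E_958 else E_959
def eT_957_960 (j : ℕ) : ℕ := bif Nat.blt j 958 then E_957 else (eT_958_960 j)
def eT_961_963 (j : ℕ) : ℕ := bif Nat.blt j 962 then E_961 else E_962
def eT_960_963 (j : ℕ) : ℕ := bif Nat.blt j 961 then E_960 else (eT_961_963 j)
def eT_957_963 (j : ℕ) : ℕ := bif Nat.blt j 960 then (eT_957_960 j) else (eT_960_963 j)
def eT_952_963 (j : ℕ) : ℕ := bif Nat.blt j 957 then (eT_952_957 j) else (eT_957_963 j)
def eT_942_963 (j : ℕ) : ℕ := bif Nat.blt j 952 then (eT_942_952 j) else (eT_952_963 j)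
def eT_921_963 (j : ℕ) : ℕ := bif Nat.blt j 942 then (eT_921_942 j) else (eT_942_963 j)
def eT_963_965 (j : ℕ) : ℕ := bif Nat.blt j 964 then E_963 else E_964
def eT_966_968 (j : ℕ) : ℕ := bif Nat.blt j 967 then E_966 else E_967
def eT_965_968 (j : ℕ) : ℕ := bif Nat.blt j 966 then E_965 else (eT_966_968 j)
def eT_963_968 (j : ℕ) : ℕ := bif Nat.blt j 965 then (eT_963_965 j) else (eT_965_968 j)
def eT_968_970 (j : ℕ) : ℕ := bif Nat.blt j 969 then E_968 else E_969
def eT_971_973 (j : ℕ) : ℕ := bif Nat.blt j 972 then E_971 else E_972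
def eT_970_973 (j : ℕ) : ℕ := bif Nat.blt j 971 then E_970 else (eT_971_973 j)
def eT_968_973 (j : ℕ) : ℕ := bif Nat.blt j 970 then (eT_968_970 j) else (eT_970_973 j)
def eT_963_973 (j : ℕ) : ℕ := bif Nat.blt j 968 then (eT_963_968 j) else (eT_968_973 j)
def eT_973_975 (j : ℕ) : ℕ := bif Nat.blt j 974 then E_973 else E_974
def eT_976_978 (j : ℕ) : ℕ := bif Nat.blt j 977 then E_976 else E_977
def eT_975_978 (j : ℕ) : ℕ := bif Nat.blt j 976 then E_975 else (eT_976_978 j)
def eT_973_978 (j : ℕ) : ℕ := bif Nat.blt j 975 then (eT_973_975 j) else (eT_975_978 j)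
def eT_979_981 (j : ℕ) : ℕ := bif Nat.blt j 980 then E_979 else E_980
def eT_978_981 (j : ℕ) : ℕ := bif Nat.blt j 979 then E_978 else (eT_979_981 j)
def eT_982_984 (j : ℕ) : ℕ := bif Nat.blt j 983 then E_982 else E_983
def eT_981_984 (j : ℕ) : ℕ := bif Nat.blt j 982 then E_981 else (eT_982_984 j)
def eT_978_984 (j : ℕ) : ℕ := bif Nat.blt j 981 then (eT_978_981 j) else (eT_981_984 j)
def eT_973_984 (j : ℕ) : ℕ := bif Nat.blt j 978 then (eT_973_978 j) else (eT_978_984 j)
def eT_963_984 (j : ℕ) : ℕ := bif Nat.blt j 973 then (eT_963_973 j) else (eT_973_984 j)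
def eT_984_986 (j : ℕ) : ℕ := bif Nat.blt j 985 then E_984 else E_985
def eT_987_989 (j : ℕ) : ℕ := bif Nat.blt j 988 then E_987 else E_988
def eT_986_989 (j : ℕ) : ℕ := bif Nat.blt j 987 then E_986 else (eT_987_989 j)
def eT_984_989 (j : ℕ) : ℕ := bif Nat.blt j 986 then (eT_984_986 j) else (eT_986_989 j)
def eT_989_991 (j : ℕ) : ℕ := bif Nat.blt j 990 then E_989 else E_990
def eT_992_994 (j : ℕ) : ℕ := bif Nat.blt j 993 then E_992 else E_993
def eT_991_994 (j : ℕ) : ℕ := bif Nat.blt j 992 then E_991 else (eT_992_994 j)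
def eT_989_994 (j : ℕ) : ℕ := bif Nat.blt j 991 then (eT_989_991 j) else (eT_991_994 j)
def eT_984_994 (j : ℕ) : ℕ := bif Nat.blt j 989 then (eT_984_989 j) else (eT_989_994 j)
def eT_994_996 (j : ℕ) : ℕ := bif Nat.blt j 995 then E_994 else E_995
def eT_997_999 (j : ℕ) : ℕ := bif Nat.blt j 998 then E_997 else E_998
def eT_996_999 (j : ℕ) : ℕ := bif Nat.blt j 997 then E_996 else (eT_997_999 j)
def eT_994_999 (j : ℕ) : ℕ := bif Nat.blt j 996 then (eT_994_996 j) else (eT_996_999 j)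
def eT_1000_1002 (j : ℕ) : ℕ := bif Nat.blt j 1001 then E_1000 else E_1001
def eT_999_1002 (j : ℕ) : ℕ := bif Nat.blt j 1000 then E_999 else (eT_1000_1002 j)
def eT_1003_1005 (j : ℕ) : ℕ := bif Nat.blt j 1004 then E_1003 else E_1004
def eT_1002_1005 (j : ℕ) : ℕ := bif Nat.blt j 1003 then E_1002 else (eT_1003_1005 j)
def eT_999_1005 (j : ℕ) : ℕ := bif Nat.blt j 1002 then (eT_999_1002 j) else (eT_1002_1005 j)
def eT_994_1005 (j : ℕ) : ℕ := bif Nat.blt j 999 then (eT_994_999 j) else (eT_999_1005 j)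
def eT_984_1005 (j : ℕ) : ℕ := bif Nat.blt j 994 then (eT_984_994 j) else (eT_994_1005 j)
def eT_963_1005 (j : ℕ) : ℕ := bif Nat.blt j 984 then (eT_963_984 j) else (eT_984_1005 j)
def eT_921_1005 (j : ℕ) : ℕ := bif Nat.blt j 963 then (eT_921_963 j) else (eT_963_1005 j)
def eT_837_1005 (j : ℕ) : ℕ := bif Nat.blt j 921 then (eT_837_921 j) else (eT_921_1005 j)
def eT_670_1005 (j : ℕ) : ℕ := bif Nat.blt j 837 then (eT_670_837 j) else (eT_837_1005 j)
def eT_1005_1007 (j : ℕ) : ℕ := bif Nat.blt j 1006 then E_1005 else E_1006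
def eT_1008_1010 (j : ℕ) : ℕ := bif Nat.blt j 1009 then E_1008 else E_1009
def eT_1007_1010 (j : ℕ) : ℕ := bif Nat.blt j 1008 then E_1007 else (eT_1008_1010 j)
def eT_1005_1010 (j : ℕ) : ℕ := bif Nat.blt j 1007 then (eT_1005_1007 j) else (eT_1007_1010 j)
def eT_1010_1012 (j : ℕ) : ℕ := bif Nat.blt j 1011 then E_1010 else E_1011
def eT_1013_1015 (j : ℕ) : ℕ := bif Nat.blt j 1014 then E_1013 else E_1014
def eT_1012_1015 (j : ℕ) : ℕ := bif Nat.blt j 1013 then E_1012 else (eT_1013_1015 j)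
def eT_1010_1015 (j : ℕ) : ℕ := bif Nat.blt j 1012 then (eT_1010_1012 j) else (eT_1012_1015 j)
def eT_1005_1015 (j : ℕ) : ℕ := bif Nat.blt j 1010 then (eT_1005_1010 j) else (eT_1010_1015 j)
def eT_1015_1017 (j : ℕ) : ℕ := bif Nat.blt j 1016 then E_1015 else E_1016
def eT_1018_1020 (j : ℕ) : ℕ := bif Nat.blt j 1019 then E_1018 else E_1019
def eT_1017_1020 (j : ℕ) : ℕ := bif Nat.blt j 1018 then E_1017 else (eT_1018_1020 j)
def eT_1015_1020 (j : ℕ) : ℕ := bif Nat.blt j 1017 then (eT_1015_1017 j) else (eT_1017_1020 j)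
def eT_1021_1023 (j : ℕ) : ℕ := bif Nat.blt j 1022 then E_1021 else E_1022
def eT_1020_1023 (j : ℕ) : ℕ := bif Nat.blt j 1021 then E_1020 else (eT_1021_1023 j)
def eT_1024_1026 (j : ℕ) : ℕ := bif Nat.blt j 1025 then E_1024 else E_1025
def eT_1023_1026 (j : ℕ) : ℕ := bif Nat.blt j 1024 then E_1023 else (eT_1024_1026 j)
def eT_1020_1026 (j : ℕ) : ℕ := bif Nat.blt j 1023 then (eT_1020_1023 j) else (eT_1023_1026 j)
def eT_1015_1026 (j : ℕ) : ℕ := bif Nat.blt j 1020 then (eT_1015_1020 j) else (eT_1020_1026 j)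
def eT_1005_1026 (j : ℕ) : ℕ := bif Nat.blt j 1015 then (eT_1005_1015 j) else (eT_1015_1026 j)
def eT_1026_1028 (j : ℕ) : ℕ := bif Nat.blt j 1027 then E_1026 else E_1027
def eT_1029_1031 (j : ℕ) : ℕ := bif Nat.blt j 1030 then E_1029 else E_1030
def eT_1028_1031 (j : ℕ) : ℕ := bif Nat.blt j 1029 then E_1028 else (eT_1029_1031 j)
def eT_1026_1031 (j : ℕ) : ℕ := bif Nat.blt j 1028 then (eT_1026_1028 j) else (eT_1028_1031 j)
def eT_1031_1033 (j : ℕ) : ℕ := bif Nat.blt j 1032 then E_1031 else E_1032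
def eT_1034_1036 (j : ℕ) : ℕ := bif Nat.blt j 1035 then E_1034 else E_1035
def eT_1033_1036 (j : ℕ) : ℕ := bif Nat.blt j 1034 then E_1033 else (eT_1034_1036 j)
def eT_1031_1036 (j : ℕ) : ℕ := bif Nat.blt j 1033 then (eT_1031_1033 j) else (eT_1033_1036 j)
def eT_1026_1036 (j : ℕ) : ℕ := bif Nat.blt j 1031 then (eT_1026_1031 j) else (eT_1031_1036 j)
def eT_1036_1038 (j : ℕ) : ℕ := bif Nat.blt j 1037 then E_1036 else E_1037
def eT_1039_1041 (j : ℕ) : ℕ := bif Nat.blt j 1040 then E_1039 else E_1040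
def eT_1038_1041 (j : ℕ) : ℕ := bif Nat.blt j 1039 then E_1038 else (eT_1039_1041 j)
def eT_1036_1041 (j : ℕ) : ℕ := bif Nat.blt j 1038 then (eT_1036_1038 j) else (eT_1038_1041 j)
def eT_1042_1044 (j : ℕ) : ℕ := bif Nat.blt j 1043 then E_1042 else E_1043
def eT_1041_1044 (j : ℕ) : ℕ := bif Nat.blt j 1042 then E_1041 else (eT_1042_1044 j)
def eT_1045_1047 (j : ℕ) : ℕ := bif Nat.blt j 1046 then E_1045 else E_1046
def eT_1044_1047 (j : ℕ) : ℕ := bif Nat.blt j 1045 then E_1044 else (eT_1045_1047 j)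
def eT_1041_1047 (j : ℕ) : ℕ := bif Nat.blt j 1044 then (eT_1041_1044 j) else (eT_1044_1047 j)
def eT_1036_1047 (j : ℕ) : ℕ := bif Nat.blt j 1041 then (eT_1036_1041 j) else (eT_1041_1047 j)
def eT_1026_1047 (j : ℕ) : ℕ := bif Nat.blt j 1036 then (eT_1026_1036 j) else (eT_1036_1047 j)
def eT_1005_1047 (j : ℕ) : ℕ := bif Nat.blt j 1026 then (eT_1005_1026 j) else (eT_1026_1047 j)
def eT_1047_1049 (j : ℕ) : ℕ := bif Nat.blt j 1048 then E_1047 else E_1048
def eT_1050_1052 (j : ℕ) : ℕ := bif Nat.blt j 1051 then E_1050 else E_1051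
def eT_1049_1052 (j : ℕ) : ℕ := bif Nat.blt j 1050 then E_1049 else (eT_1050_1052 j)
def eT_1047_1052 (j : ℕ) : ℕ := bif Nat.blt j 1049 then (eT_1047_1049 j) else (eT_1049_1052 j)
def eT_1052_1054 (j : ℕ) : ℕ := bif Nat.blt j 1053 then E_1052 else E_1053
def eT_1055_1057 (j : ℕ) : ℕ := bif Nat.blt j 1056 then E_1055 else E_1056
def eT_1054_1057 (j : ℕ) : ℕ := bif Nat.blt j 1055 then E_1054 else (eT_1055_1057 j)
def eT_1052_1057 (j : ℕ) : ℕ := bif Nat.blt j 1054 then (eT_1052_1054 j) else (eT_1054_1057 j)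
def eT_1047_1057 (j : ℕ) : ℕ := bif Nat.blt j 1052 then (eT_1047_1052 j) else (eT_1052_1057 j)
def eT_1057_1059 (j : ℕ) : ℕ := bif Nat.blt j 1058 then E_1057 else E_1058
def eT_1060_1062 (j : ℕ) : ℕ := bif Nat.blt j 1061 then E_1060 else E_1061
def eT_1059_1062 (j : ℕ) : ℕ := bif Nat.blt j 1060 then E_1059 else (eT_1060_1062 j)
def eT_1057_1062 (j : ℕ) : ℕ := bif Nat.blt j 1059 then (eT_1057_1059 j) else (eT_1059_1062 j)
def eT_1063_1065 (j : ℕ) : ℕ := bif Nat.blt j 1064 then E_1063 else E_1064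
def eT_1062_1065 (j : ℕ) : ℕ := bif Nat.blt j 1063 then E_1062 else (eT_1063_1065 j)
def eT_1066_1068 (j : ℕ) : ℕ := bif Nat.blt j 1067 then E_1066 else E_1067
def eT_1065_1068 (j : ℕ) : ℕ := bif Nat.blt j 1066 then E_1065 else (eT_1066_1068 j)
def eT_1062_1068 (j : ℕ) : ℕ := bif Nat.blt j 1065 then (eT_1062_1065 j) else (eT_1065_1068 j)
def eT_1057_1068 (j : ℕ) : ℕ := bif Nat.blt j 1062 then (eT_1057_1062 j) else (eT_1062_1068 j)
def eT_1047_1068 (j : ℕ) : ℕ := bif Nat.blt j 1057 then (eT_1047_1057 j) else (eT_1057_1068 j)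
def eT_1068_1070 (j : ℕ) : ℕ := bif Nat.blt j 1069 then E_1068 else E_1069
def eT_1071_1073 (j : ℕ) : ℕ := bif Nat.blt j 1072 then E_1071 else E_1072
def eT_1070_1073 (j : ℕ) : ℕ := bif Nat.blt j 1071 then E_1070 else (eT_1071_1073 j)
def eT_1068_1073 (j : ℕ) : ℕ := bif Nat.blt j 1070 then (eT_1068_1070 j) else (eT_1070_1073 j)
def eT_1073_1075 (j : ℕ) : ℕ := bif Nat.blt j 1074 then E_1073 else E_1074
def eT_1076_1078 (j : ℕ) : ℕ := bif Nat.blt j 1077 then E_1076 else E_1077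
def eT_1075_1078 (j : ℕ) : ℕ := bif Nat.blt j 1076 then E_1075 else (eT_1076_1078 j)
def eT_1073_1078 (j : ℕ) : ℕ := bif Nat.blt j 1075 then (eT_1073_1075 j) else (eT_1075_1078 j)
def eT_1068_1078 (j : ℕ) : ℕ := bif Nat.blt j 1073 then (eT_1068_1073 j) else (eT_1073_1078 j)
def eT_1078_1080 (j : ℕ) : ℕ := bif Nat.blt j 1079 then E_1078 else E_1079
def eT_1081_1083 (j : ℕ) : ℕ := bif Nat.blt j 1082 then E_1081 else E_1082
def eT_1080_1083 (j : ℕ) : ℕ := bif Nat.blt j 1081 then E_1080 else (eT_1081_1083 j)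
def eT_1078_1083 (j : ℕ) : ℕ := bif Nat.blt j 1080 then (eT_1078_1080 j) else (eT_1080_1083 j)
def eT_1084_1086 (j : ℕ) : ℕ := bif Nat.blt j 1085 then E_1084 else E_1085
def eT_1083_1086 (j : ℕ) : ℕ := bif Nat.blt j 1084 then E_1083 else (eT_1084_1086 j)
def eT_1087_1089 (j : ℕ) : ℕ := bif Nat.blt j 1088 then E_1087 else E_1088
def eT_1086_1089 (j : ℕ) : ℕ := bif Nat.blt j 1087 then E_1086 else (eT_1087_1089 j)
def eT_1083_1089 (j : ℕ) : ℕ := bif Nat.blt j 1086 then (eT_1083_1086 j) else (eT_1086_1089 j)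
def eT_1078_1089 (j : ℕ) : ℕ := bif Nat.blt j 1083 then (eT_1078_1083 j) else (eT_1083_1089 j)
def eT_1068_1089 (j : ℕ) : ℕ := bif Nat.blt j 1078 then (eT_1068_1078 j) else (eT_1078_1089 j)
def eT_1047_1089 (j : ℕ) : ℕ := bif Nat.blt j 1068 then (eT_1047_1068 j) else (eT_1068_1089 j)
def eT_1005_1089 (j : ℕ) : ℕ := bif Nat.blt j 1047 then (eT_1005_1047 j) else (eT_1047_1089 j)
def eT_1089_1091 (j : ℕ) : ℕ := bif Nat.blt j 1090 then E_1089 else E_1090
def eT_1092_1094 (j : ℕ) : ℕ := bif Nat.blt j 1093 then E_1092 else E_1093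
def eT_1091_1094 (j : ℕ) : ℕ := bif Nat.blt j 1092 then E_1091 else (eT_1092_1094 j)
def eT_1089_1094 (j : ℕ) : ℕ := bif Nat.blt j 1091 then (eT_1089_1091 j) else (eT_1091_1094 j)
def eT_1094_1096 (j : ℕ) : ℕ := bif Nat.blt j 1095 then E_1094 else E_1095
def eT_1097_1099 (j : ℕ) : ℕ := bif Nat.blt j 1098 then E_1097 else E_1098
def eT_1096_1099 (j : ℕ) : ℕ := bif Nat.blt j 1097 then E_1096 else (eT_1097_1099 j)
def eT_1094_1099 (j : ℕ) : ℕ := bif Nat.blt j 1096 then (eT_1094_1096 j) else (eT_1096_1099 j)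
def eT_1089_1099 (j : ℕ) : ℕ := bif Nat.blt j 1094 then (eT_1089_1094 j) else (eT_1094_1099 j)
def eT_1099_1101 (j : ℕ) : ℕ := bif Nat.blt j 1100 then E_1099 else E_1100
def eT_1102_1104 (j : ℕ) : ℕ := bif Nat.blt j 1103 then E_1102 else E_1103
def eT_1101_1104 (j : ℕ) : ℕ := bif Nat.blt j 1102 then E_1101 else (eT_1102_1104 j)
def eT_1099_1104 (j : ℕ) : ℕ := bif Nat.blt j 1101 then (eT_1099_1101 j) else (eT_1101_1104 j)
def eT_1105_1107 (j : ℕ) : ℕ := bif Nat.blt j 1106 then E_1105 else E_1106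
def eT_1104_1107 (j : ℕ) : ℕ := bif Nat.blt j 1105 then E_1104 else (eT_1105_1107 j)
def eT_1108_1110 (j : ℕ) : ℕ := bif Nat.blt j 1109 then E_1108 else E_1109
def eT_1107_1110 (j : ℕ) : ℕ := bif Nat.blt j 1108 then E_1107 else (eT_1108_1110 j)
def eT_1104_1110 (j : ℕ) : ℕ := bif Nat.blt j 1107 then (eT_1104_1107 j) else (eT_1107_1110 j)
def eT_1099_1110 (j : ℕ) : ℕ := bif Nat.blt j 1104 then (eT_1099_1104 j) else (eT_1104_1110 j)
def eT_1089_1110 (j : ℕ) : ℕ := bif Nat.blt j 1099 then (eT_1089_1099 j) else (eT_1099_1110 j)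
def eT_1110_1112 (j : ℕ) : ℕ := bif Nat.blt j 1111 then E_1110 else E_1111
def eT_1113_1115 (j : ℕ) : ℕ := bif Nat.blt j 1114 then E_1113 else E_1114
def eT_1112_1115 (j : ℕ) : ℕ := bif Nat.blt j 1113 then E_1112 else (eT_1113_1115 j)
def eT_1110_1115 (j : ℕ) : ℕ := bif Nat.blt j 1112 then (eT_1110_1112 j) else (eT_1112_1115 j)
def eT_1115_1117 (j : ℕ) : ℕ := bif Nat.blt j 1116 then E_1115 else E_1116
def eT_1118_1120 (j : ℕ) : ℕ := bif Nat.blt j 1119 then E_1118 else E_1119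
def eT_1117_1120 (j : ℕ) : ℕ := bif Nat.blt j 1118 then E_1117 else (eT_1118_1120 j)
def eT_1115_1120 (j : ℕ) : ℕ := bif Nat.blt j 1117 then (eT_1115_1117 j) else (eT_1117_1120 j)
def eT_1110_1120 (j : ℕ) : ℕ := bif Nat.blt j 1115 then (eT_1110_1115 j) else (eT_1115_1120 j)
def eT_1120_1122 (j : ℕ) : ℕ := bif Nat.blt j 1121 then E_1120 else E_1121
def eT_1123_1125 (j : ℕ) : ℕ := bif Nat.blt j 1124 then E_1123 else E_1124
def eT_1122_1125 (j : ℕ) : ℕ := bif Nat.blt j 1123 then E_1122 else (eT_1123_1125 j)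
def eT_1120_1125 (j : ℕ) : ℕ := bif Nat.blt j 1122 then (eT_1120_1122 j) else (eT_1122_1125 j)
def eT_1126_1128 (j : ℕ) : ℕ := bif Nat.blt j 1127 then E_1126 else E_1127
def eT_1125_1128 (j : ℕ) : ℕ := bif Nat.blt j 1126 then E_1125 else (eT_1126_1128 j)
def eT_1129_1131 (j : ℕ) : ℕ := bif Nat.blt j 1130 then E_1129 else E_1130
def eT_1128_1131 (j : ℕ) : ℕ := bif Nat.blt j 1129 then E_1128 else (eT_1129_1131 j)
def eT_1125_1131 (j : ℕ) : ℕ := bif Nat.blt j 1128 then (eT_1125_1128 j) else (eT_1128_1131 j)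
def eT_1120_1131 (j : ℕ) : ℕ := bif Nat.blt j 1125 then (eT_1120_1125 j) else (eT_1125_1131 j)
def eT_1110_1131 (j : ℕ) : ℕ := bif Nat.blt j 1120 then (eT_1110_1120 j) else (eT_1120_1131 j)
def eT_1089_1131 (j : ℕ) : ℕ := bif Nat.blt j 1110 then (eT_1089_1110 j) else (eT_1110_1131 j)
def eT_1131_1133 (j : ℕ) : ℕ := bif Nat.blt j 1132 then E_1131 else E_1132
def eT_1134_1136 (j : ℕ) : ℕ := bif Nat.blt j 1135 then E_1134 else E_1135
def eT_1133_1136 (j : ℕ) : ℕ := bif Nat.blt j 1134 then E_1133 else (eT_1134_1136 j)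
def eT_1131_1136 (j : ℕ) : ℕ := bif Nat.blt j 1133 then (eT_1131_1133 j) else (eT_1133_1136 j)
def eT_1136_1138 (j : ℕ) : ℕ := bif Nat.blt j 1137 then E_1136 else E_1137
def eT_1139_1141 (j : ℕ) : ℕ := bif Nat.blt j 1140 then E_1139 else E_1140
def eT_1138_1141 (j : ℕ) : ℕ := bif Nat.blt j 1139 then E_1138 else (eT_1139_1141 j)
def eT_1136_1141 (j : ℕ) : ℕ := bif Nat.blt j 1138 then (eT_1136_1138 j) else (eT_1138_1141 j)
def eT_1131_1141 (j : ℕ) : ℕ := bif Nat.blt j 1136 then (eT_1131_1136 j) else (eT_1136_1141 j)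
def eT_1141_1143 (j : ℕ) : ℕ := bif Nat.blt j 1142 then E_1141 else E_1142
def eT_1144_1146 (j : ℕ) : ℕ := bif Nat.blt j 1145 then E_1144 else E_1145
def eT_1143_1146 (j : ℕ) : ℕ := bif Nat.blt j 1144 then E_1143 else (eT_1144_1146 j)
def eT_1141_1146 (j : ℕ) : ℕ := bif Nat.blt j 1143 then (eT_1141_1143 j) else (eT_1143_1146 j)
def eT_1147_1149 (j : ℕ) : ℕ := bif Nat.blt j 1148 then E_1147 else E_1148
def eT_1146_1149 (j : ℕ) : ℕ := bif Nat.blt j 1147 then E_1146 else (eT_1147_1149 j)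
def eT_1150_1152 (j : ℕ) : ℕ := bif Nat.blt j 1151 then E_1150 else E_1151
def eT_1149_1152 (j : ℕ) : ℕ := bif Nat.blt j 1150 then E_1149 else (eT_1150_1152 j)
def eT_1146_1152 (j : ℕ) : ℕ := bif Nat.blt j 1149 then (eT_1146_1149 j) else (eT_1149_1152 j)
def eT_1141_1152 (j : ℕ) : ℕ := bif Nat.blt j 1146 then (eT_1141_1146 j) else (eT_1146_1152 j)
def eT_1131_1152 (j : ℕ) : ℕ := bif Nat.blt j 1141 then (eT_1131_1141 j) else (eT_1141_1152 j)
def eT_1152_1154 (j : ℕ) : ℕ := bif Nat.blt j 1153 then E_1152 else E_1153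
def eT_1155_1157 (j : ℕ) : ℕ := bif Nat.blt j 1156 then E_1155 else E_1156
def eT_1154_1157 (j : ℕ) : ℕ := bif Nat.blt j 1155 then E_1154 else (eT_1155_1157 j)
def eT_1152_1157 (j : ℕ) : ℕ := bif Nat.blt j 1154 then (eT_1152_1154 j) else (eT_1154_1157 j)
def eT_1157_1159 (j : ℕ) : ℕ := bif Nat.blt j 1158 then E_1157 else E_1158
def eT_1160_1162 (j : ℕ) : ℕ := bif Nat.blt j 1161 then E_1160 else E_1161
def eT_1159_1162 (j : ℕ) : ℕ := bif Nat.blt j 1160 then E_1159 else (eT_1160_1162 j)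
def eT_1157_1162 (j : ℕ) : ℕ := bif Nat.blt j 1159 then (eT_1157_1159 j) else (eT_1159_1162 j)
def eT_1152_1162 (j : ℕ) : ℕ := bif Nat.blt j 1157 then (eT_1152_1157 j) else (eT_1157_1162 j)
def eT_1162_1164 (j : ℕ) : ℕ := bif Nat.blt j 1163 then E_1162 else E_1163
def eT_1165_1167 (j : ℕ) : ℕ := bif Nat.blt j 1166 then E_1165 else E_1166
def eT_1164_1167 (j : ℕ) : ℕ := bif Nat.blt j 1165 then E_1164 else (eT_1165_1167 j)
def eT_1162_1167 (j : ℕ) : ℕ := bif Nat.blt j 1164 then (eT_1162_1164 j) else (eT_1164_1167 j)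
def eT_1168_1170 (j : ℕ) : ℕ := bif Nat.blt j 1169 then E_1168 else E_1169
def eT_1167_1170 (j : ℕ) : ℕ := bif Nat.blt j 1168 then E_1167 else (eT_1168_1170 j)
def eT_1171_1173 (j : ℕ) : ℕ := bif Nat.blt j 1172 then E_1171 else E_1172
def eT_1170_1173 (j : ℕ) : ℕ := bif Nat.blt j 1171 then E_1170 else (eT_1171_1173 j)
def eT_1167_1173 (j : ℕ) : ℕ := bif Nat.blt j 1170 then (eT_1167_1170 j) else (eT_1170_1173 j)
def eT_1162_1173 (j : ℕ) : ℕ := bif Nat.blt j 1167 then (eT_1162_1167 j) else (eT_1167_1173 j)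
def eT_1152_1173 (j : ℕ) : ℕ := bif Nat.blt j 1162 then (eT_1152_1162 j) else (eT_1162_1173 j)
def eT_1131_1173 (j : ℕ) : ℕ := bif Nat.blt j 1152 then (eT_1131_1152 j) else (eT_1152_1173 j)
def eT_1089_1173 (j : ℕ) : ℕ := bif Nat.blt j 1131 then (eT_1089_1131 j) else (eT_1131_1173 j)
def eT_1005_1173 (j : ℕ) : ℕ := bif Nat.blt j 1089 then (eT_1005_1089 j) else (eT_1089_1173 j)
def eT_1173_1175 (j : ℕ) : ℕ := bif Nat.blt j 1174 then E_1173 else E_1174
def eT_1176_1178 (j : ℕ) : ℕ := bif Nat.blt j 1177 then E_1176 else E_1177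
def eT_1175_1178 (j : ℕ) : ℕ := bif Nat.blt j 1176 then E_1175 else (eT_1176_1178 j)
def eT_1173_1178 (j : ℕ) : ℕ := bif Nat.blt j 1175 then (eT_1173_1175 j) else (eT_1175_1178 j)
def eT_1178_1180 (j : ℕ) : ℕ := bif Nat.blt j 1179 then E_1178 else E_1179
def eT_1181_1183 (j : ℕ) : ℕ := bif Nat.blt j 1182 then E_1181 else E_1182
def eT_1180_1183 (j : ℕ) : ℕ := bif Nat.blt j 1181 then E_1180 else (eT_1181_1183 j)
def eT_1178_1183 (j : ℕ) : ℕ := bif Nat.blt j 1180 then (eT_1178_1180 j) else (eT_1180_1183 j)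
def eT_1173_1183 (j : ℕ) : ℕ := bif Nat.blt j 1178 then (eT_1173_1178 j) else (eT_1178_1183 j)
def eT_1183_1185 (j : ℕ) : ℕ := bif Nat.blt j 1184 then E_1183 else E_1184
def eT_1186_1188 (j : ℕ) : ℕ := bif Nat.blt j 1187 then E_1186 else E_1187
def eT_1185_1188 (j : ℕ) : ℕ := bif Nat.blt j 1186 then E_1185 else (eT_1186_1188 j)
def eT_1183_1188 (j : ℕ) : ℕ := bif Nat.blt j 1185 then (eT_1183_1185 j) else (eT_1185_1188 j)
def eT_1189_1191 (j : ℕ) : ℕ := bif Nat.blt j 1190 then E_1189 else E_1190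
def eT_1188_1191 (j : ℕ) : ℕ := bif Nat.blt j 1189 then E_1188 else (eT_1189_1191 j)
def eT_1192_1194 (j : ℕ) : ℕ := bif Nat.blt j 1193 then E_1192 else E_1193
def eT_1191_1194 (j : ℕ) : ℕ := bif Nat.blt j 1192 then E_1191 else (eT_1192_1194 j)
def eT_1188_1194 (j : ℕ) : ℕ := bif Nat.blt j 1191 then (eT_1188_1191 j) else (eT_1191_1194 j)
def eT_1183_1194 (j : ℕ) : ℕ := bif Nat.blt j 1188 then (eT_1183_1188 j) else (eT_1188_1194 j)
def eT_1173_1194 (j : ℕ) : ℕ := bif Nat.blt j 1183 then (eT_1173_1183 j) else (eT_1183_1194 j)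
def eT_1194_1196 (j : ℕ) : ℕ := bif Nat.blt j 1195 then E_1194 else E_1195
def eT_1197_1199 (j : ℕ) : ℕ := bif Nat.blt j 1198 then E_1197 else E_1198
def eT_1196_1199 (j : ℕ) : ℕ := bif Nat.blt j 1197 then E_1196 else (eT_1197_1199 j)
def eT_1194_1199 (j : ℕ) : ℕ := bif Nat.blt j 1196 then (eT_1194_1196 j) else (eT_1196_1199 j)
def eT_1199_1201 (j : ℕ) : ℕ := bif Nat.blt j 1200 then E_1199 else E_1200
def eT_1202_1204 (j : ℕ) : ℕ := bif Nat.blt j 1203 then E_1202 else E_1203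
def eT_1201_1204 (j : ℕ) : ℕ := bif Nat.blt j 1202 then E_1201 else (eT_1202_1204 j)
def eT_1199_1204 (j : ℕ) : ℕ := bif Nat.blt j 1201 then (eT_1199_1201 j) else (eT_1201_1204 j)
def eT_1194_1204 (j : ℕ) : ℕ := bif Nat.blt j 1199 then (eT_1194_1199 j) else (eT_1199_1204 j)
def eT_1204_1206 (j : ℕ) : ℕ := bif Nat.blt j 1205 then E_1204 else E_1205
def eT_1207_1209 (j : ℕ) : ℕ := bif Nat.blt j 1208 then E_1207 else E_1208
def eT_1206_1209 (j : ℕ) : ℕ := bif Nat.blt j 1207 then E_1206 else (eT_1207_1209 j)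
def eT_1204_1209 (j : ℕ) : ℕ := bif Nat.blt j 1206 then (eT_1204_1206 j) else (eT_1206_1209 j)
def eT_1210_1212 (j : ℕ) : ℕ := bif Nat.blt j 1211 then E_1210 else E_1211
def eT_1209_1212 (j : ℕ) : ℕ := bif Nat.blt j 1210 then E_1209 else (eT_1210_1212 j)
def eT_1213_1215 (j : ℕ) : ℕ := bif Nat.blt j 1214 then E_1213 else E_1214
def eT_1212_1215 (j : ℕ) : ℕ := bif Nat.blt j 1213 then E_1212 else (eT_1213_1215 j)
def eT_1209_1215 (j : ℕ) : ℕ := bif Nat.blt j 1212 then (eT_1209_1212 j) else (eT_1212_1215 j)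
def eT_1204_1215 (j : ℕ) : ℕ := bif Nat.blt j 1209 then (eT_1204_1209 j) else (eT_1209_1215 j)
def eT_1194_1215 (j : ℕ) : ℕ := bif Nat.blt j 1204 then (eT_1194_1204 j) else (eT_1204_1215 j)
def eT_1173_1215 (j : ℕ) : ℕ := bif Nat.blt j 1194 then (eT_1173_1194 j) else (eT_1194_1215 j)
def eT_1215_1217 (j : ℕ) : ℕ := bif Nat.blt j 1216 then E_1215 else E_1216
def eT_1218_1220 (j : ℕ) : ℕ := bif Nat.blt j 1219 then E_1218 else E_1219
def eT_1217_1220 (j : ℕ) : ℕ := bif Nat.blt j 1218 then E_1217 else (eT_1218_1220 j)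
def eT_1215_1220 (j : ℕ) : ℕ := bif Nat.blt j 1217 then (eT_1215_1217 j) else (eT_1217_1220 j)
def eT_1220_1222 (j : ℕ) : ℕ := bif Nat.blt j 1221 then E_1220 else E_1221
def eT_1223_1225 (j : ℕ) : ℕ := bif Nat.blt j 1224 then E_1223 else E_1224
def eT_1222_1225 (j : ℕ) : ℕ := bif Nat.blt j 1223 then E_1222 else (eT_1223_1225 j)
def eT_1220_1225 (j : ℕ) : ℕ := bif Nat.blt j 1222 then (eT_1220_1222 j) else (eT_1222_1225 j)
def eT_1215_1225 (j : ℕ) : ℕ := bif Nat.blt j 1220 then (eT_1215_1220 j) else (eT_1220_1225 j)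
def eT_1225_1227 (j : ℕ) : ℕ := bif Nat.blt j 1226 then E_1225 else E_1226
def eT_1228_1230 (j : ℕ) : ℕ := bif Nat.blt j 1229 then E_1228 else E_1229
def eT_1227_1230 (j : ℕ) : ℕ := bif Nat.blt j 1228 then E_1227 else (eT_1228_1230 j)
def eT_1225_1230 (j : ℕ) : ℕ := bif Nat.blt j 1227 then (eT_1225_1227 j) else (eT_1227_1230 j)
def eT_1231_1233 (j : ℕ) : ℕ := bif Nat.blt j 1232 then E_1231 else E_1232
def eT_1230_1233 (j : ℕ) : ℕ := bif Nat.blt j 1231 then E_1230 else (eT_1231_1233 j)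
def eT_1234_1236 (j : ℕ) : ℕ := bif Nat.blt j 1235 then E_1234 else E_1235
def eT_1233_1236 (j : ℕ) : ℕ := bif Nat.blt j 1234 then E_1233 else (eT_1234_1236 j)
def eT_1230_1236 (j : ℕ) : ℕ := bif Nat.blt j 1233 then (eT_1230_1233 j) else (eT_1233_1236 j)
def eT_1225_1236 (j : ℕ) : ℕ := bif Nat.blt j 1230 then (eT_1225_1230 j) else (eT_1230_1236 j)
def eT_1215_1236 (j : ℕ) : ℕ := bif Nat.blt j 1225 then (eT_1215_1225 j) else (eT_1225_1236 j)
def eT_1236_1238 (j : ℕ) : ℕ := bif Nat.blt j 1237 then E_1236 else E_1237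
def eT_1239_1241 (j : ℕ) : ℕ := bif Nat.blt j 1240 then E_1239 else E_1240
def eT_1238_1241 (j : ℕ) : ℕ := bif Nat.blt j 1239 then E_1238 else (eT_1239_1241 j)
def eT_1236_1241 (j : ℕ) : ℕ := bif Nat.blt j 1238 then (eT_1236_1238 j) else (eT_1238_1241 j)
def eT_1241_1243 (j : ℕ) : ℕ := bif Nat.blt j 1242 then E_1241 else E_1242
def eT_1244_1246 (j : ℕ) : ℕ := bif Nat.blt j 1245 then E_1244 else E_1245
def eT_1243_1246 (j : ℕ) : ℕ := bif Nat.blt j 1244 then E_1243 else (eT_1244_1246 j)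
def eT_1241_1246 (j : ℕ) : ℕ := bif Nat.blt j 1243 then (eT_1241_1243 j) else (eT_1243_1246 j)
def eT_1236_1246 (j : ℕ) : ℕ := bif Nat.blt j 1241 then (eT_1236_1241 j) else (eT_1241_1246 j)
def eT_1246_1248 (j : ℕ) : ℕ := bif Nat.blt j 1247 then E_1246 else E_1247
def eT_1249_1251 (j : ℕ) : ℕ := bif Nat.blt j 1250 then E_1249 else E_1250
def eT_1248_1251 (j : ℕ) : ℕ := bif Nat.blt j 1249 then E_1248 else (eT_1249_1251 j)
def eT_1246_1251 (j : ℕ) : ℕ := bif Nat.blt j 1248 then (eT_1246_1248 j) else (eT_1248_1251 j)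
def eT_1252_1254 (j : ℕ) : ℕ := bif Nat.blt j 1253 then E_1252 else E_1253
def eT_1251_1254 (j : ℕ) : ℕ := bif Nat.blt j 1252 then E_1251 else (eT_1252_1254 j)
def eT_1255_1257 (j : ℕ) : ℕ := bif Nat.blt j 1256 then E_1255 else E_1256
def eT_1254_1257 (j : ℕ) : ℕ := bif Nat.blt j 1255 then E_1254 else (eT_1255_1257 j)
def eT_1251_1257 (j : ℕ) : ℕ := bif Nat.blt j 1254 then (eT_1251_1254 j) else (eT_1254_1257 j)
def eT_1246_1257 (j : ℕ) : ℕ := bif Nat.blt j 1251 then (eT_1246_1251 j) else (eT_1251_1257 j)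
def eT_1236_1257 (j : ℕ) : ℕ := bif Nat.blt j 1246 then (eT_1236_1246 j) else (eT_1246_1257 j)
def eT_1215_1257 (j : ℕ) : ℕ := bif Nat.blt j 1236 then (eT_1215_1236 j) else (eT_1236_1257 j)
def eT_1173_1257 (j : ℕ) : ℕ := bif Nat.blt j 1215 then (eT_1173_1215 j) else (eT_1215_1257 j)
def eT_1257_1259 (j : ℕ) : ℕ := bif Nat.blt j 1258 then E_1257 else E_1258
def eT_1260_1262 (j : ℕ) : ℕ := bif Nat.blt j 1261 then E_1260 else E_1261
def eT_1259_1262 (j : ℕ) : ℕ := bif Nat.blt j 1260 then E_1259 else (eT_1260_1262 j)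
def eT_1257_1262 (j : ℕ) : ℕ := bif Nat.blt j 1259 then (eT_1257_1259 j) else (eT_1259_1262 j)
def eT_1262_1264 (j : ℕ) : ℕ := bif Nat.blt j 1263 then E_1262 else E_1263
def eT_1265_1267 (j : ℕ) : ℕ := bif Nat.blt j 1266 then E_1265 else E_1266
def eT_1264_1267 (j : ℕ) : ℕ := bif Nat.blt j 1265 then E_1264 else (eT_1265_1267 j)
def eT_1262_1267 (j : ℕ) : ℕ := bif Nat.blt j 1264 then (eT_1262_1264 j) else (eT_1264_1267 j)
def eT_1257_1267 (j : ℕ) : ℕ := bif Nat.blt j 1262 then (eT_1257_1262 j) else (eT_1262_1267 j)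
def eT_1267_1269 (j : ℕ) : ℕ := bif Nat.blt j 1268 then E_1267 else E_1268
def eT_1270_1272 (j : ℕ) : ℕ := bif Nat.blt j 1271 then E_1270 else E_1271
def eT_1269_1272 (j : ℕ) : ℕ := bif Nat.blt j 1270 then E_1269 else (eT_1270_1272 j)
def eT_1267_1272 (j : ℕ) : ℕ := bif Nat.blt j 1269 then (eT_1267_1269 j) else (eT_1269_1272 j)
def eT_1273_1275 (j : ℕ) : ℕ := bif Nat.blt j 1274 then E_1273 else E_1274
def eT_1272_1275 (j : ℕ) : ℕ := bif Nat.blt j 1273 then E_1272 else (eT_1273_1275 j)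
def eT_1276_1278 (j : ℕ) : ℕ := bif Nat.blt j 1277 then E_1276 else E_1277
def eT_1275_1278 (j : ℕ) : ℕ := bif Nat.blt j 1276 then E_1275 else (eT_1276_1278 j)
def eT_1272_1278 (j : ℕ) : ℕ := bif Nat.blt j 1275 then (eT_1272_1275 j) else (eT_1275_1278 j)
def eT_1267_1278 (j : ℕ) : ℕ := bif Nat.blt j 1272 then (eT_1267_1272 j) else (eT_1272_1278 j)
def eT_1257_1278 (j : ℕ) : ℕ := bif Nat.blt j 1267 then (eT_1257_1267 j) else (eT_1267_1278 j)
def eT_1278_1280 (j : ℕ) : ℕ := bif Nat.blt j 1279 then E_1278 else E_1279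
def eT_1281_1283 (j : ℕ) : ℕ := bif Nat.blt j 1282 then E_1281 else E_1282
def eT_1280_1283 (j : ℕ) : ℕ := bif Nat.blt j 1281 then E_1280 else (eT_1281_1283 j)
def eT_1278_1283 (j : ℕ) : ℕ := bif Nat.blt j 1280 then (eT_1278_1280 j) else (eT_1280_1283 j)
def eT_1283_1285 (j : ℕ) : ℕ := bif Nat.blt j 1284 then E_1283 else E_1284
def eT_1286_1288 (j : ℕ) : ℕ := bif Nat.blt j 1287 then E_1286 else E_1287
def eT_1285_1288 (j : ℕ) : ℕ := bif Nat.blt j 1286 then E_1285 else (eT_1286_1288 j)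
def eT_1283_1288 (j : ℕ) : ℕ := bif Nat.blt j 1285 then (eT_1283_1285 j) else (eT_1285_1288 j)
def eT_1278_1288 (j : ℕ) : ℕ := bif Nat.blt j 1283 then (eT_1278_1283 j) else (eT_1283_1288 j)
def eT_1288_1290 (j : ℕ) : ℕ := bif Nat.blt j 1289 then E_1288 else E_1289
def eT_1291_1293 (j : ℕ) : ℕ := bif Nat.blt j 1292 then E_1291 else E_1292
def eT_1290_1293 (j : ℕ) : ℕ := bif Nat.blt j 1291 then E_1290 else (eT_1291_1293 j)
def eT_1288_1293 (j : ℕ) : ℕ := bif Nat.blt j 1290 then (eT_1288_1290 j) else (eT_1290_1293 j)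
def eT_1294_1296 (j : ℕ) : ℕ := bif Nat.blt j 1295 then E_1294 else E_1295
def eT_1293_1296 (j : ℕ) : ℕ := bif Nat.blt j 1294 then E_1293 else (eT_1294_1296 j)
def eT_1297_1299 (j : ℕ) : ℕ := bif Nat.blt j 1298 then E_1297 else E_1298
def eT_1296_1299 (j : ℕ) : ℕ := bif Nat.blt j 1297 then E_1296 else (eT_1297_1299 j)
def eT_1293_1299 (j : ℕ) : ℕ := bif Nat.blt j 1296 then (eT_1293_1296 j) else (eT_1296_1299 j)
def eT_1288_1299 (j : ℕ) : ℕ := bif Nat.blt j 1293 then (eT_1288_1293 j) else (eT_1293_1299 j)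
def eT_1278_1299 (j : ℕ) : ℕ := bif Nat.blt j 1288 then (eT_1278_1288 j) else (eT_1288_1299 j)
def eT_1257_1299 (j : ℕ) : ℕ := bif Nat.blt j 1278 then (eT_1257_1278 j) else (eT_1278_1299 j)
def eT_1299_1301 (j : ℕ) : ℕ := bif Nat.blt j 1300 then E_1299 else E_1300
def eT_1302_1304 (j : ℕ) : ℕ := bif Nat.blt j 1303 then E_1302 else E_1303
def eT_1301_1304 (j : ℕ) : ℕ := bif Nat.blt j 1302 then E_1301 else (eT_1302_1304 j)
def eT_1299_1304 (j : ℕ) : ℕ := bif Nat.blt j 1301 then (eT_1299_1301 j) else (eT_1301_1304 j)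
def eT_1304_1306 (j : ℕ) : ℕ := bif Nat.blt j 1305 then E_1304 else E_1305
def eT_1307_1309 (j : ℕ) : ℕ := bif Nat.blt j 1308 then E_1307 else E_1308
def eT_1306_1309 (j : ℕ) : ℕ := bif Nat.blt j 1307 then E_1306 else (eT_1307_1309 j)
def eT_1304_1309 (j : ℕ) : ℕ := bif Nat.blt j 1306 then (eT_1304_1306 j) else (eT_1306_1309 j)
def eT_1299_1309 (j : ℕ) : ℕ := bif Nat.blt j 1304 then (eT_1299_1304 j) else (eT_1304_1309 j)
def eT_1309_1311 (j : ℕ) : ℕ := bif Nat.blt j 1310 then E_1309 else E_1310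
def eT_1312_1314 (j : ℕ) : ℕ := bif Nat.blt j 1313 then E_1312 else E_1313
def eT_1311_1314 (j : ℕ) : ℕ := bif Nat.blt j 1312 then E_1311 else (eT_1312_1314 j)
def eT_1309_1314 (j : ℕ) : ℕ := bif Nat.blt j 1311 then (eT_1309_1311 j) else (eT_1311_1314 j)
def eT_1315_1317 (j : ℕ) : ℕ := bif Nat.blt j 1316 then E_1315 else E_1316
def eT_1314_1317 (j : ℕ) : ℕ := bif Nat.blt j 1315 then E_1314 else (eT_1315_1317 j)
def eT_1318_1320 (j : ℕ) : ℕ := bif Nat.blt j 1319 then E_1318 else E_1319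
def eT_1317_1320 (j : ℕ) : ℕ := bif Nat.blt j 1318 then E_1317 else (eT_1318_1320 j)
def eT_1314_1320 (j : ℕ) : ℕ := bif Nat.blt j 1317 then (eT_1314_1317 j) else (eT_1317_1320 j)
def eT_1309_1320 (j : ℕ) : ℕ := bif Nat.blt j 1314 then (eT_1309_1314 j) else (eT_1314_1320 j)
def eT_1299_1320 (j : ℕ) : ℕ := bif Nat.blt j 1309 then (eT_1299_1309 j) else (eT_1309_1320 j)
def eT_1320_1322 (j : ℕ) : ℕ := bif Nat.blt j 1321 then E_1320 else E_1321
def eT_1323_1325 (j : ℕ) : ℕ := bif Nat.blt j 1324 then E_1323 else E_1324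
def eT_1322_1325 (j : ℕ) : ℕ := bif Nat.blt j 1323 then E_1322 else (eT_1323_1325 j)
def eT_1320_1325 (j : ℕ) : ℕ := bif Nat.blt j 1322 then (eT_1320_1322 j) else (eT_1322_1325 j)
def eT_1325_1327 (j : ℕ) : ℕ := bif Nat.blt j 1326 then E_1325 else E_1326
def eT_1328_1330 (j : ℕ) : ℕ := bif Nat.blt j 1329 then E_1328 else E_1329
def eT_1327_1330 (j : ℕ) : ℕ := bif Nat.blt j 1328 then E_1327 else (eT_1328_1330 j)
def eT_1325_1330 (j : ℕ) : ℕ := bif Nat.blt j 1327 then (eT_1325_1327 j) else (eT_1327_1330 j)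
def eT_1320_1330 (j : ℕ) : ℕ := bif Nat.blt j 1325 then (eT_1320_1325 j) else (eT_1325_1330 j)
def eT_1330_1332 (j : ℕ) : ℕ := bif Nat.blt j 1331 then E_1330 else E_1331
def eT_1333_1335 (j : ℕ) : ℕ := bif Nat.blt j 1334 then E_1333 else E_1334
def eT_1332_1335 (j : ℕ) : ℕ := bif Nat.blt j 1333 then E_1332 else (eT_1333_1335 j)
def eT_1330_1335 (j : ℕ) : ℕ := bif Nat.blt j 1332 then (eT_1330_1332 j) else (eT_1332_1335 j)
def eT_1336_1338 (j : ℕ) : ℕ := bif Nat.blt j 1337 then E_1336 else E_1337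
def eT_1335_1338 (j : ℕ) : ℕ := bif Nat.blt j 1336 then E_1335 else (eT_1336_1338 j)
def eT_1339_1341 (j : ℕ) : ℕ := bif Nat.blt j 1340 then E_1339 else E_1340
def eT_1338_1341 (j : ℕ) : ℕ := bif Nat.blt j 1339 then E_1338 else (eT_1339_1341 j)
def eT_1335_1341 (j : ℕ) : ℕ := bif Nat.blt j 1338 then (eT_1335_1338 j) else (eT_1338_1341 j)
def eT_1330_1341 (j : ℕ) : ℕ := bif Nat.blt j 1335 then (eT_1330_1335 j) else (eT_1335_1341 j)
def eT_1320_1341 (j : ℕ) : ℕ := bif Nat.blt j 1330 then (eT_1320_1330 j) else (eT_1330_1341 j)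
def eT_1299_1341 (j : ℕ) : ℕ := bif Nat.blt j 1320 then (eT_1299_1320 j) else (eT_1320_1341 j)
def eT_1257_1341 (j : ℕ) : ℕ := bif Nat.blt j 1299 then (eT_1257_1299 j) else (eT_1299_1341 j)
def eT_1173_1341 (j : ℕ) : ℕ := bif Nat.blt j 1257 then (eT_1173_1257 j) else (eT_1257_1341 j)
def eT_1005_1341 (j : ℕ) : ℕ := bif Nat.blt j 1173 then (eT_1005_1173 j) else (eT_1173_1341 j)
def eT_670_1341 (j : ℕ) : ℕ := bif Nat.blt j 1005 then (eT_670_1005 j) else (eT_1005_1341 j)
def eT_0_1341 (j : ℕ) : ℕ := bif Nat.blt j 670 then (eT_0_670 j) else (eT_670_1341 j)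
def eT (j : ℕ) : ℕ := (eT_0_1341 j)
noncomputable def chunkF (h : ℕ) : ℕ := Nat.rec (motive := fun _ => ℕ) (eT 0) (fun n _ => eT (Nat.succ n)) h
noncomputable def Eo (r : ℕ) : ℕ := Nat.land (Nat.shiftRight (chunkF (Nat.shiftRight r 8)) (Nat.mul (Nat.land r 255) 54)) 18014398509481983
def invT : ℕ := 0xffef7cefae78df6d74cf2c70beeb6caeaa689e69648e28607de75c6da6585d65544d24503ce34c2ca2481c61440c2040
def inv (y : ℕ) : ℕ := invOf invT y
def Wt_0_2 (j : ℕ) : List ℕ := bif Nat.blt j 1 then [nat_lit 0, nat_lit 4, nat_lit 0, nat_lit 4] else [nat_lit 1, nat_lit 4, nat_lit 1, nat_lit 4]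
def Wt_2_4 (j : ℕ) : List ℕ := bif Nat.blt j 3 then [nat_lit 2, nat_lit 4, nat_lit 2, nat_lit 4] else [nat_lit 5, nat_lit 4, nat_lit 5, nat_lit 4]
def Wt_0_4 (j : ℕ) : List ℕ := bif Nat.blt j 2 then (Wt_0_2 j) else (Wt_2_4 j)
def Wt_4_6 (j : ℕ) : List ℕ := bif Nat.blt j 5 then [nat_lit 6, nat_lit 4, nat_lit 6, nat_lit 4] else [nat_lit 4, nat_lit 3, nat_lit 4, nat_lit 3, nat_lit 4, nat_lit 3]
def Wt_6_8 (j : ℕ) : List ℕ := bif Nat.blt j 7 then [nat_lit 0, nat_lit 3, nat_lit 0, nat_lit 3] else [nat_lit 1, nat_lit 3, nat_lit 1, nat_lit 3]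
def Wt_4_8 (j : ℕ) : List ℕ := bif Nat.blt j 6 then (Wt_4_6 j) else (Wt_6_8 j)
def Wt_0_8 (j : ℕ) : List ℕ := bif Nat.blt j 4 then (Wt_0_4 j) else (Wt_4_8 j)
def Wt_8_10 (j : ℕ) : List ℕ := bif Nat.blt j 9 then [nat_lit 5, nat_lit 3, nat_lit 5, nat_lit 3] else [nat_lit 6, nat_lit 3, nat_lit 6, nat_lit 3]
def Wt_10_12 (j : ℕ) : List ℕ := bif Nat.blt j 11 then [nat_lit 1, nat_lit 3, nat_lit 2, nat_lit 3, nat_lit 2, nat_lit 1, nat_lit 4, nat_lit 3, nat_lit 2, nat_lit 3, nat_lit 2, nat_lit 1, nat_lit 3, nat_lit 2, nat_lit 3, nat_lit 2, nat_lit 1, nat_lit 3, nat_lit 2, nat_lit 3, nat_lit 2, nat_lit 1, nat_lit 3, nat_lit 2, nat_lit 3, nat_lit 2, nat_lit 1, nat_lit 3, nat_lit 2, nat_lit 3, nat_lit 2, nat_lit 1, nat_lit 4, nat_lit 3, nat_lit 2, nat_lit 3, nat_lit 2, nat_lit 1, nat_lit 3, nat_lit 2, nat_lit 3, nat_lit 2, nat_lit 1, nat_lit 3, nat_lit 2, nat_lit 3, nat_lit 2, nat_lit 1, nat_lit 3, nat_lit 2, nat_lit 3, nat_lit 2, nat_lit 1, nat_lit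 3, nat_lit 2, nat_lit 3, nat_lit 2, nat_lit 1, nat_lit 4, nat_lit 3, nat_lit 2, nat_lit 3, nat_lit 2, nat_lit 1, nat_lit 3, nat_lit 2, nat_lit 3, nat_lit 2, nat_lit 1, nat_lit 3, nat_lit 2, nat_lit 3, nat_lit 2, nat_lit 1, nat_lit 3, nat_lit 2, nat_lit 3, nat_lit 2] else [nat_lit 63, nat_lit 3, nat_lit 2, nat_lit 3, nat_lit 2, nat_lit 3, nat_lit 0, nat_lit 2, nat_lit 3, nat_lit 2]
def Wt_8_12 (j : ℕ) : List ℕ := bif Nat.blt j 10 then (Wt_8_10 j) else (Wt_10_12 j)
def Wt_12_14 (j : ℕ) : List ℕ := bif Nat.blt j 13 then [nat_lit 63, nat_lit 1, nat_lit 63, nat_lit 1] else [nat_lit 2, nat_lit 2, nat_lit 63]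
def Wt_15_17 (j : ℕ) : List ℕ := bif Nat.blt j 16 then [nat_lit 0, nat_lit 2, nat_lit 3, nat_lit 2, nat_lit 3, nat_lit 2, nat_lit 3, nat_lit 2, nat_lit 3] else [nat_lit 0, nat_lit 3, nat_lit 2, nat_lit 3, nat_lit 2, nat_lit 3, nat_lit 2, nat_lit 3, nat_lit 2]
def Wt_14_17 (j : ℕ) : List ℕ := bif Nat.blt j 15 then [nat_lit 1, nat_lit 1, nat_lit 63] else (Wt_15_17 j)
def Wt_12_17 (j : ℕ) : List ℕ := bif Nat.blt j 14 then (Wt_12_14 j) else (Wt_14_17 j)
def Wt_8_17 (j : ℕ) : List ℕ := bif Nat.blt j 12 then (Wt_8_12 j) else (Wt_12_17 j)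
def Wt_0_17 (j : ℕ) : List ℕ := bif Nat.blt j 8 then (Wt_0_8 j) else (Wt_8_17 j)
def Wt_17_19 (j : ℕ) : List ℕ := bif Nat.blt j 18 then [nat_lit 1, nat_lit 2, nat_lit 1, nat_lit 2, nat_lit 1, nat_lit 2] else [nat_lit 63, nat_lit 1, nat_lit 2, nat_lit 1, nat_lit 2, nat_lit 1, nat_lit 2]
def Wt_19_21 (j : ℕ) : List ℕ := bif Nat.blt j 20 then [nat_lit 63, nat_lit 3, nat_lit 63, nat_lit 3] else [nat_lit 63, nat_lit 2, nat_lit 63, nat_lit 2]
def Wt_17_21 (j : ℕ) : List ℕ := bif Nat.blt j 19 then (Wt_17_19 j) else (Wt_19_21 j)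
def Wt_21_23 (j : ℕ) : List ℕ := bif Nat.blt j 22 then [nat_lit 63, nat_lit 1, nat_lit 63, nat_lit 1, nat_lit 63] else [nat_lit 3, nat_lit 3, nat_lit 63]
def Wt_24_26 (j : ℕ) : List ℕ := bif Nat.blt j 25 then [nat_lit 0, nat_lit 0, nat_lit 63] else [nat_lit 0, nat_lit 2, nat_lit 0, nat_lit 2]
def Wt_23_26 (j : ℕ) : List ℕ := bif Nat.blt j 24 then [nat_lit 1, nat_lit 63, nat_lit 1, nat_lit 63] else (Wt_24_26 j)
def Wt_21_26 (j : ℕ) : List ℕ := bif Nat.blt j 23 then (Wt_21_23 j) else (Wt_23_26 j)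
def Wt_17_26 (j : ℕ) : List ℕ := bif Nat.blt j 21 then (Wt_17_21 j) else (Wt_21_26 j)
def Wt_26_28 (j : ℕ) : List ℕ := bif Nat.blt j 27 then [nat_lit 4, nat_lit 2, nat_lit 4, nat_lit 2] else [nat_lit 5, nat_lit 2, nat_lit 5, nat_lit 2]
def Wt_28_30 (j : ℕ) : List ℕ := bif Nat.blt j 29 then [nat_lit 6, nat_lit 2, nat_lit 6, nat_lit 2] else [nat_lit 4, nat_lit 1, nat_lit 4, nat_lit 1]
def Wt_26_30 (j : ℕ) : List ℕ := bif Nat.blt j 28 then (Wt_26_28 j) else (Wt_28_30 j)
def Wt_30_32 (j : ℕ) : List ℕ := bif Nat.blt j 31 then [nat_lit 5, nat_lit 2, nat_lit 1, nat_lit 0, nat_lit 5, nat_lit 2, nat_lit 1, nat_lit 0, nat_lit 5, nat_lit 2, nat_lit 1, nat_lit 0, nat_lit 5, nat_lit 2, nat_lit 1, nat_lit 0, nat_lit 5, nat_lit 2, nat_lit 1, nat_lit 0] else [nat_lit 63, nat_lit 0, nat_lit 5, nat_lit 0, nat_lit 5]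
def Wt_33_35 (j : ℕ) : List ℕ := bif Nat.blt j 34 then [nat_lit 2, nat_lit 5, nat_lit 2, nat_lit 5] else [nat_lit 4, nat_lit 5, nat_lit 4, nat_lit 5]
def Wt_32_35 (j : ℕ) : List ℕ := bif Nat.blt j 33 then [nat_lit 1, nat_lit 5, nat_lit 1, nat_lit 5, nat_lit 1, nat_lit 5] else (Wt_33_35 j)
def Wt_30_35 (j : ℕ) : List ℕ := bif Nat.blt j 32 then (Wt_30_32 j) else (Wt_32_35 j)
def Wt_26_35 (j : ℕ) : List ℕ := bif Nat.blt j 30 then (Wt_26_30 j) else (Wt_30_35 j)
def Wt_17_35 (j : ℕ) : List ℕ := bif Nat.blt j 26 then (Wt_17_26 j) else (Wt_26_35 j)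
def Wt_0_35 (j : ℕ) : List ℕ := bif Nat.blt j 17 then (Wt_0_17 j) else (Wt_17_35 j)
def Wt_35_37 (j : ℕ) : List ℕ := bif Nat.blt j 36 then [nat_lit 4, nat_lit 0, nat_lit 4, nat_lit 0] else [nat_lit 63, nat_lit 0, nat_lit 2, nat_lit 0, nat_lit 2]
def Wt_37_39 (j : ℕ) : List ℕ := bif Nat.blt j 38 then [nat_lit 3, nat_lit 2, nat_lit 3, nat_lit 2, nat_lit 3, nat_lit 2, nat_lit 3, nat_lit 0, nat_lit 2] else [nat_lit 2, nat_lit 1, nat_lit 2, nat_lit 1, nat_lit 2, nat_lit 1]
def Wt_35_39 (j : ℕ) : List ℕ := bif Nat.blt j 37 then (Wt_35_37 j) else (Wt_37_39 j)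
def Wt_39_41 (j : ℕ) : List ℕ := bif Nat.blt j 40 then [nat_lit 3, nat_lit 2, nat_lit 3, nat_lit 2, nat_lit 1, nat_lit 3, nat_lit 2, nat_lit 3, nat_lit 2, nat_lit 1, nat_lit 3, nat_lit 2, nat_lit 3, nat_lit 2, nat_lit 1, nat_lit 3, nat_lit 2, nat_lit 3, nat_lit 2, nat_lit 1, nat_lit 4, nat_lit 3, nat_lit 2, nat_lit 3, nat_lit 2, nat_lit 1, nat_lit 3, nat_lit 2, nat_lit 3, nat_lit 2, nat_lit 1, nat_lit 3, nat_lit 2, nat_lit 3, nat_lit 2, nat_lit 1, nat_lit 3, nat_lit 2, nat_lit 3, nat_lit 2, nat_lit 1, nat_lit 3, nat_lit 2, nat_lit 3, nat_lit 2, nat_lit 1, nat_lit 4, nat_lit 3, nat_lit 2, nat_lit 3, nat_lit 2, nat_lit 1, nat_lit 3, nat_lit 2, nat_lit 3, nat_lit 2, nat_lit 1, nat_lit 3, nat_lit 2, nat_lit 3, nat_lit 2, nat_lit 1, nat_lit 3, nat_lit 2, nat_lit 3, nat_lit 2, nat_lit 1, nat_lit 3, nat_lit 2, nat_lit 3, nat_lit 2, nat_lit 1, nat_lit 4, nat_lit 3, nat_lit 2, nat_lit 3, nat_lit 2, nat_lit 1] else [nat_lit 63, nat_lit 1, nat_lit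 3, nat_lit 1, nat_lit 3]
def Wt_41_43 (j : ℕ) : List ℕ := bif Nat.blt j 42 then [nat_lit 1, nat_lit 6, nat_lit 1, nat_lit 6, nat_lit 1, nat_lit 6] else [nat_lit 2, nat_lit 6, nat_lit 2, nat_lit 6]
def Wt_39_43 (j : ℕ) : List ℕ := bif Nat.blt j 41 then (Wt_39_41 j) else (Wt_41_43 j)
def Wt_35_43 (j : ℕ) : List ℕ := bif Nat.blt j 39 then (Wt_35_39 j) else (Wt_39_43 j)
def Wt_43_45 (j : ℕ) : List ℕ := bif Nat.blt j 44 then [nat_lit 4, nat_lit 6, nat_lit 4, nat_lit 6] else [nat_lit 3, nat_lit 4, nat_lit 3, nat_lit 4, nat_lit 3, nat_lit 4]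
def Wt_45_47 (j : ℕ) : List ℕ := bif Nat.blt j 46 then [nat_lit 1, nat_lit 0, nat_lit 1, nat_lit 0, nat_lit 1, nat_lit 0, nat_lit 1, nat_lit 0, nat_lit 1, nat_lit 0] else [nat_lit 6, nat_lit 5, nat_lit 1, nat_lit 6, nat_lit 5, nat_lit 1, nat_lit 6, nat_lit 5, nat_lit 1, nat_lit 6, nat_lit 5, nat_lit 1, nat_lit 6, nat_lit 5, nat_lit 1]
def Wt_43_47 (j : ℕ) : List ℕ := bif Nat.blt j 45 then (Wt_43_45 j) else (Wt_45_47 j)
def Wt_47_49 (j : ℕ) : List ℕ := bif Nat.blt j 48 then [nat_lit 6, nat_lit 1, nat_lit 6, nat_lit 1, nat_lit 6, nat_lit 1] else [nat_lit 0, nat_lit 6, nat_lit 5, nat_lit 6, nat_lit 5]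
def Wt_50_52 (j : ℕ) : List ℕ := bif Nat.blt j 51 then [nat_lit 0, nat_lit 5, nat_lit 6, nat_lit 5, nat_lit 6] else [nat_lit 5, nat_lit 1, nat_lit 5, nat_lit 1, nat_lit 5, nat_lit 1]
def Wt_49_52 (j : ℕ) : List ℕ := bif Nat.blt j 50 then [nat_lit 6, nat_lit 0, nat_lit 6, nat_lit 0] else (Wt_50_52 j)
def Wt_47_52 (j : ℕ) : List ℕ := bif Nat.blt j 49 then (Wt_47_49 j) else (Wt_49_52 j)
def Wt_43_52 (j : ℕ) : List ℕ := bif Nat.blt j 47 then (Wt_43_47 j) else (Wt_47_52 j)
def Wt_35_52 (j : ℕ) : List ℕ := bif Nat.blt j 43 then (Wt_35_43 j) else (Wt_43_52 j)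
def Wt_52_54 (j : ℕ) : List ℕ := bif Nat.blt j 53 then [nat_lit 1, nat_lit 3, nat_lit 2, nat_lit 3, nat_lit 2, nat_lit 1, nat_lit 3, nat_lit 2, nat_lit 3, nat_lit 2, nat_lit 1, nat_lit 3, nat_lit 2, nat_lit 3, nat_lit 2, nat_lit 1, nat_lit 3, nat_lit 2, nat_lit 3, nat_lit 2, nat_lit 1, nat_lit 4, nat_lit 3, nat_lit 2, nat_lit 3, nat_lit 2, nat_lit 1, nat_lit 3, nat_lit 2, nat_lit 3, nat_lit 2, nat_lit 1, nat_lit 3, nat_lit 2, nat_lit 3, nat_lit 2, nat_lit 1, nat_lit 3, nat_lit 2, nat_lit 3, nat_lit 2, nat_lit 1, nat_lit 3, nat_lit 2, nat_lit 3, nat_lit 2, nat_lit 1, nat_lit 4, nat_lit 3, nat_lit 2, nat_lit 3, nat_lit 2, nat_lit 1, nat_lit 3, nat_lit 2, nat_lit 3, nat_lit 2, nat_lit 1, nat_lit 3, nat_lit 2, nat_lit 3, nat_lit 2, nat_lit 1, nat_lit 3, nat_lit 2, nat_lit 3, nat_lit 2, nat_lit 1, nat_lit 3, nat_lit 2, nat_lit 3, nat_lit 2, nat_lit 1, nat_lit 4, nat_lit 3, nat_lit 2, nat_lit 3, nat_lit 2] else [nat_lit 3, nat_lit 1, nat_lit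 3, nat_lit 1]
def Wt_54_56 (j : ℕ) : List ℕ := bif Nat.blt j 55 then [nat_lit 3, nat_lit 5, nat_lit 3, nat_lit 5] else [nat_lit 3, nat_lit 6, nat_lit 3, nat_lit 6]
def Wt_52_56 (j : ℕ) : List ℕ := bif Nat.blt j 54 then (Wt_52_54 j) else (Wt_54_56 j)
def Wt_56_58 (j : ℕ) : List ℕ := bif Nat.blt j 57 then [nat_lit 3, nat_lit 0, nat_lit 3, nat_lit 0] else [nat_lit 5, nat_lit 0, nat_lit 5, nat_lit 0]
def Wt_59_61 (j : ℕ) : List ℕ := bif Nat.blt j 60 then [nat_lit 5, nat_lit 5, nat_lit 63] else [nat_lit 63, nat_lit 4, nat_lit 3, nat_lit 4, nat_lit 3, nat_lit 4, nat_lit 3]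
def Wt_58_61 (j : ℕ) : List ℕ := bif Nat.blt j 59 then [nat_lit 63, nat_lit 2, nat_lit 5, nat_lit 2, nat_lit 5] else (Wt_59_61 j)
def Wt_56_61 (j : ℕ) : List ℕ := bif Nat.blt j 58 then (Wt_56_58 j) else (Wt_58_61 j)
def Wt_52_61 (j : ℕ) : List ℕ := bif Nat.blt j 56 then (Wt_52_56 j) else (Wt_56_61 j)
def Wt_61_63 (j : ℕ) : List ℕ := bif Nat.blt j 62 then [nat_lit 4, nat_lit 4, nat_lit 63] else [nat_lit 2, nat_lit 3, nat_lit 2, nat_lit 3, nat_lit 0, nat_lit 2, nat_lit 3, nat_lit 2, nat_lit 3]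
def Wt_63_65 (j : ℕ) : List ℕ := bif Nat.blt j 64 then [nat_lit 5, nat_lit 6, nat_lit 5, nat_lit 6, nat_lit 5, nat_lit 6, nat_lit 5, nat_lit 6] else [nat_lit 2, nat_lit 1, nat_lit 0, nat_lit 5, nat_lit 2, nat_lit 1, nat_lit 0, nat_lit 5, nat_lit 2, nat_lit 1, nat_lit 0, nat_lit 5, nat_lit 2, nat_lit 1, nat_lit 0, nat_lit 5, nat_lit 2, nat_lit 1, nat_lit 0, nat_lit 5]
def Wt_61_65 (j : ℕ) : List ℕ := bif Nat.blt j 63 then (Wt_61_63 j) else (Wt_63_65 j)
def Wt_65_67 (j : ℕ) : List ℕ := bif Nat.blt j 66 then [nat_lit 4, nat_lit 3, nat_lit 2, nat_lit 3, nat_lit 2, nat_lit 1, nat_lit 3, nat_lit 2, nat_lit 3, nat_lit 2, nat_lit 1, nat_lit 3, nat_lit 2, nat_lit 3, nat_lit 2, nat_lit 1, nat_lit 3, nat_lit 2, nat_lit 3, nat_lit 2, nat_lit 1, nat_lit 3, nat_lit 2, nat_lit 3, nat_lit 2, nat_lit 1, nat_lit 4, nat_lit 3, nat_lit 2, nat_lit 3, nat_lit 2, nat_lit 1, nat_lit 3, nat_lit 2, nat_lit 3, nat_lit 2, nat_lit 1, nat_lit 3, nat_lit 2, nat_lit 3,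 nat_lit 2, nat_lit 1, nat_lit 3, nat_lit 2, nat_lit 3, nat_lit 2, nat_lit 1, nat_lit 3, nat_lit 2, nat_lit 3, nat_lit 2, nat_lit 1, nat_lit 4, nat_lit 3, nat_lit 2, nat_lit 3, nat_lit 2, nat_lit 1, nat_lit 3, nat_lit 2, nat_lit 3, nat_lit 2, nat_lit 1, nat_lit 3, nat_lit 2, nat_lit 3, nat_lit 2, nat_lit 1, nat_lit 3, nat_lit 2, nat_lit 3, nat_lit 2, nat_lit 1, nat_lit 3, nat_lit 2, nat_lit 3, nat_lit 2, nat_lit 1] else [nat_lit 63, nat_lit 3, nat_lit 1, nat_lit 3, nat_lit 1]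
def Wt_68_70 (j : ℕ) : List ℕ := bif Nat.blt j 69 then [nat_lit 6, nat_lit 5, nat_lit 6, nat_lit 5, nat_lit 6, nat_lit 5, nat_lit 6, nat_lit 5] else [nat_lit 0, nat_lit 6, nat_lit 0, nat_lit 6]
def Wt_67_70 (j : ℕ) : List ℕ := bif Nat.blt j 68 then [nat_lit 5, nat_lit 6, nat_lit 0, nat_lit 5, nat_lit 6] else (Wt_68_70 j)
def Wt_65_70 (j : ℕ) : List ℕ := bif Nat.blt j 67 then (Wt_65_67 j) else (Wt_67_70 j)
def Wt_61_70 (j : ℕ) : List ℕ := bif Nat.blt j 65 then (Wt_61_65 j) else (Wt_65_70 j)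
def Wt_52_70 (j : ℕ) : List ℕ := bif Nat.blt j 61 then (Wt_52_61 j) else (Wt_61_70 j)
def Wt_35_70 (j : ℕ) : List ℕ := bif Nat.blt j 52 then (Wt_35_52 j) else (Wt_52_70 j)
def Wt_0_70 (j : ℕ) : List ℕ := bif Nat.blt j 35 then (Wt_0_35 j) else (Wt_35_70 j)
def Wt_70_72 (j : ℕ) : List ℕ := bif Nat.blt j 71 then [nat_lit 2, nat_lit 0, nat_lit 2, nat_lit 0] else [nat_lit 1, nat_lit 6, nat_lit 5, nat_lit 1, nat_lit 6, nat_lit 5, nat_lit 1, nat_lit 6, nat_lit 5, nat_lit 1, nat_lit 6, nat_lit 5, nat_lit 1, nat_lit 6, nat_lit 5]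
def Wt_72_74 (j : ℕ) : List ℕ := bif Nat.blt j 73 then [nat_lit 3, nat_lit 2, nat_lit 3, nat_lit 0, nat_lit 2, nat_lit 3, nat_lit 2, nat_lit 3, nat_lit 2] else [nat_lit 0, nat_lit 1, nat_lit 0, nat_lit 1, nat_lit 0, nat_lit 1, nat_lit 0, nat_lit 1, nat_lit 0, nat_lit 1]
def Wt_70_74 (j : ℕ) : List ℕ := bif Nat.blt j 72 then (Wt_70_72 j) else (Wt_72_74 j)
def Wt_74_76 (j : ℕ) : List ℕ := bif Nat.blt j 75 then [nat_lit 63, nat_lit 3, nat_lit 2, nat_lit 3, nat_lit 0, nat_lit 2, nat_lit 3, nat_lit 2, nat_lit 3, nat_lit 2] else [nat_lit 63, nat_lit 2, nat_lit 1, nat_lit 2, nat_lit 1, nat_lit 2, nat_lit 1]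
def Wt_76_78 (j : ℕ) : List ℕ := bif Nat.blt j 77 then [nat_lit 0, nat_lit 5, nat_lit 0, nat_lit 5] else [nat_lit 5, nat_lit 63, nat_lit 5, nat_lit 63]
def Wt_74_78 (j : ℕ) : List ℕ := bif Nat.blt j 76 then (Wt_74_76 j) else (Wt_76_78 j)
def Wt_70_78 (j : ℕ) : List ℕ := bif Nat.blt j 74 then (Wt_70_74 j) else (Wt_74_78 j)
def Wt_78_80 (j : ℕ) : List ℕ := bif Nat.blt j 79 then [nat_lit 2, nat_lit 3, nat_lit 0, nat_lit 2, nat_lit 3, nat_lit 2, nat_lit 3, nat_lit 2, nat_lit 3] else [nat_lit 63, nat_lit 5, nat_lit 2, nat_lit 5, nat_lit 2]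
def Wt_80_82 (j : ℕ) : List ℕ := bif Nat.blt j 81 then [nat_lit 63, nat_lit 3, nat_lit 2, nat_lit 3, nat_lit 2, nat_lit 3, nat_lit 2, nat_lit 3, nat_lit 2, nat_lit 3, nat_lit 2, nat_lit 3, nat_lit 2, nat_lit 3, nat_lit 2, nat_lit 3, nat_lit 2] else [nat_lit 63, nat_lit 2, nat_lit 0, nat_lit 2, nat_lit 0]
def Wt_78_82 (j : ℕ) : List ℕ := bif Nat.blt j 80 then (Wt_78_80 j) else (Wt_80_82 j)
def Wt_82_84 (j : ℕ) : List ℕ := bif Nat.blt j 83 then [nat_lit 3, nat_lit 2, nat_lit 3, nat_lit 2, nat_lit 3, nat_lit 2, nat_lit 3, nat_lit 2, nat_lit 0] else [nat_lit 63, nat_lit 0, nat_lit 5, nat_lit 6, nat_lit 5, nat_lit 6]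
def Wt_85_87 (j : ℕ) : List ℕ := bif Nat.blt j 86 then [nat_lit 63, nat_lit 5, nat_lit 63, nat_lit 5] else [nat_lit 63, nat_lit 5, nat_lit 6, nat_lit 0, nat_lit 5, nat_lit 6]
def Wt_84_87 (j : ℕ) : List ℕ := bif Nat.blt j 85 then [nat_lit 6, nat_lit 6, nat_lit 63] else (Wt_85_87 j)
def Wt_82_87 (j : ℕ) : List ℕ := bif Nat.blt j 84 then (Wt_82_84 j) else (Wt_84_87 j)
def Wt_78_87 (j : ℕ) : List ℕ := bif Nat.blt j 82 then (Wt_78_82 j) else (Wt_82_87 j)
def Wt_70_87 (j : ℕ) : List ℕ := bif Nat.blt j 78 then (Wt_70_78 j) else (Wt_78_87 j)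
def Wt_87_89 (j : ℕ) : List ℕ := bif Nat.blt j 88 then [nat_lit 3, nat_lit 2, nat_lit 3, nat_lit 2, nat_lit 3, nat_lit 2, nat_lit 3, nat_lit 2, nat_lit 3, nat_lit 2, nat_lit 3, nat_lit 2, nat_lit 3, nat_lit 2, nat_lit 3, nat_lit 2] else [nat_lit 63, nat_lit 5, nat_lit 0, nat_lit 5, nat_lit 0]
def Wt_89_91 (j : ℕ) : List ℕ := bif Nat.blt j 90 then [nat_lit 3, nat_lit 2, nat_lit 3, nat_lit 2, nat_lit 1, nat_lit 4, nat_lit 3, nat_lit 2, nat_lit 3, nat_lit 2, nat_lit 1, nat_lit 3, nat_lit 2, nat_lit 3, nat_lit 2, nat_lit 1, nat_lit 3, nat_lit 2, nat_lit 3, nat_lit 2, nat_lit 1, nat_lit 3, nat_lit 2, nat_lit 3, nat_lit 2, nat_lit 1, nat_lit 3, nat_lit 2, nat_lit 3, nat_lit 2, nat_lit 1, nat_lit 4, nat_lit 3, nat_lit 2, nat_lit 3, nat_lit 2, nat_lit 1, nat_lit 3, nat_lit 2, nat_lit 3, nat_lit 2, nat_lit 1, nat_lit 3, nat_lit 2, nat_lit 3, nat_lit 2, nat_lit 1, nat_lit 3, nat_lit 2, nat_lit 3, nat_lit 2, nat_lit 1, nat_lit 3, nat_lit 2, nat_lit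 3, nat_lit 2, nat_lit 1, nat_lit 4, nat_lit 3, nat_lit 2, nat_lit 3, nat_lit 2, nat_lit 1, nat_lit 3, nat_lit 2, nat_lit 3, nat_lit 2, nat_lit 1, nat_lit 3, nat_lit 2, nat_lit 3, nat_lit 2, nat_lit 1, nat_lit 3, nat_lit 2, nat_lit 3, nat_lit 2, nat_lit 1] else [nat_lit 63, nat_lit 1, nat_lit 5, nat_lit 1, nat_lit 5, nat_lit 1, nat_lit 5]
def Wt_87_91 (j : ℕ) : List ℕ := bif Nat.blt j 89 then (Wt_87_89 j) else (Wt_89_91 j)
def Wt_91_93 (j : ℕ) : List ℕ := bif Nat.blt j 92 then [nat_lit 63, nat_lit 0, nat_lit 63, nat_lit 0, nat_lit 63] else [nat_lit 63, nat_lit 63, nat_lit 63]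
def Wt_94_96 (j : ℕ) : List ℕ := bif Nat.blt j 95 then [nat_lit 63, nat_lit 0, nat_lit 63, nat_lit 0] else [nat_lit 0, nat_lit 63, nat_lit 0, nat_lit 63]
def Wt_93_96 (j : ℕ) : List ℕ := bif Nat.blt j 94 then [nat_lit 4, nat_lit 63, nat_lit 4, nat_lit 63] else (Wt_94_96 j)
def Wt_91_96 (j : ℕ) : List ℕ := bif Nat.blt j 93 then (Wt_91_93 j) else (Wt_93_96 j)
def Wt_87_96 (j : ℕ) : List ℕ := bif Nat.blt j 91 then (Wt_87_91 j) else (Wt_91_96 j)
def Wt_96_98 (j : ℕ) : List ℕ := bif Nat.blt j 97 then [nat_lit 2, nat_lit 1, nat_lit 3, nat_lit 2, nat_lit 3, nat_lit 2, nat_lit 1, nat_lit 3, nat_lit 2, nat_lit 3, nat_lit 2, nat_lit 1, nat_lit 4, nat_lit 3, nat_lit 2, nat_lit 3, nat_lit 2, nat_lit 1, nat_lit 3, nat_lit 2, nat_lit 3, nat_lit 2, nat_lit 1, nat_lit 3, nat_lit 2, nat_lit 3, nat_lit 2, nat_lit 1, nat_lit 3, nat_lit 2, nat_lit 3, nat_lit 2, nat_lit 1, nat_lit 3, nat_lit 2, nat_lit 3, nat_lit 2, nat_lit 1, nat_lit 4, nat_lit 3, nat_lit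 2, nat_lit 3, nat_lit 2, nat_lit 1, nat_lit 3, nat_lit 2, nat_lit 3, nat_lit 2, nat_lit 1, nat_lit 3, nat_lit 2, nat_lit 3, nat_lit 2, nat_lit 1, nat_lit 3, nat_lit 2, nat_lit 3, nat_lit 2, nat_lit 1, nat_lit 3, nat_lit 2, nat_lit 3, nat_lit 2, nat_lit 1, nat_lit 4, nat_lit 3, nat_lit 2, nat_lit 3, nat_lit 2, nat_lit 1, nat_lit 3, nat_lit 2, nat_lit 3, nat_lit 2, nat_lit 1, nat_lit 3, nat_lit 2, nat_lit 3] else [nat_lit 3, nat_lit 2, nat_lit 3, nat_lit 2, nat_lit 1, nat_lit 3, nat_lit 2, nat_lit 3, nat_lit 2, nat_lit 1, nat_lit 4, nat_lit 3, nat_lit 2, nat_lit 3, nat_lit 2, nat_lit 1, nat_lit 3, nat_lit 2, nat_lit 3, nat_lit 2, nat_lit 1, nat_lit 3, nat_lit 2, nat_lit 3, nat_lit 2, nat_lit 1, nat_lit 3, nat_lit 2, nat_lit 3, nat_lit 2, nat_lit 1, nat_lit 3, nat_lit 2, nat_lit 3, nat_lit 2, nat_lit 1, nat_lit 4, nat_lit 3, nat_lit 2, nat_lit 3, nat_lit 2, nat_lit 1, nat_lit 3, nat_lit 2, nat_lit 3, nat_lit 2, nat_lit 1, nat_lit 3, nat_lit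 2, nat_lit 3, nat_lit 2, nat_lit 1, nat_lit 3, nat_lit 2, nat_lit 3, nat_lit 2, nat_lit 1, nat_lit 3, nat_lit 2, nat_lit 3, nat_lit 2, nat_lit 1, nat_lit 4, nat_lit 3, nat_lit 2, nat_lit 3, nat_lit 2, nat_lit 1, nat_lit 3, nat_lit 2, nat_lit 3, nat_lit 2, nat_lit 1, nat_lit 3, nat_lit 2, nat_lit 3, nat_lit 2, nat_lit 1]
def Wt_98_100 (j : ℕ) : List ℕ := bif Nat.blt j 99 then [nat_lit 2, nat_lit 3, nat_lit 2, nat_lit 3, nat_lit 2, nat_lit 3, nat_lit 2, nat_lit 3, nat_lit 2, nat_lit 3, nat_lit 2, nat_lit 3, nat_lit 2, nat_lit 3, nat_lit 2, nat_lit 3] else [nat_lit 2, nat_lit 1, nat_lit 3, nat_lit 2, nat_lit 3, nat_lit 2, nat_lit 1, nat_lit 4, nat_lit 3, nat_lit 2, nat_lit 3, nat_lit 2, nat_lit 1, nat_lit 3, nat_lit 2, nat_lit 3, nat_lit 2, nat_lit 1, nat_lit 3, nat_lit 2, nat_lit 3, nat_lit 2, nat_lit 1, nat_lit 3, nat_lit 2, nat_lit 3, nat_lit 2, nat_lit 1, nat_lit 3, nat_lit 2, nat_lit 3, nat_lit 2, nat_lit 1, nat_lit 4, nat_lit 3, nat_lit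 2, nat_lit 3, nat_lit 2, nat_lit 1, nat_lit 3, nat_lit 2, nat_lit 3, nat_lit 2, nat_lit 1, nat_lit 3, nat_lit 2, nat_lit 3, nat_lit 2, nat_lit 1, nat_lit 3, nat_lit 2, nat_lit 3, nat_lit 2, nat_lit 1, nat_lit 3, nat_lit 2, nat_lit 3, nat_lit 2, nat_lit 1, nat_lit 4, nat_lit 3, nat_lit 2, nat_lit 3, nat_lit 2, nat_lit 1, nat_lit 3, nat_lit 2, nat_lit 3, nat_lit 2, nat_lit 1, nat_lit 3, nat_lit 2, nat_lit 3, nat_lit 2, nat_lit 1, nat_lit 3, nat_lit 2, nat_lit 3]
def Wt_96_100 (j : ℕ) : List ℕ := bif Nat.blt j 98 then (Wt_96_98 j) else (Wt_98_100 j)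
def Wt_100_102 (j : ℕ) : List ℕ := bif Nat.blt j 101 then [nat_lit 1, nat_lit 3, nat_lit 2, nat_lit 3, nat_lit 2, nat_lit 1, nat_lit 3, nat_lit 2, nat_lit 3, nat_lit 2, nat_lit 1, nat_lit 3, nat_lit 2, nat_lit 3, nat_lit 2, nat_lit 1, nat_lit 4, nat_lit 3, nat_lit 2, nat_lit 3, nat_lit 2, nat_lit 1, nat_lit 3, nat_lit 2, nat_lit 3, nat_lit 2, nat_lit 1, nat_lit 3, nat_lit 2, nat_lit 3, nat_lit 2, nat_lit 1, nat_lit 3, nat_lit 2, nat_lit 3, nat_lit 2, nat_lit 1, nat_lit 3, nat_lit 2, nat_lit 3, nat_lit 2, nat_lit 1, nat_lit 4, nat_lit 3, nat_lit 2, nat_lit 3, nat_lit 2, nat_lit 1, nat_lit 3, nat_lit 2, nat_lit 3, nat_lit 2, nat_lit 1, nat_lit 3, nat_lit 2, nat_lit 3, nat_lit 2, nat_lit 1, nat_lit 3, nat_lit 2, nat_lit 3, nat_lit 2, nat_lit 1, nat_lit 3, nat_lit 2, nat_lit 3, nat_lit 2, nat_lit 1, nat_lit 4, nat_lit 3, nat_lit 2, nat_lit 3, nat_lit 2, nat_lit 1, nat_lit 3, nat_lit 2, nat_lit 3, nat_lit 2] else [nat_lit 3, nat_lit 2, nat_lit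 3, nat_lit 2, nat_lit 3, nat_lit 0, nat_lit 2, nat_lit 3, nat_lit 2]
def Wt_103_105 (j : ℕ) : List ℕ := bif Nat.blt j 104 then [nat_lit 3, nat_lit 2, nat_lit 0, nat_lit 3, nat_lit 2, nat_lit 3, nat_lit 2, nat_lit 3, nat_lit 2] else [nat_lit 2, nat_lit 3, nat_lit 2, nat_lit 1, nat_lit 4, nat_lit 3, nat_lit 2, nat_lit 3, nat_lit 2, nat_lit 1, nat_lit 3, nat_lit 2, nat_lit 3, nat_lit 2, nat_lit 1, nat_lit 3, nat_lit 2, nat_lit 3, nat_lit 2, nat_lit 1, nat_lit 3, nat_lit 2, nat_lit 3, nat_lit 2, nat_lit 1, nat_lit 3, nat_lit 2, nat_lit 3, nat_lit 2, nat_lit 1, nat_lit 4, nat_lit 3, nat_lit 2, nat_lit 3, nat_lit 2, nat_lit 1, nat_lit 3, nat_lit 2, nat_lit 3, nat_lit 2, nat_lit 1, nat_lit 3, nat_lit 2, nat_lit 3, nat_lit 2, nat_lit 1, nat_lit 3, nat_lit 2, nat_lit 3, nat_lit 2, nat_lit 1, nat_lit 3, nat_lit 2, nat_lit 3, nat_lit 2, nat_lit 1, nat_lit 4, nat_lit 3, nat_lit 2, nat_lit 3, nat_lit 2, nat_lit 1, nat_lit 3, nat_lit 2, nat_lit 3, nat_lit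 2, nat_lit 1, nat_lit 3, nat_lit 2, nat_lit 3, nat_lit 2, nat_lit 1, nat_lit 3, nat_lit 2, nat_lit 3, nat_lit 2, nat_lit 1, nat_lit 3]
def Wt_102_105 (j : ℕ) : List ℕ := bif Nat.blt j 103 then [nat_lit 2, nat_lit 0, nat_lit 3, nat_lit 2, nat_lit 3, nat_lit 2, nat_lit 3, nat_lit 2, nat_lit 3] else (Wt_103_105 j)
def Wt_100_105 (j : ℕ) : List ℕ := bif Nat.blt j 102 then (Wt_100_102 j) else (Wt_102_105 j)
def Wt_96_105 (j : ℕ) : List ℕ := bif Nat.blt j 100 then (Wt_96_100 j) else (Wt_100_105 j)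
def Wt_87_105 (j : ℕ) : List ℕ := bif Nat.blt j 96 then (Wt_87_96 j) else (Wt_96_105 j)
def Wt_70_105 (j : ℕ) : List ℕ := bif Nat.blt j 87 then (Wt_70_87 j) else (Wt_87_105 j)
def Wt_105_107 (j : ℕ) : List ℕ := bif Nat.blt j 106 then [nat_lit 5, nat_lit 1, nat_lit 6, nat_lit 5, nat_lit 1, nat_lit 6, nat_lit 5, nat_lit 1, nat_lit 6, nat_lit 5, nat_lit 1, nat_lit 6, nat_lit 5, nat_lit 1, nat_lit 6] else [nat_lit 5, nat_lit 6, nat_lit 5, nat_lit 6, nat_lit 0]
def Wt_107_109 (j : ℕ) : List ℕ := bif Nat.blt j 108 then [nat_lit 63, nat_lit 2, nat_lit 3, nat_lit 0, nat_lit 2, nat_lit 3, nat_lit 2, nat_lit 3, nat_lit 2, nat_lit 3] else [nat_lit 63, nat_lit 4, nat_lit 63, nat_lit 4]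
def Wt_105_109 (j : ℕ) : List ℕ := bif Nat.blt j 107 then (Wt_105_107 j) else (Wt_107_109 j)
def Wt_109_111 (j : ℕ) : List ℕ := bif Nat.blt j 110 then [nat_lit 63, nat_lit 6, nat_lit 63, nat_lit 6] else [nat_lit 63, nat_lit 63, nat_lit 1, nat_lit 63, nat_lit 1]
def Wt_111_113 (j : ℕ) : List ℕ := bif Nat.blt j 112 then [nat_lit 63, nat_lit 63, nat_lit 3, nat_lit 63, nat_lit 3] else [nat_lit 63, nat_lit 63, nat_lit 2, nat_lit 63, nat_lit 2]
def Wt_109_113 (j : ℕ) : List ℕ := bif Nat.blt j 111 then (Wt_109_111 j) else (Wt_111_113 j)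
def Wt_105_113 (j : ℕ) : List ℕ := bif Nat.blt j 109 then (Wt_105_109 j) else (Wt_109_113 j)
def Wt_113_115 (j : ℕ) : List ℕ := bif Nat.blt j 114 then [nat_lit 63, nat_lit 2, nat_lit 63, nat_lit 2, nat_lit 63] else [nat_lit 63, nat_lit 63, nat_lit 4, nat_lit 63, nat_lit 4]
def Wt_115_117 (j : ℕ) : List ℕ := bif Nat.blt j 116 then [nat_lit 63, nat_lit 4, nat_lit 63, nat_lit 4, nat_lit 63] else [nat_lit 2, nat_lit 63, nat_lit 2, nat_lit 63]
def Wt_113_117 (j : ℕ) : List ℕ := bif Nat.blt j 115 then (Wt_113_115 j) else (Wt_115_117 j)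
def Wt_117_119 (j : ℕ) : List ℕ := bif Nat.blt j 118 then [nat_lit 63, nat_lit 63, nat_lit 0, nat_lit 63, nat_lit 0] else [nat_lit 63, nat_lit 3, nat_lit 63, nat_lit 3, nat_lit 63]
def Wt_120_122 (j : ℕ) : List ℕ := bif Nat.blt j 121 then [nat_lit 63, nat_lit 2, nat_lit 4, nat_lit 2, nat_lit 4] else [nat_lit 2, nat_lit 3, nat_lit 2, nat_lit 3, nat_lit 2, nat_lit 3, nat_lit 0, nat_lit 2, nat_lit 3]
def Wt_119_122 (j : ℕ) : List ℕ := bif Nat.blt j 120 then [nat_lit 63, nat_lit 4, nat_lit 1, nat_lit 4, nat_lit 1] else (Wt_120_122 j)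
def Wt_117_122 (j : ℕ) : List ℕ := bif Nat.blt j 119 then (Wt_117_119 j) else (Wt_119_122 j)
def Wt_113_122 (j : ℕ) : List ℕ := bif Nat.blt j 117 then (Wt_113_117 j) else (Wt_117_122 j)
def Wt_105_122 (j : ℕ) : List ℕ := bif Nat.blt j 113 then (Wt_105_113 j) else (Wt_113_122 j)
def Wt_122_124 (j : ℕ) : List ℕ := bif Nat.blt j 123 then [nat_lit 63, nat_lit 2, nat_lit 3, nat_lit 2, nat_lit 3, nat_lit 2, nat_lit 3, nat_lit 2, nat_lit 3, nat_lit 2, nat_lit 3, nat_lit 2, nat_lit 3, nat_lit 2, nat_lit 3, nat_lit 2, nat_lit 3] else [nat_lit 2, nat_lit 3, nat_lit 2, nat_lit 3, nat_lit 2, nat_lit 0, nat_lit 3, nat_lit 2, nat_lit 3]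
def Wt_124_126 (j : ℕ) : List ℕ := bif Nat.blt j 125 then [nat_lit 63, nat_lit 0, nat_lit 1, nat_lit 0, nat_lit 1, nat_lit 0, nat_lit 1, nat_lit 0, nat_lit 1, nat_lit 0, nat_lit 1] else [nat_lit 63, nat_lit 1, nat_lit 0, nat_lit 1, nat_lit 0, nat_lit 1, nat_lit 0, nat_lit 1, nat_lit 0, nat_lit 1, nat_lit 0]
def Wt_122_126 (j : ℕ) : List ℕ := bif Nat.blt j 124 then (Wt_122_124 j) else (Wt_124_126 j)
def Wt_126_128 (j : ℕ) : List ℕ := bif Nat.blt j 127 then [nat_lit 3, nat_lit 2, nat_lit 3, nat_lit 2, nat_lit 1, nat_lit 3, nat_lit 2, nat_lit 3, nat_lit 2, nat_lit 1, nat_lit 3, nat_lit 2, nat_lit 3, nat_lit 2, nat_lit 1, nat_lit 4, nat_lit 3, nat_lit 2, nat_lit 3, nat_lit 2, nat_lit 1, nat_lit 3, nat_lit 2, nat_lit 3, nat_lit 2, nat_lit 1, nat_lit 3, nat_lit 2, nat_lit 3, nat_lit 2, nat_lit 1, nat_lit 3, nat_lit 2, nat_lit 3, nat_lit 2, nat_lit 1, nat_lit 3, nat_lit 2, nat_lit 3, nat_lit 2, nat_lit 1, nat_lit 4, nat_lit 3, nat_lit 2, nat_lit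 3, nat_lit 2, nat_lit 1, nat_lit 3, nat_lit 2, nat_lit 3, nat_lit 2, nat_lit 1, nat_lit 3, nat_lit 2, nat_lit 3, nat_lit 2, nat_lit 1, nat_lit 3, nat_lit 2, nat_lit 3, nat_lit 2, nat_lit 1, nat_lit 3, nat_lit 2, nat_lit 3, nat_lit 2, nat_lit 1, nat_lit 4, nat_lit 3, nat_lit 2, nat_lit 3, nat_lit 2, nat_lit 1, nat_lit 3, nat_lit 2, nat_lit 3, nat_lit 2, nat_lit 1] else [nat_lit 1, nat_lit 2, nat_lit 3, nat_lit 2, nat_lit 3, nat_lit 1, nat_lit 2, nat_lit 3, nat_lit 2, nat_lit 3, nat_lit 1, nat_lit 2, nat_lit 3, nat_lit 2, nat_lit 3, nat_lit 1, nat_lit 2, nat_lit 3, nat_lit 2, nat_lit 3, nat_lit 4, nat_lit 1, nat_lit 2, nat_lit 3, nat_lit 2, nat_lit 3, nat_lit 1, nat_lit 2, nat_lit 3, nat_lit 2, nat_lit 3, nat_lit 1, nat_lit 2, nat_lit 3, nat_lit 2, nat_lit 3, nat_lit 1, nat_lit 2, nat_lit 3, nat_lit 2, nat_lit 3, nat_lit 1, nat_lit 2, nat_lit 3, nat_lit 2, nat_lit 3, nat_lit 4, nat_lit 1, nat_lit 2, nat_lit 3, nat_lit 2, nat_lit 3, nat_lit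 1, nat_lit 2, nat_lit 3, nat_lit 2, nat_lit 3, nat_lit 1, nat_lit 2, nat_lit 3, nat_lit 2, nat_lit 3, nat_lit 1, nat_lit 2, nat_lit 3, nat_lit 2, nat_lit 3, nat_lit 1, nat_lit 2, nat_lit 3, nat_lit 2, nat_lit 3, nat_lit 4, nat_lit 1, nat_lit 2, nat_lit 3, nat_lit 2, nat_lit 3]
def Wt_129_131 (j : ℕ) : List ℕ := bif Nat.blt j 130 then [nat_lit 63, nat_lit 1, nat_lit 4, nat_lit 1, nat_lit 4] else [nat_lit 63, nat_lit 3, nat_lit 2, nat_lit 3, nat_lit 2, nat_lit 1, nat_lit 3, nat_lit 2, nat_lit 3, nat_lit 2, nat_lit 1, nat_lit 3, nat_lit 2, nat_lit 3, nat_lit 2, nat_lit 1, nat_lit 4, nat_lit 3, nat_lit 2, nat_lit 3, nat_lit 2, nat_lit 1, nat_lit 3, nat_lit 2, nat_lit 3, nat_lit 2, nat_lit 1, nat_lit 3, nat_lit 2, nat_lit 3, nat_lit 2, nat_lit 1, nat_lit 3, nat_lit 2, nat_lit 3, nat_lit 2, nat_lit 1, nat_lit 3, nat_lit 2, nat_lit 3, nat_lit 2, nat_lit 1, nat_lit 4, nat_lit 3, nat_lit 2, nat_lit 3, nat_lit 2, nat_lit 1, nat_lit 3, nat_lit 2,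 nat_lit 3, nat_lit 2, nat_lit 1, nat_lit 3, nat_lit 2, nat_lit 3, nat_lit 2, nat_lit 1, nat_lit 3, nat_lit 2, nat_lit 3, nat_lit 2, nat_lit 1, nat_lit 3, nat_lit 2, nat_lit 3, nat_lit 2, nat_lit 1, nat_lit 4, nat_lit 3, nat_lit 2, nat_lit 3, nat_lit 2, nat_lit 1, nat_lit 3, nat_lit 2, nat_lit 3, nat_lit 2, nat_lit 1]
def Wt_128_131 (j : ℕ) : List ℕ := bif Nat.blt j 129 then [nat_lit 63, nat_lit 3, nat_lit 2, nat_lit 3, nat_lit 2, nat_lit 1, nat_lit 3, nat_lit 2, nat_lit 3, nat_lit 2, nat_lit 1, nat_lit 4, nat_lit 3, nat_lit 2, nat_lit 3, nat_lit 2, nat_lit 1, nat_lit 3, nat_lit 2, nat_lit 3, nat_lit 2, nat_lit 1, nat_lit 3, nat_lit 2, nat_lit 3, nat_lit 2, nat_lit 1, nat_lit 3, nat_lit 2, nat_lit 3, nat_lit 2, nat_lit 1, nat_lit 3, nat_lit 2, nat_lit 3, nat_lit 2, nat_lit 1, nat_lit 4, nat_lit 3, nat_lit 2, nat_lit 3, nat_lit 2, nat_lit 1, nat_lit 3, nat_lit 2, nat_lit 3, nat_lit 2, nat_lit 1, nat_lit 3, nat_lit 2, nat_lit 3, nat_lit 2,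 nat_lit 1, nat_lit 3, nat_lit 2, nat_lit 3, nat_lit 2, nat_lit 1, nat_lit 3, nat_lit 2, nat_lit 3, nat_lit 2, nat_lit 1, nat_lit 4, nat_lit 3, nat_lit 2, nat_lit 3, nat_lit 2, nat_lit 1, nat_lit 3, nat_lit 2, nat_lit 3, nat_lit 2, nat_lit 1, nat_lit 3, nat_lit 2, nat_lit 3, nat_lit 2, nat_lit 1] else (Wt_129_131 j)
def Wt_126_131 (j : ℕ) : List ℕ := bif Nat.blt j 128 then (Wt_126_128 j) else (Wt_128_131 j)
def Wt_122_131 (j : ℕ) : List ℕ := bif Nat.blt j 126 then (Wt_122_126 j) else (Wt_126_131 j)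
def Wt_131_133 (j : ℕ) : List ℕ := bif Nat.blt j 132 then [nat_lit 63, nat_lit 6, nat_lit 5, nat_lit 6, nat_lit 5, nat_lit 0] else [nat_lit 1, nat_lit 0, nat_lit 5, nat_lit 2, nat_lit 1, nat_lit 0, nat_lit 5, nat_lit 2, nat_lit 1, nat_lit 0, nat_lit 5, nat_lit 2, nat_lit 1, nat_lit 0, nat_lit 5, nat_lit 2, nat_lit 1, nat_lit 0, nat_lit 5, nat_lit 2]
def Wt_133_135 (j : ℕ) : List ℕ := bif Nat.blt j 134 then [nat_lit 2, nat_lit 5, nat_lit 0, nat_lit 1, nat_lit 2, nat_lit 5, nat_lit 0, nat_lit 1, nat_lit 2, nat_lit 5, nat_lit 0, nat_lit 1, nat_lit 2, nat_lit 5, nat_lit 0, nat_lit 1, nat_lit 2, nat_lit 5, nat_lit 0, nat_lit 1] else [nat_lit 0, nat_lit 5, nat_lit 2, nat_lit 1, nat_lit 0, nat_lit 5, nat_lit 2, nat_lit 1, nat_lit 0, nat_lit 5, nat_lit 2, nat_lit 1, nat_lit 0, nat_lit 5, nat_lit 2, nat_lit 1, nat_lit 0, nat_lit 5, nat_lit 2, nat_lit 1]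
def Wt_131_135 (j : ℕ) : List ℕ := bif Nat.blt j 133 then (Wt_131_133 j) else (Wt_133_135 j)
def Wt_135_137 (j : ℕ) : List ℕ := bif Nat.blt j 136 then [nat_lit 63, nat_lit 1, nat_lit 3, nat_lit 2, nat_lit 3, nat_lit 2, nat_lit 1, nat_lit 3, nat_lit 2, nat_lit 3, nat_lit 2, nat_lit 1, nat_lit 3, nat_lit 2, nat_lit 3, nat_lit 2, nat_lit 1, nat_lit 3, nat_lit 2, nat_lit 3, nat_lit 2, nat_lit 1, nat_lit 4, nat_lit 3, nat_lit 2, nat_lit 3, nat_lit 2, nat_lit 1, nat_lit 3, nat_lit 2, nat_lit 3, nat_lit 2, nat_lit 1, nat_lit 3, nat_lit 2, nat_lit 3, nat_lit 2, nat_lit 1, nat_lit 3, nat_lit 2, nat_lit 3, nat_lit 2, nat_lit 1, nat_lit 3, nat_lit 2, nat_lit 3, nat_lit 2, nat_lit 1, nat_lit 4, nat_lit 3, nat_lit 2, nat_lit 3, nat_lit 2, nat_lit 1, nat_lit 3, nat_lit 2, nat_lit 3, nat_lit 2, nat_lit 1, nat_lit 3, nat_lit 2, nat_lit 3, nat_lit 2, nat_lit 1, nat_lit 3, nat_lit 2, nat_lit 3, nat_lit 2, nat_lit 1, nat_lit 3, nat_lit 2, nat_lit 3, nat_lit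 2, nat_lit 1, nat_lit 4, nat_lit 3, nat_lit 2, nat_lit 3, nat_lit 2] else [nat_lit 3, nat_lit 2, nat_lit 1, nat_lit 4, nat_lit 3, nat_lit 2, nat_lit 3, nat_lit 2, nat_lit 1, nat_lit 3, nat_lit 2, nat_lit 3, nat_lit 2, nat_lit 1, nat_lit 3, nat_lit 2, nat_lit 3, nat_lit 2, nat_lit 1, nat_lit 3, nat_lit 2, nat_lit 3, nat_lit 2, nat_lit 1, nat_lit 3, nat_lit 2, nat_lit 3, nat_lit 2, nat_lit 1, nat_lit 4, nat_lit 3, nat_lit 2, nat_lit 3, nat_lit 2, nat_lit 1, nat_lit 3, nat_lit 2, nat_lit 3, nat_lit 2, nat_lit 1, nat_lit 3, nat_lit 2, nat_lit 3, nat_lit 2, nat_lit 1, nat_lit 3, nat_lit 2, nat_lit 3, nat_lit 2, nat_lit 1, nat_lit 3, nat_lit 2, nat_lit 3, nat_lit 2, nat_lit 1, nat_lit 4, nat_lit 3, nat_lit 2, nat_lit 3, nat_lit 2, nat_lit 1, nat_lit 3, nat_lit 2, nat_lit 3, nat_lit 2, nat_lit 1, nat_lit 3, nat_lit 2, nat_lit 3, nat_lit 2, nat_lit 1, nat_lit 3, nat_lit 2, nat_lit 3, nat_lit 2, nat_lit 1, nat_lit 3, nat_lit 2]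
def Wt_138_140 (j : ℕ) : List ℕ := bif Nat.blt j 139 then [nat_lit 63, nat_lit 2, nat_lit 1, nat_lit 3, nat_lit 2, nat_lit 3, nat_lit 2, nat_lit 1, nat_lit 3, nat_lit 2, nat_lit 3, nat_lit 2, nat_lit 1, nat_lit 3, nat_lit 2, nat_lit 3, nat_lit 2, nat_lit 1, nat_lit 3, nat_lit 2, nat_lit 3, nat_lit 2, nat_lit 1, nat_lit 4, nat_lit 3, nat_lit 2, nat_lit 3, nat_lit 2, nat_lit 1, nat_lit 3, nat_lit 2, nat_lit 3, nat_lit 2, nat_lit 1, nat_lit 3, nat_lit 2, nat_lit 3, nat_lit 2, nat_lit 1, nat_lit 3, nat_lit 2, nat_lit 3, nat_lit 2, nat_lit 1, nat_lit 3, nat_lit 2, nat_lit 3, nat_lit 2, nat_lit 1, nat_lit 4, nat_lit 3, nat_lit 2, nat_lit 3, nat_lit 2, nat_lit 1, nat_lit 3, nat_lit 2, nat_lit 3, nat_lit 2, nat_lit 1, nat_lit 3, nat_lit 2, nat_lit 3, nat_lit 2, nat_lit 1, nat_lit 3, nat_lit 2, nat_lit 3, nat_lit 2, nat_lit 1, nat_lit 3, nat_lit 2, nat_lit 3, nat_lit 2, nat_lit 1, nat_lit 4, nat_lit 3, nat_lit 2, nat_lit 3] else [nat_lit 63, nat_lit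 2, nat_lit 3, nat_lit 2, nat_lit 1, nat_lit 3, nat_lit 2, nat_lit 3, nat_lit 2, nat_lit 1, nat_lit 3, nat_lit 2, nat_lit 3, nat_lit 2, nat_lit 1, nat_lit 3, nat_lit 2, nat_lit 3, nat_lit 2, nat_lit 1, nat_lit 3, nat_lit 2, nat_lit 3, nat_lit 2, nat_lit 1, nat_lit 4, nat_lit 3, nat_lit 2, nat_lit 3, nat_lit 2, nat_lit 1, nat_lit 3, nat_lit 2, nat_lit 3, nat_lit 2, nat_lit 1, nat_lit 3, nat_lit 2, nat_lit 3, nat_lit 2, nat_lit 1, nat_lit 3, nat_lit 2, nat_lit 3, nat_lit 2, nat_lit 1, nat_lit 3, nat_lit 2, nat_lit 3, nat_lit 2, nat_lit 1, nat_lit 4, nat_lit 3, nat_lit 2, nat_lit 3, nat_lit 2, nat_lit 1, nat_lit 3, nat_lit 2, nat_lit 3, nat_lit 2, nat_lit 1, nat_lit 3, nat_lit 2, nat_lit 3, nat_lit 2, nat_lit 1, nat_lit 3, nat_lit 2, nat_lit 3, nat_lit 2, nat_lit 1, nat_lit 3, nat_lit 2, nat_lit 3, nat_lit 2, nat_lit 1, nat_lit 4, nat_lit 3]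
def Wt_137_140 (j : ℕ) : List ℕ := bif Nat.blt j 138 then [nat_lit 63, nat_lit 2, nat_lit 3, nat_lit 2, nat_lit 3, nat_lit 0, nat_lit 2, nat_lit 3, nat_lit 2, nat_lit 3] else (Wt_138_140 j)
def Wt_135_140 (j : ℕ) : List ℕ := bif Nat.blt j 137 then (Wt_135_137 j) else (Wt_137_140 j)
def Wt_131_140 (j : ℕ) : List ℕ := bif Nat.blt j 135 then (Wt_131_135 j) else (Wt_135_140 j)
def Wt_122_140 (j : ℕ) : List ℕ := bif Nat.blt j 131 then (Wt_122_131 j) else (Wt_131_140 j)
def Wt_105_140 (j : ℕ) : List ℕ := bif Nat.blt j 122 then (Wt_105_122 j) else (Wt_122_140 j)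
def Wt_70_140 (j : ℕ) : List ℕ := bif Nat.blt j 105 then (Wt_70_105 j) else (Wt_105_140 j)
def Wt_0_140 (j : ℕ) : List ℕ := bif Nat.blt j 70 then (Wt_0_70 j) else (Wt_70_140 j)
def Wt_140_142 (j : ℕ) : List ℕ := bif Nat.blt j 141 then [nat_lit 63, nat_lit 4, nat_lit 1, nat_lit 2, nat_lit 3, nat_lit 2, nat_lit 3, nat_lit 1, nat_lit 2, nat_lit 3, nat_lit 2, nat_lit 3, nat_lit 1, nat_lit 2, nat_lit 3, nat_lit 2, nat_lit 3, nat_lit 1, nat_lit 2, nat_lit 3, nat_lit 2, nat_lit 3, nat_lit 1, nat_lit 2, nat_lit 3, nat_lit 2, nat_lit 3, nat_lit 4, nat_lit 1, nat_lit 2, nat_lit 3, nat_lit 2, nat_lit 3, nat_lit 1, nat_lit 2, nat_lit 3, nat_lit 2, nat_lit 3, nat_lit 1, nat_lit 2, nat_lit 3, nat_lit 2, nat_lit 3, nat_lit 1, nat_lit 2, nat_lit 3, nat_lit 2, nat_lit 3, nat_lit 1, nat_lit 2, nat_lit 3, nat_lit 2, nat_lit 3, nat_lit 4, nat_lit 1, nat_lit 2, nat_lit 3, nat_lit 2, nat_lit 3, nat_lit 1, nat_lit 2, nat_lit 3, nat_lit 2, nat_lit 3, nat_lit 1,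 nat_lit 2, nat_lit 3, nat_lit 2, nat_lit 3, nat_lit 1, nat_lit 2, nat_lit 3, nat_lit 2, nat_lit 3, nat_lit 1, nat_lit 2, nat_lit 3, nat_lit 2, nat_lit 3] else [nat_lit 4, nat_lit 1, nat_lit 2, nat_lit 3, nat_lit 2, nat_lit 3, nat_lit 1, nat_lit 2, nat_lit 3, nat_lit 2, nat_lit 3, nat_lit 1, nat_lit 2, nat_lit 3, nat_lit 2, nat_lit 3, nat_lit 1, nat_lit 2, nat_lit 3, nat_lit 2, nat_lit 3, nat_lit 1, nat_lit 2, nat_lit 3, nat_lit 2, nat_lit 3, nat_lit 4, nat_lit 1, nat_lit 2, nat_lit 3, nat_lit 2, nat_lit 3, nat_lit 1, nat_lit 2, nat_lit 3, nat_lit 2, nat_lit 3, nat_lit 1, nat_lit 2, nat_lit 3, nat_lit 2, nat_lit 3, nat_lit 1, nat_lit 2, nat_lit 3, nat_lit 2, nat_lit 3, nat_lit 1, nat_lit 2, nat_lit 3, nat_lit 2, nat_lit 3, nat_lit 4, nat_lit 1, nat_lit 2, nat_lit 3, nat_lit 2, nat_lit 3, nat_lit 1, nat_lit 2, nat_lit 3, nat_lit 2, nat_lit 3, nat_lit 1, nat_lit 2, nat_lit 3, nat_lit 2, nat_lit 3, nat_lit 1, nat_lit 2, nat_lit 3, nat_lit 2,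 nat_lit 3, nat_lit 1, nat_lit 2, nat_lit 3, nat_lit 2, nat_lit 3]
def Wt_142_144 (j : ℕ) : List ℕ := bif Nat.blt j 143 then [nat_lit 1, nat_lit 4, nat_lit 3, nat_lit 2, nat_lit 3, nat_lit 2, nat_lit 1, nat_lit 3, nat_lit 2, nat_lit 3, nat_lit 2, nat_lit 1, nat_lit 3, nat_lit 2, nat_lit 3, nat_lit 2, nat_lit 1, nat_lit 3, nat_lit 2, nat_lit 3, nat_lit 2, nat_lit 1, nat_lit 3, nat_lit 2, nat_lit 3, nat_lit 2, nat_lit 1, nat_lit 4, nat_lit 3, nat_lit 2, nat_lit 3, nat_lit 2, nat_lit 1, nat_lit 3, nat_lit 2, nat_lit 3, nat_lit 2, nat_lit 1, nat_lit 3, nat_lit 2, nat_lit 3, nat_lit 2, nat_lit 1, nat_lit 3, nat_lit 2, nat_lit 3, nat_lit 2, nat_lit 1, nat_lit 3, nat_lit 2, nat_lit 3, nat_lit 2, nat_lit 1, nat_lit 4, nat_lit 3, nat_lit 2, nat_lit 3, nat_lit 2, nat_lit 1, nat_lit 3, nat_lit 2, nat_lit 3, nat_lit 2, nat_lit 1, nat_lit 3, nat_lit 2, nat_lit 3, nat_lit 2, nat_lit 1, nat_lit 3, nat_lit 2, nat_lit 3, nat_lit 2, nat_lit 1, nat_lit 3,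 nat_lit 2, nat_lit 3, nat_lit 2] else [nat_lit 3, nat_lit 1, nat_lit 2, nat_lit 3, nat_lit 2, nat_lit 3, nat_lit 1, nat_lit 2, nat_lit 3, nat_lit 2, nat_lit 3, nat_lit 1, nat_lit 2, nat_lit 3, nat_lit 2, nat_lit 3, nat_lit 4, nat_lit 1, nat_lit 2, nat_lit 3, nat_lit 2, nat_lit 3, nat_lit 1, nat_lit 2, nat_lit 3, nat_lit 2, nat_lit 3, nat_lit 1, nat_lit 2, nat_lit 3, nat_lit 2, nat_lit 3, nat_lit 1, nat_lit 2, nat_lit 3, nat_lit 2, nat_lit 3, nat_lit 1, nat_lit 2, nat_lit 3, nat_lit 2, nat_lit 3, nat_lit 4, nat_lit 1, nat_lit 2, nat_lit 3, nat_lit 2, nat_lit 3, nat_lit 1, nat_lit 2, nat_lit 3, nat_lit 2, nat_lit 3, nat_lit 1, nat_lit 2, nat_lit 3, nat_lit 2, nat_lit 3, nat_lit 1, nat_lit 2, nat_lit 3, nat_lit 2, nat_lit 3, nat_lit 1, nat_lit 2, nat_lit 3, nat_lit 2, nat_lit 3, nat_lit 4, nat_lit 1, nat_lit 2, nat_lit 3, nat_lit 2, nat_lit 3, nat_lit 1, nat_lit 2, nat_lit 3, nat_lit 2]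
def Wt_140_144 (j : ℕ) : List ℕ := bif Nat.blt j 142 then (Wt_140_142 j) else (Wt_142_144 j)
def Wt_144_146 (j : ℕ) : List ℕ := bif Nat.blt j 145 then [nat_lit 63, nat_lit 3, nat_lit 4, nat_lit 1, nat_lit 2, nat_lit 3, nat_lit 2, nat_lit 3, nat_lit 1, nat_lit 2, nat_lit 3, nat_lit 2, nat_lit 3, nat_lit 1, nat_lit 2, nat_lit 3, nat_lit 2, nat_lit 3, nat_lit 1, nat_lit 2, nat_lit 3, nat_lit 2, nat_lit 3, nat_lit 1, nat_lit 2, nat_lit 3, nat_lit 2, nat_lit 3, nat_lit 4, nat_lit 1, nat_lit 2, nat_lit 3, nat_lit 2, nat_lit 3, nat_lit 1, nat_lit 2, nat_lit 3, nat_lit 2, nat_lit 3, nat_lit 1, nat_lit 2, nat_lit 3, nat_lit 2, nat_lit 3, nat_lit 1, nat_lit 2, nat_lit 3, nat_lit 2, nat_lit 3, nat_lit 1, nat_lit 2, nat_lit 3, nat_lit 2, nat_lit 3, nat_lit 4, nat_lit 1, nat_lit 2, nat_lit 3, nat_lit 2, nat_lit 3, nat_lit 1, nat_lit 2, nat_lit 3, nat_lit 2, nat_lit 3, nat_lit 1, nat_lit 2, nat_lit 3, nat_lit 2, nat_lit 3, nat_lit 1, nat_lit 2, nat_lit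 3, nat_lit 2, nat_lit 3, nat_lit 1, nat_lit 2, nat_lit 3, nat_lit 2] else [nat_lit 63, nat_lit 6, nat_lit 1, nat_lit 6, nat_lit 1, nat_lit 6, nat_lit 1]
def Wt_146_148 (j : ℕ) : List ℕ := bif Nat.blt j 147 then [nat_lit 1, nat_lit 3, nat_lit 2, nat_lit 3, nat_lit 2, nat_lit 1, nat_lit 3, nat_lit 2, nat_lit 3, nat_lit 2, nat_lit 1, nat_lit 4, nat_lit 3, nat_lit 2, nat_lit 3, nat_lit 2, nat_lit 1, nat_lit 3, nat_lit 2, nat_lit 3, nat_lit 2, nat_lit 1, nat_lit 3, nat_lit 2, nat_lit 3, nat_lit 2, nat_lit 1, nat_lit 3, nat_lit 2, nat_lit 3, nat_lit 2, nat_lit 1, nat_lit 3, nat_lit 2, nat_lit 3, nat_lit 2, nat_lit 1, nat_lit 4, nat_lit 3, nat_lit 2, nat_lit 3, nat_lit 2, nat_lit 1, nat_lit 3, nat_lit 2, nat_lit 3, nat_lit 2, nat_lit 1, nat_lit 3, nat_lit 2, nat_lit 3, nat_lit 2, nat_lit 1, nat_lit 3, nat_lit 2, nat_lit 3, nat_lit 2, nat_lit 1, nat_lit 3, nat_lit 2, nat_lit 3, nat_lit 2, nat_lit 1, nat_lit 4, nat_lit 3, nat_lit 2, nat_lit 3, nat_lit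 2, nat_lit 1, nat_lit 3, nat_lit 2, nat_lit 3, nat_lit 2, nat_lit 1, nat_lit 3, nat_lit 2, nat_lit 3, nat_lit 2] else [nat_lit 63, nat_lit 5, nat_lit 1, nat_lit 5, nat_lit 1, nat_lit 5, nat_lit 1]
def Wt_144_148 (j : ℕ) : List ℕ := bif Nat.blt j 146 then (Wt_144_146 j) else (Wt_146_148 j)
def Wt_140_148 (j : ℕ) : List ℕ := bif Nat.blt j 144 then (Wt_140_144 j) else (Wt_144_148 j)
def Wt_148_150 (j : ℕ) : List ℕ := bif Nat.blt j 149 then [nat_lit 3, nat_lit 2, nat_lit 1, nat_lit 3, nat_lit 2, nat_lit 3, nat_lit 2, nat_lit 1, nat_lit 4, nat_lit 3, nat_lit 2, nat_lit 3, nat_lit 2, nat_lit 1, nat_lit 3, nat_lit 2, nat_lit 3, nat_lit 2, nat_lit 1, nat_lit 3, nat_lit 2, nat_lit 3, nat_lit 2, nat_lit 1, nat_lit 3, nat_lit 2, nat_lit 3, nat_lit 2, nat_lit 1, nat_lit 3, nat_lit 2, nat_lit 3, nat_lit 2, nat_lit 1, nat_lit 4, nat_lit 3, nat_lit 2, nat_lit 3, nat_lit 2, nat_lit 1, nat_lit 3, nat_lit 2, nat_lit 3, nat_lit 2, nat_lit 1, nat_lit 3, nat_lit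 2, nat_lit 3, nat_lit 2, nat_lit 1, nat_lit 3, nat_lit 2, nat_lit 3, nat_lit 2, nat_lit 1, nat_lit 3, nat_lit 2, nat_lit 3, nat_lit 2, nat_lit 1, nat_lit 4, nat_lit 3, nat_lit 2, nat_lit 3, nat_lit 2, nat_lit 1, nat_lit 3, nat_lit 2, nat_lit 3, nat_lit 2, nat_lit 1, nat_lit 3, nat_lit 2, nat_lit 3, nat_lit 2, nat_lit 1, nat_lit 3, nat_lit 2] else [nat_lit 63, nat_lit 3, nat_lit 2, nat_lit 3, nat_lit 2, nat_lit 3, nat_lit 2, nat_lit 3, nat_lit 0, nat_lit 2]
def Wt_150_152 (j : ℕ) : List ℕ := bif Nat.blt j 151 then [nat_lit 63, nat_lit 0, nat_lit 4, nat_lit 0, nat_lit 4] else [nat_lit 6, nat_lit 0, nat_lit 5, nat_lit 6, nat_lit 5]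
def Wt_148_152 (j : ℕ) : List ℕ := bif Nat.blt j 150 then (Wt_148_150 j) else (Wt_150_152 j)
def Wt_152_154 (j : ℕ) : List ℕ := bif Nat.blt j 153 then [nat_lit 3, nat_lit 0, nat_lit 2, nat_lit 3, nat_lit 2, nat_lit 3, nat_lit 2, nat_lit 3, nat_lit 2] else [nat_lit 63, nat_lit 4, nat_lit 2, nat_lit 4, nat_lit 2]
def Wt_155_157 (j : ℕ) : List ℕ := bif Nat.blt j 156 then [nat_lit 6, nat_lit 5, nat_lit 6, nat_lit 0, nat_lit 5] else [nat_lit 2, nat_lit 3, nat_lit 2, nat_lit 3, nat_lit 2, nat_lit 3, nat_lit 2, nat_lit 3, nat_lit 0]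
def Wt_154_157 (j : ℕ) : List ℕ := bif Nat.blt j 155 then [nat_lit 63, nat_lit 4, nat_lit 5, nat_lit 4, nat_lit 5] else (Wt_155_157 j)
def Wt_152_157 (j : ℕ) : List ℕ := bif Nat.blt j 154 then (Wt_152_154 j) else (Wt_154_157 j)
def Wt_148_157 (j : ℕ) : List ℕ := bif Nat.blt j 152 then (Wt_148_152 j) else (Wt_152_157 j)
def Wt_140_157 (j : ℕ) : List ℕ := bif Nat.blt j 148 then (Wt_140_148 j) else (Wt_148_157 j)
def Wt_157_159 (j : ℕ) : List ℕ := bif Nat.blt j 158 then [nat_lit 6, nat_lit 5, nat_lit 6, nat_lit 5, nat_lit 0] else [nat_lit 5, nat_lit 0, nat_lit 6, nat_lit 5, nat_lit 6]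
def Wt_159_161 (j : ℕ) : List ℕ := bif Nat.blt j 160 then [nat_lit 63, nat_lit 1, nat_lit 6, nat_lit 1, nat_lit 6, nat_lit 1, nat_lit 6] else [nat_lit 63, nat_lit 5, nat_lit 0, nat_lit 6, nat_lit 5, nat_lit 6]
def Wt_157_161 (j : ℕ) : List ℕ := bif Nat.blt j 159 then (Wt_157_159 j) else (Wt_159_161 j)
def Wt_161_163 (j : ℕ) : List ℕ := bif Nat.blt j 162 then [nat_lit 63, nat_lit 5, nat_lit 6, nat_lit 5, nat_lit 6, nat_lit 5, nat_lit 6, nat_lit 5, nat_lit 6] else [nat_lit 63, nat_lit 4, nat_lit 0, nat_lit 4, nat_lit 0]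
def Wt_164_166 (j : ℕ) : List ℕ := bif Nat.blt j 165 then [nat_lit 63, nat_lit 63, nat_lit 5, nat_lit 63, nat_lit 5] else [nat_lit 3, nat_lit 63, nat_lit 3, nat_lit 63]
def Wt_163_166 (j : ℕ) : List ℕ := bif Nat.blt j 164 then [nat_lit 63, nat_lit 5, nat_lit 63, nat_lit 5, nat_lit 63] else (Wt_164_166 j)
def Wt_161_166 (j : ℕ) : List ℕ := bif Nat.blt j 163 then (Wt_161_163 j) else (Wt_163_166 j)
def Wt_157_166 (j : ℕ) : List ℕ := bif Nat.blt j 161 then (Wt_157_161 j) else (Wt_161_166 j)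
def Wt_166_168 (j : ℕ) : List ℕ := bif Nat.blt j 167 then [nat_lit 63, nat_lit 3, nat_lit 0, nat_lit 2, nat_lit 3, nat_lit 2, nat_lit 3, nat_lit 2, nat_lit 3, nat_lit 2] else [nat_lit 63, nat_lit 2, nat_lit 3, nat_lit 2, nat_lit 0, nat_lit 3, nat_lit 2, nat_lit 3, nat_lit 2, nat_lit 3]
def Wt_168_170 (j : ℕ) : List ℕ := bif Nat.blt j 169 then [nat_lit 63, nat_lit 0, nat_lit 2, nat_lit 3, nat_lit 2, nat_lit 3, nat_lit 2, nat_lit 3, nat_lit 2, nat_lit 3] else [nat_lit 63, nat_lit 3, nat_lit 0, nat_lit 3, nat_lit 0]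
def Wt_166_170 (j : ℕ) : List ℕ := bif Nat.blt j 168 then (Wt_166_168 j) else (Wt_168_170 j)
def Wt_170_172 (j : ℕ) : List ℕ := bif Nat.blt j 171 then [nat_lit 63, nat_lit 3, nat_lit 2, nat_lit 0, nat_lit 3, nat_lit 2, nat_lit 3, nat_lit 2, nat_lit 3, nat_lit 2] else [nat_lit 63, nat_lit 3, nat_lit 2, nat_lit 3, nat_lit 2, nat_lit 3, nat_lit 2, nat_lit 0, nat_lit 3, nat_lit 2]
def Wt_173_175 (j : ℕ) : List ℕ := bif Nat.blt j 174 then [nat_lit 5, nat_lit 6, nat_lit 5, nat_lit 0, nat_lit 6] else [nat_lit 63, nat_lit 5, nat_lit 4, nat_lit 5, nat_lit 4]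
def Wt_172_175 (j : ℕ) : List ℕ := bif Nat.blt j 173 then [nat_lit 63, nat_lit 1, nat_lit 2, nat_lit 5, nat_lit 0, nat_lit 1, nat_lit 2, nat_lit 5, nat_lit 0, nat_lit 1, nat_lit 2, nat_lit 5, nat_lit 0, nat_lit 1, nat_lit 2, nat_lit 5, nat_lit 0, nat_lit 1, nat_lit 2, nat_lit 5, nat_lit 0] else (Wt_173_175 j)
def Wt_170_175 (j : ℕ) : List ℕ := bif Nat.blt j 172 then (Wt_170_172 j) else (Wt_172_175 j)
def Wt_166_175 (j : ℕ) : List ℕ := bif Nat.blt j 170 then (Wt_166_170 j) else (Wt_170_175 j)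
def Wt_157_175 (j : ℕ) : List ℕ := bif Nat.blt j 166 then (Wt_157_166 j) else (Wt_166_175 j)
def Wt_140_175 (j : ℕ) : List ℕ := bif Nat.blt j 157 then (Wt_140_157 j) else (Wt_157_175 j)
def Wt_175_177 (j : ℕ) : List ℕ := bif Nat.blt j 176 then [nat_lit 63, nat_lit 0, nat_lit 3, nat_lit 2, nat_lit 3, nat_lit 2, nat_lit 3, nat_lit 2, nat_lit 3, nat_lit 2] else [nat_lit 63, nat_lit 1, nat_lit 0, nat_lit 5, nat_lit 2, nat_lit 1, nat_lit 0, nat_lit 5, nat_lit 2, nat_lit 1, nat_lit 0, nat_lit 5, nat_lit 2, nat_lit 1, nat_lit 0, nat_lit 5, nat_lit 2, nat_lit 1, nat_lit 0, nat_lit 5, nat_lit 2]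
def Wt_177_179 (j : ℕ) : List ℕ := bif Nat.blt j 178 then [nat_lit 63, nat_lit 2, nat_lit 3, nat_lit 2, nat_lit 3, nat_lit 2, nat_lit 3, nat_lit 2, nat_lit 3, nat_lit 0] else [nat_lit 3, nat_lit 2, nat_lit 3, nat_lit 2, nat_lit 0, nat_lit 3, nat_lit 2, nat_lit 3, nat_lit 2]
def Wt_175_179 (j : ℕ) : List ℕ := bif Nat.blt j 177 then (Wt_175_177 j) else (Wt_177_179 j)
def Wt_179_181 (j : ℕ) : List ℕ := bif Nat.blt j 180 then [nat_lit 0, nat_lit 1, nat_lit 2, nat_lit 5, nat_lit 0, nat_lit 1, nat_lit 2, nat_lit 5, nat_lit 0, nat_lit 1, nat_lit 2, nat_lit 5, nat_lit 0, nat_lit 1, nat_lit 2, nat_lit 5, nat_lit 0, nat_lit 1, nat_lit 2, nat_lit 5] else [nat_lit 63, nat_lit 3, nat_lit 2, nat_lit 3, nat_lit 2, nat_lit 0, nat_lit 3, nat_lit 2, nat_lit 3, nat_lit 2]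
def Wt_181_183 (j : ℕ) : List ℕ := bif Nat.blt j 182 then [nat_lit 63, nat_lit 3, nat_lit 5, nat_lit 3, nat_lit 5] else [nat_lit 63, nat_lit 5, nat_lit 3, nat_lit 5, nat_lit 3]
def Wt_179_183 (j : ℕ) : List ℕ := bif Nat.blt j 181 then (Wt_179_181 j) else (Wt_181_183 j)
def Wt_175_183 (j : ℕ) : List ℕ := bif Nat.blt j 179 then (Wt_175_179 j) else (Wt_179_183 j)
def Wt_183_185 (j : ℕ) : List ℕ := bif Nat.blt j 184 then [nat_lit 3, nat_lit 2, nat_lit 1, nat_lit 3, nat_lit 2, nat_lit 3, nat_lit 2, nat_lit 1, nat_lit 3, nat_lit 2, nat_lit 3, nat_lit 2, nat_lit 1, nat_lit 4, nat_lit 3, nat_lit 2, nat_lit 3, nat_lit 2, nat_lit 1, nat_lit 3, nat_lit 2, nat_lit 3, nat_lit 2, nat_lit 1, nat_lit 3, nat_lit 2, nat_lit 3, nat_lit 2, nat_lit 1, nat_lit 3, nat_lit 2, nat_lit 3, nat_lit 2, nat_lit 1, nat_lit 3, nat_lit 2, nat_lit 3, nat_lit 2, nat_lit 1, nat_lit 4, nat_lit 3, nat_lit 2, nat_lit 3, nat_lit 2, nat_lit 1, nat_lit 3, nat_lit 2, nat_lit 3,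 nat_lit 2, nat_lit 1, nat_lit 3, nat_lit 2, nat_lit 3, nat_lit 2, nat_lit 1, nat_lit 3, nat_lit 2, nat_lit 3, nat_lit 2, nat_lit 1, nat_lit 3, nat_lit 2, nat_lit 3, nat_lit 2, nat_lit 1, nat_lit 4, nat_lit 3, nat_lit 2, nat_lit 3, nat_lit 2, nat_lit 1, nat_lit 3, nat_lit 2, nat_lit 3, nat_lit 2, nat_lit 1, nat_lit 3, nat_lit 2] else [nat_lit 1, nat_lit 2, nat_lit 3, nat_lit 2, nat_lit 3, nat_lit 4, nat_lit 1, nat_lit 2, nat_lit 3, nat_lit 2, nat_lit 3, nat_lit 1, nat_lit 2, nat_lit 3, nat_lit 2, nat_lit 3, nat_lit 1, nat_lit 2, nat_lit 3, nat_lit 2, nat_lit 3, nat_lit 1, nat_lit 2, nat_lit 3, nat_lit 2, nat_lit 3, nat_lit 1, nat_lit 2, nat_lit 3, nat_lit 2, nat_lit 3, nat_lit 4, nat_lit 1, nat_lit 2, nat_lit 3, nat_lit 2, nat_lit 3, nat_lit 1, nat_lit 2, nat_lit 3, nat_lit 2, nat_lit 3, nat_lit 1, nat_lit 2, nat_lit 3, nat_lit 2, nat_lit 3, nat_lit 1, nat_lit 2, nat_lit 3, nat_lit 2, nat_lit 3, nat_lit 1, nat_lit 2, nat_lit 3, nat_lit 2,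 nat_lit 3, nat_lit 4, nat_lit 1, nat_lit 2, nat_lit 3, nat_lit 2, nat_lit 3, nat_lit 1, nat_lit 2, nat_lit 3, nat_lit 2, nat_lit 3, nat_lit 1, nat_lit 2, nat_lit 3, nat_lit 2, nat_lit 3, nat_lit 1, nat_lit 2, nat_lit 3, nat_lit 2, nat_lit 3]
def Wt_185_187 (j : ℕ) : List ℕ := bif Nat.blt j 186 then [nat_lit 1, nat_lit 2, nat_lit 3, nat_lit 2, nat_lit 3, nat_lit 1, nat_lit 2, nat_lit 3, nat_lit 2, nat_lit 3, nat_lit 1, nat_lit 2, nat_lit 3, nat_lit 2, nat_lit 3, nat_lit 4, nat_lit 1, nat_lit 2, nat_lit 3, nat_lit 2, nat_lit 3, nat_lit 1, nat_lit 2, nat_lit 3, nat_lit 2, nat_lit 3, nat_lit 1, nat_lit 2, nat_lit 3, nat_lit 2, nat_lit 3, nat_lit 1, nat_lit 2, nat_lit 3, nat_lit 2, nat_lit 3, nat_lit 1, nat_lit 2, nat_lit 3, nat_lit 2, nat_lit 3, nat_lit 4, nat_lit 1, nat_lit 2, nat_lit 3, nat_lit 2, nat_lit 3, nat_lit 1, nat_lit 2, nat_lit 3, nat_lit 2, nat_lit 3, nat_lit 1, nat_lit 2, nat_lit 3, nat_lit 2, nat_lit 3, nat_lit 1, nat_lit 2,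 nat_lit 3, nat_lit 2, nat_lit 3, nat_lit 1, nat_lit 2, nat_lit 3, nat_lit 2, nat_lit 3, nat_lit 4, nat_lit 1, nat_lit 2, nat_lit 3, nat_lit 2, nat_lit 3, nat_lit 1, nat_lit 2, nat_lit 3, nat_lit 2, nat_lit 3] else [nat_lit 2, nat_lit 3, nat_lit 2, nat_lit 0, nat_lit 3, nat_lit 2, nat_lit 3, nat_lit 2, nat_lit 3]
def Wt_183_187 (j : ℕ) : List ℕ := bif Nat.blt j 185 then (Wt_183_185 j) else (Wt_185_187 j)
def Wt_187_189 (j : ℕ) : List ℕ := bif Nat.blt j 188 then [nat_lit 6, nat_lit 5, nat_lit 0, nat_lit 6, nat_lit 5] else [nat_lit 63, nat_lit 6, nat_lit 2, nat_lit 6, nat_lit 2]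
def Wt_190_192 (j : ℕ) : List ℕ := bif Nat.blt j 191 then [nat_lit 2, nat_lit 3, nat_lit 2, nat_lit 3, nat_lit 2, nat_lit 3, nat_lit 2, nat_lit 0, nat_lit 3] else [nat_lit 2, nat_lit 3, nat_lit 2, nat_lit 1, nat_lit 3, nat_lit 2, nat_lit 3, nat_lit 2, nat_lit 1, nat_lit 3, nat_lit 2, nat_lit 3, nat_lit 2, nat_lit 1, nat_lit 3, nat_lit 2, nat_lit 3, nat_lit 2, nat_lit 1, nat_lit 3, nat_lit 2, nat_lit 3, nat_lit 2, nat_lit 1, nat_lit 4, nat_lit 3, nat_lit 2, nat_lit 3, nat_lit 2, nat_lit 1, nat_lit 3, nat_lit 2, nat_lit 3, nat_lit 2, nat_lit 1, nat_lit 3, nat_lit 2, nat_lit 3, nat_lit 2, nat_lit 1, nat_lit 3, nat_lit 2, nat_lit 3, nat_lit 2, nat_lit 1, nat_lit 3, nat_lit 2, nat_lit 3, nat_lit 2, nat_lit 1, nat_lit 4, nat_lit 3, nat_lit 2, nat_lit 3, nat_lit 2, nat_lit 1, nat_lit 3, nat_lit 2, nat_lit 3, nat_lit 2, nat_lit 1, nat_lit 3, nat_lit 2, nat_lit 3, nat_lit 2, nat_lit 1, nat_lit 3, nat_lit 2, nat_lit 3, nat_lit 2, nat_lit 1, nat_lit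 3, nat_lit 2, nat_lit 3, nat_lit 2, nat_lit 1, nat_lit 4, nat_lit 3]
def Wt_189_192 (j : ℕ) : List ℕ := bif Nat.blt j 190 then [nat_lit 63, nat_lit 2, nat_lit 3, nat_lit 2, nat_lit 3, nat_lit 2, nat_lit 0, nat_lit 3, nat_lit 2, nat_lit 3] else (Wt_190_192 j)
def Wt_187_192 (j : ℕ) : List ℕ := bif Nat.blt j 189 then (Wt_187_189 j) else (Wt_189_192 j)
def Wt_183_192 (j : ℕ) : List ℕ := bif Nat.blt j 187 then (Wt_183_187 j) else (Wt_187_192 j)
def Wt_175_192 (j : ℕ) : List ℕ := bif Nat.blt j 183 then (Wt_175_183 j) else (Wt_183_192 j)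
def Wt_192_194 (j : ℕ) : List ℕ := bif Nat.blt j 193 then [nat_lit 2, nat_lit 3, nat_lit 2, nat_lit 1, nat_lit 3, nat_lit 2, nat_lit 3, nat_lit 2, nat_lit 1, nat_lit 4, nat_lit 3, nat_lit 2, nat_lit 3, nat_lit 2, nat_lit 1, nat_lit 3, nat_lit 2, nat_lit 3, nat_lit 2, nat_lit 1, nat_lit 3, nat_lit 2, nat_lit 3, nat_lit 2, nat_lit 1, nat_lit 3, nat_lit 2, nat_lit 3, nat_lit 2, nat_lit 1, nat_lit 3, nat_lit 2, nat_lit 3, nat_lit 2, nat_lit 1, nat_lit 4, nat_lit 3, nat_lit 2, nat_lit 3, nat_lit 2, nat_lit 1, nat_lit 3, nat_lit 2, nat_lit 3, nat_lit 2, nat_lit 1, nat_lit 3, nat_lit 2, nat_lit 3, nat_lit 2, nat_lit 1, nat_lit 3, nat_lit 2, nat_lit 3, nat_lit 2, nat_lit 1, nat_lit 3, nat_lit 2, nat_lit 3, nat_lit 2, nat_lit 1, nat_lit 4, nat_lit 3, nat_lit 2, nat_lit 3, nat_lit 2, nat_lit 1, nat_lit 3, nat_lit 2, nat_lit 3, nat_lit 2, nat_lit 1, nat_lit 3, nat_lit 2, nat_lit 3, nat_lit 2, nat_lit 1, nat_lit 3] else [nat_lit 1, nat_lit 5, nat_lit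 6, nat_lit 1, nat_lit 5, nat_lit 6, nat_lit 1, nat_lit 5, nat_lit 6, nat_lit 1, nat_lit 5, nat_lit 6, nat_lit 1, nat_lit 5, nat_lit 6]
def Wt_194_196 (j : ℕ) : List ℕ := bif Nat.blt j 195 then [nat_lit 6, nat_lit 1, nat_lit 5, nat_lit 6, nat_lit 1, nat_lit 5, nat_lit 6, nat_lit 1, nat_lit 5, nat_lit 6, nat_lit 1, nat_lit 5, nat_lit 6, nat_lit 1, nat_lit 5] else [nat_lit 63, nat_lit 0, nat_lit 3, nat_lit 0, nat_lit 3]
def Wt_192_196 (j : ℕ) : List ℕ := bif Nat.blt j 194 then (Wt_192_194 j) else (Wt_194_196 j)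
def Wt_196_198 (j : ℕ) : List ℕ := bif Nat.blt j 197 then [nat_lit 63, nat_lit 1, nat_lit 3, nat_lit 2, nat_lit 3, nat_lit 2, nat_lit 1, nat_lit 3, nat_lit 2, nat_lit 3, nat_lit 2, nat_lit 1, nat_lit 4, nat_lit 3, nat_lit 2, nat_lit 3, nat_lit 2, nat_lit 1, nat_lit 3, nat_lit 2, nat_lit 3, nat_lit 2, nat_lit 1, nat_lit 3, nat_lit 2, nat_lit 3, nat_lit 2, nat_lit 1, nat_lit 3, nat_lit 2, nat_lit 3, nat_lit 2, nat_lit 1, nat_lit 3, nat_lit 2, nat_lit 3, nat_lit 2, nat_lit 1, nat_lit 4, nat_lit 3, nat_lit 2, nat_lit 3, nat_lit 2, nat_lit 1, nat_lit 3, nat_lit 2, nat_lit 3, nat_lit 2, nat_lit 1, nat_lit 3, nat_lit 2, nat_lit 3, nat_lit 2, nat_lit 1, nat_lit 3, nat_lit 2, nat_lit 3, nat_lit 2, nat_lit 1, nat_lit 3, nat_lit 2, nat_lit 3, nat_lit 2, nat_lit 1, nat_lit 4, nat_lit 3, nat_lit 2, nat_lit 3, nat_lit 2, nat_lit 1, nat_lit 3, nat_lit 2, nat_lit 3, nat_lit 2, nat_lit 1, nat_lit 3, nat_lit 2, nat_lit 3, nat_lit 2] else [nat_lit 5, nat_lit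 0, nat_lit 1, nat_lit 2, nat_lit 5, nat_lit 0, nat_lit 1, nat_lit 2, nat_lit 5, nat_lit 0, nat_lit 1, nat_lit 2, nat_lit 5, nat_lit 0, nat_lit 1, nat_lit 2, nat_lit 5, nat_lit 0, nat_lit 1, nat_lit 2]
def Wt_199_201 (j : ℕ) : List ℕ := bif Nat.blt j 200 then [nat_lit 63, nat_lit 2, nat_lit 3, nat_lit 2, nat_lit 3, nat_lit 2, nat_lit 3, nat_lit 0, nat_lit 2, nat_lit 3] else [nat_lit 63, nat_lit 6, nat_lit 5, nat_lit 6, nat_lit 0, nat_lit 5]
def Wt_198_201 (j : ℕ) : List ℕ := bif Nat.blt j 199 then [nat_lit 2, nat_lit 3, nat_lit 4, nat_lit 1, nat_lit 2, nat_lit 3, nat_lit 2, nat_lit 3, nat_lit 1, nat_lit 2, nat_lit 3, nat_lit 2, nat_lit 3, nat_lit 1, nat_lit 2, nat_lit 3, nat_lit 2, nat_lit 3, nat_lit 1, nat_lit 2, nat_lit 3, nat_lit 2, nat_lit 3, nat_lit 1, nat_lit 2, nat_lit 3, nat_lit 2, nat_lit 3, nat_lit 4, nat_lit 1, nat_lit 2, nat_lit 3, nat_lit 2, nat_lit 3, nat_lit 1, nat_lit 2, nat_lit 3, nat_lit 2, nat_lit 3, nat_lit 1, nat_lit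 2, nat_lit 3, nat_lit 2, nat_lit 3, nat_lit 1, nat_lit 2, nat_lit 3, nat_lit 2, nat_lit 3, nat_lit 1, nat_lit 2, nat_lit 3, nat_lit 2, nat_lit 3, nat_lit 4, nat_lit 1, nat_lit 2, nat_lit 3, nat_lit 2, nat_lit 3, nat_lit 1, nat_lit 2, nat_lit 3, nat_lit 2, nat_lit 3, nat_lit 1, nat_lit 2, nat_lit 3, nat_lit 2, nat_lit 3, nat_lit 1, nat_lit 2, nat_lit 3, nat_lit 2, nat_lit 3, nat_lit 1, nat_lit 2, nat_lit 3] else (Wt_199_201 j)
def Wt_196_201 (j : ℕ) : List ℕ := bif Nat.blt j 198 then (Wt_196_198 j) else (Wt_198_201 j)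
def Wt_192_201 (j : ℕ) : List ℕ := bif Nat.blt j 196 then (Wt_192_196 j) else (Wt_196_201 j)
def Wt_201_203 (j : ℕ) : List ℕ := bif Nat.blt j 202 then [nat_lit 63, nat_lit 2, nat_lit 6, nat_lit 2, nat_lit 6] else [nat_lit 63, nat_lit 3, nat_lit 2, nat_lit 3, nat_lit 2, nat_lit 1, nat_lit 3, nat_lit 2, nat_lit 3, nat_lit 2, nat_lit 1, nat_lit 3, nat_lit 2, nat_lit 3, nat_lit 2, nat_lit 1, nat_lit 3, nat_lit 2, nat_lit 3, nat_lit 2, nat_lit 1, nat_lit 3, nat_lit 2, nat_lit 3, nat_lit 2, nat_lit 1, nat_lit 4, nat_lit 3, nat_lit 2, nat_lit 3, nat_lit 2, nat_lit 1, nat_lit 3, nat_lit 2, nat_lit 3, nat_lit 2, nat_lit 1, nat_lit 3, nat_lit 2, nat_lit 3, nat_lit 2, nat_lit 1, nat_lit 3, nat_lit 2, nat_lit 3, nat_lit 2, nat_lit 1, nat_lit 3, nat_lit 2, nat_lit 3, nat_lit 2, nat_lit 1, nat_lit 4, nat_lit 3, nat_lit 2, nat_lit 3, nat_lit 2, nat_lit 1, nat_lit 3, nat_lit 2, nat_lit 3, nat_lit 2, nat_lit 1, nat_lit 3, nat_lit 2, nat_lit 3, nat_lit 2,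 nat_lit 1, nat_lit 3, nat_lit 2, nat_lit 3, nat_lit 2, nat_lit 1, nat_lit 3, nat_lit 2, nat_lit 3, nat_lit 2, nat_lit 1, nat_lit 4]
def Wt_203_205 (j : ℕ) : List ℕ := bif Nat.blt j 204 then [nat_lit 3, nat_lit 2, nat_lit 1, nat_lit 3, nat_lit 2, nat_lit 3, nat_lit 2, nat_lit 1, nat_lit 3, nat_lit 2, nat_lit 3, nat_lit 2, nat_lit 1, nat_lit 3, nat_lit 2, nat_lit 3, nat_lit 2, nat_lit 1, nat_lit 4, nat_lit 3, nat_lit 2, nat_lit 3, nat_lit 2, nat_lit 1, nat_lit 3, nat_lit 2, nat_lit 3, nat_lit 2, nat_lit 1, nat_lit 3, nat_lit 2, nat_lit 3, nat_lit 2, nat_lit 1, nat_lit 3, nat_lit 2, nat_lit 3, nat_lit 2, nat_lit 1, nat_lit 3, nat_lit 2, nat_lit 3, nat_lit 2, nat_lit 1, nat_lit 4, nat_lit 3, nat_lit 2, nat_lit 3, nat_lit 2, nat_lit 1, nat_lit 3, nat_lit 2, nat_lit 3, nat_lit 2, nat_lit 1, nat_lit 3, nat_lit 2, nat_lit 3, nat_lit 2, nat_lit 1, nat_lit 3, nat_lit 2, nat_lit 3, nat_lit 2, nat_lit 1, nat_lit 3, nat_lit 2, nat_lit 3, nat_lit 2,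 nat_lit 1, nat_lit 4, nat_lit 3, nat_lit 2, nat_lit 3, nat_lit 2, nat_lit 1, nat_lit 3, nat_lit 2] else [nat_lit 2, nat_lit 3, nat_lit 2, nat_lit 1, nat_lit 3, nat_lit 2, nat_lit 3, nat_lit 2, nat_lit 1, nat_lit 3, nat_lit 2, nat_lit 3, nat_lit 2, nat_lit 1, nat_lit 4, nat_lit 3, nat_lit 2, nat_lit 3, nat_lit 2, nat_lit 1, nat_lit 3, nat_lit 2, nat_lit 3, nat_lit 2, nat_lit 1, nat_lit 3, nat_lit 2, nat_lit 3, nat_lit 2, nat_lit 1, nat_lit 3, nat_lit 2, nat_lit 3, nat_lit 2, nat_lit 1, nat_lit 3, nat_lit 2, nat_lit 3, nat_lit 2, nat_lit 1, nat_lit 4, nat_lit 3, nat_lit 2, nat_lit 3, nat_lit 2, nat_lit 1, nat_lit 3, nat_lit 2, nat_lit 3, nat_lit 2, nat_lit 1, nat_lit 3, nat_lit 2, nat_lit 3, nat_lit 2, nat_lit 1, nat_lit 3, nat_lit 2, nat_lit 3, nat_lit 2, nat_lit 1, nat_lit 3, nat_lit 2, nat_lit 3, nat_lit 2, nat_lit 1, nat_lit 4, nat_lit 3, nat_lit 2, nat_lit 3, nat_lit 2, nat_lit 1, nat_lit 3, nat_lit 2, nat_lit 3, nat_lit 2, nat_lit 1,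 nat_lit 3]
def Wt_201_205 (j : ℕ) : List ℕ := bif Nat.blt j 203 then (Wt_201_203 j) else (Wt_203_205 j)
def Wt_205_207 (j : ℕ) : List ℕ := bif Nat.blt j 206 then [nat_lit 63, nat_lit 6, nat_lit 3, nat_lit 6, nat_lit 3] else [nat_lit 5, nat_lit 6, nat_lit 1, nat_lit 5, nat_lit 6, nat_lit 1, nat_lit 5, nat_lit 6, nat_lit 1, nat_lit 5, nat_lit 6, nat_lit 1, nat_lit 5, nat_lit 6, nat_lit 1]
def Wt_208_210 (j : ℕ) : List ℕ := bif Nat.blt j 209 then [nat_lit 2, nat_lit 1, nat_lit 4, nat_lit 3, nat_lit 2, nat_lit 3, nat_lit 2, nat_lit 1, nat_lit 3, nat_lit 2, nat_lit 3, nat_lit 2, nat_lit 1, nat_lit 3, nat_lit 2, nat_lit 3, nat_lit 2, nat_lit 1, nat_lit 3, nat_lit 2, nat_lit 3, nat_lit 2, nat_lit 1, nat_lit 3, nat_lit 2, nat_lit 3, nat_lit 2, nat_lit 1, nat_lit 4, nat_lit 3, nat_lit 2, nat_lit 3, nat_lit 2, nat_lit 1, nat_lit 3, nat_lit 2, nat_lit 3, nat_lit 2, nat_lit 1, nat_lit 3, nat_lit 2, nat_lit 3, nat_lit 2, nat_lit 1, nat_lit 3, nat_lit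 2, nat_lit 3, nat_lit 2, nat_lit 1, nat_lit 3, nat_lit 2, nat_lit 3, nat_lit 2, nat_lit 1, nat_lit 4, nat_lit 3, nat_lit 2, nat_lit 3, nat_lit 2, nat_lit 1, nat_lit 3, nat_lit 2, nat_lit 3, nat_lit 2, nat_lit 1, nat_lit 3, nat_lit 2, nat_lit 3, nat_lit 2, nat_lit 1, nat_lit 3, nat_lit 2, nat_lit 3, nat_lit 2, nat_lit 1, nat_lit 3, nat_lit 2, nat_lit 3] else [nat_lit 2, nat_lit 3, nat_lit 2, nat_lit 1, nat_lit 3, nat_lit 2, nat_lit 3, nat_lit 2, nat_lit 1, nat_lit 3, nat_lit 2, nat_lit 3, nat_lit 2, nat_lit 1, nat_lit 3, nat_lit 2, nat_lit 3, nat_lit 2, nat_lit 1, nat_lit 4, nat_lit 3, nat_lit 2, nat_lit 3, nat_lit 2, nat_lit 1, nat_lit 3, nat_lit 2, nat_lit 3, nat_lit 2, nat_lit 1, nat_lit 3, nat_lit 2, nat_lit 3, nat_lit 2, nat_lit 1, nat_lit 3, nat_lit 2, nat_lit 3, nat_lit 2, nat_lit 1, nat_lit 3, nat_lit 2, nat_lit 3, nat_lit 2, nat_lit 1, nat_lit 4, nat_lit 3, nat_lit 2, nat_lit 3, nat_lit 2, nat_lit 1, nat_lit 3, nat_lit 2, nat_lit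 3, nat_lit 2, nat_lit 1, nat_lit 3, nat_lit 2, nat_lit 3, nat_lit 2, nat_lit 1, nat_lit 3, nat_lit 2, nat_lit 3, nat_lit 2, nat_lit 1, nat_lit 3, nat_lit 2, nat_lit 3, nat_lit 2, nat_lit 1, nat_lit 4, nat_lit 3, nat_lit 2, nat_lit 3, nat_lit 2, nat_lit 1, nat_lit 3]
def Wt_207_210 (j : ℕ) : List ℕ := bif Nat.blt j 208 then [nat_lit 63, nat_lit 3, nat_lit 6, nat_lit 3, nat_lit 6] else (Wt_208_210 j)
def Wt_205_210 (j : ℕ) : List ℕ := bif Nat.blt j 207 then (Wt_205_207 j) else (Wt_207_210 j)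
def Wt_201_210 (j : ℕ) : List ℕ := bif Nat.blt j 205 then (Wt_201_205 j) else (Wt_205_210 j)
def Wt_192_210 (j : ℕ) : List ℕ := bif Nat.blt j 201 then (Wt_192_201 j) else (Wt_201_210 j)
def Wt_175_210 (j : ℕ) : List ℕ := bif Nat.blt j 192 then (Wt_175_192 j) else (Wt_192_210 j)
def Wt_140_210 (j : ℕ) : List ℕ := bif Nat.blt j 175 then (Wt_140_175 j) else (Wt_175_210 j)
def Wt_210_212 (j : ℕ) : List ℕ := bif Nat.blt j 211 then [nat_lit 3, nat_lit 2, nat_lit 1, nat_lit 3, nat_lit 2, nat_lit 3, nat_lit 2, nat_lit 1, nat_lit 3, nat_lit 2, nat_lit 3, nat_lit 2, nat_lit 1, nat_lit 3, nat_lit 2, nat_lit 3, nat_lit 2, nat_lit 1, nat_lit 3, nat_lit 2, nat_lit 3, nat_lit 2, nat_lit 1, nat_lit 4, nat_lit 3, nat_lit 2, nat_lit 3, nat_lit 2, nat_lit 1, nat_lit 3, nat_lit 2, nat_lit 3, nat_lit 2, nat_lit 1, nat_lit 3, nat_lit 2, nat_lit 3, nat_lit 2, nat_lit 1, nat_lit 3, nat_lit 2, nat_lit 3, nat_lit 2, nat_lit 1, nat_lit 3, nat_lit 2, nat_lit 3, nat_lit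 2, nat_lit 1, nat_lit 4, nat_lit 3, nat_lit 2, nat_lit 3, nat_lit 2, nat_lit 1, nat_lit 3, nat_lit 2, nat_lit 3, nat_lit 2, nat_lit 1, nat_lit 3, nat_lit 2, nat_lit 3, nat_lit 2, nat_lit 1, nat_lit 3, nat_lit 2, nat_lit 3, nat_lit 2, nat_lit 1, nat_lit 3, nat_lit 2, nat_lit 3, nat_lit 2, nat_lit 1, nat_lit 4, nat_lit 3, nat_lit 2] else [nat_lit 2, nat_lit 1, nat_lit 3, nat_lit 2, nat_lit 3, nat_lit 2, nat_lit 1, nat_lit 3, nat_lit 2, nat_lit 3, nat_lit 2, nat_lit 1, nat_lit 3, nat_lit 2, nat_lit 3, nat_lit 2, nat_lit 1, nat_lit 3, nat_lit 2, nat_lit 3, nat_lit 2, nat_lit 1, nat_lit 4, nat_lit 3, nat_lit 2, nat_lit 3, nat_lit 2, nat_lit 1, nat_lit 3, nat_lit 2, nat_lit 3, nat_lit 2, nat_lit 1, nat_lit 3, nat_lit 2, nat_lit 3, nat_lit 2, nat_lit 1, nat_lit 3, nat_lit 2, nat_lit 3, nat_lit 2, nat_lit 1, nat_lit 3, nat_lit 2, nat_lit 3, nat_lit 2, nat_lit 1, nat_lit 4, nat_lit 3, nat_lit 2, nat_lit 3, nat_lit 2, nat_lit 1, nat_lit 3, nat_lit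 2, nat_lit 3, nat_lit 2, nat_lit 1, nat_lit 3, nat_lit 2, nat_lit 3, nat_lit 2, nat_lit 1, nat_lit 3, nat_lit 2, nat_lit 3, nat_lit 2, nat_lit 1, nat_lit 3, nat_lit 2, nat_lit 3, nat_lit 2, nat_lit 1, nat_lit 4, nat_lit 3, nat_lit 2, nat_lit 3]
def Wt_212_214 (j : ℕ) : List ℕ := bif Nat.blt j 213 then [nat_lit 63, nat_lit 1, nat_lit 3, nat_lit 2, nat_lit 3, nat_lit 2, nat_lit 1, nat_lit 3, nat_lit 2, nat_lit 3, nat_lit 2, nat_lit 1, nat_lit 3, nat_lit 2, nat_lit 3, nat_lit 2, nat_lit 1, nat_lit 4, nat_lit 3, nat_lit 2, nat_lit 3, nat_lit 2, nat_lit 1, nat_lit 3, nat_lit 2, nat_lit 3, nat_lit 2, nat_lit 1, nat_lit 3, nat_lit 2, nat_lit 3, nat_lit 2, nat_lit 1, nat_lit 3, nat_lit 2, nat_lit 3, nat_lit 2, nat_lit 1, nat_lit 3, nat_lit 2, nat_lit 3, nat_lit 2, nat_lit 1, nat_lit 4, nat_lit 3, nat_lit 2, nat_lit 3, nat_lit 2, nat_lit 1, nat_lit 3, nat_lit 2, nat_lit 3, nat_lit 2, nat_lit 1, nat_lit 3, nat_lit 2, nat_lit 3, nat_lit 2, nat_lit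 1, nat_lit 3, nat_lit 2, nat_lit 3, nat_lit 2, nat_lit 1, nat_lit 3, nat_lit 2, nat_lit 3, nat_lit 2, nat_lit 1, nat_lit 4, nat_lit 3, nat_lit 2, nat_lit 3, nat_lit 2, nat_lit 1, nat_lit 3, nat_lit 2, nat_lit 3, nat_lit 2] else [nat_lit 63, nat_lit 3, nat_lit 4, nat_lit 3, nat_lit 4, nat_lit 3, nat_lit 4]
def Wt_210_214 (j : ℕ) : List ℕ := bif Nat.blt j 212 then (Wt_210_212 j) else (Wt_212_214 j)
def Wt_214_216 (j : ℕ) : List ℕ := bif Nat.blt j 215 then [nat_lit 63, nat_lit 3, nat_lit 2, nat_lit 3, nat_lit 2, nat_lit 3, nat_lit 2, nat_lit 3, nat_lit 2, nat_lit 0] else [nat_lit 1, nat_lit 2, nat_lit 3, nat_lit 2, nat_lit 3, nat_lit 1, nat_lit 2, nat_lit 3, nat_lit 2, nat_lit 3, nat_lit 4, nat_lit 1, nat_lit 2, nat_lit 3, nat_lit 2, nat_lit 3, nat_lit 1, nat_lit 2, nat_lit 3, nat_lit 2, nat_lit 3, nat_lit 1, nat_lit 2, nat_lit 3, nat_lit 2, nat_lit 3, nat_lit 1, nat_lit 2, nat_lit 3, nat_lit 2, nat_lit 3, nat_lit 1, nat_lit 2, nat_lit 3,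 nat_lit 2, nat_lit 3, nat_lit 4, nat_lit 1, nat_lit 2, nat_lit 3, nat_lit 2, nat_lit 3, nat_lit 1, nat_lit 2, nat_lit 3, nat_lit 2, nat_lit 3, nat_lit 1, nat_lit 2, nat_lit 3, nat_lit 2, nat_lit 3, nat_lit 1, nat_lit 2, nat_lit 3, nat_lit 2, nat_lit 3, nat_lit 1, nat_lit 2, nat_lit 3, nat_lit 2, nat_lit 3, nat_lit 4, nat_lit 1, nat_lit 2, nat_lit 3, nat_lit 2, nat_lit 3, nat_lit 1, nat_lit 2, nat_lit 3, nat_lit 2, nat_lit 3, nat_lit 1, nat_lit 2, nat_lit 3, nat_lit 2, nat_lit 3]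
def Wt_216_218 (j : ℕ) : List ℕ := bif Nat.blt j 217 then [nat_lit 63, nat_lit 3, nat_lit 1, nat_lit 2, nat_lit 3, nat_lit 2, nat_lit 3, nat_lit 1, nat_lit 2, nat_lit 3, nat_lit 2, nat_lit 3, nat_lit 1, nat_lit 2, nat_lit 3, nat_lit 2, nat_lit 3, nat_lit 4, nat_lit 1, nat_lit 2, nat_lit 3, nat_lit 2, nat_lit 3, nat_lit 1, nat_lit 2, nat_lit 3, nat_lit 2, nat_lit 3, nat_lit 1, nat_lit 2, nat_lit 3, nat_lit 2, nat_lit 3, nat_lit 1, nat_lit 2, nat_lit 3, nat_lit 2, nat_lit 3, nat_lit 1, nat_lit 2, nat_lit 3, nat_lit 2, nat_lit 3, nat_lit 4, nat_lit 1, nat_lit 2, nat_lit 3, nat_lit 2, nat_lit 3, nat_lit 1, nat_lit 2, nat_lit 3, nat_lit 2, nat_lit 3, nat_lit 1, nat_lit 2, nat_lit 3, nat_lit 2, nat_lit 3, nat_lit 1, nat_lit 2, nat_lit 3, nat_lit 2, nat_lit 3, nat_lit 1, nat_lit 2, nat_lit 3, nat_lit 2, nat_lit 3, nat_lit 4, nat_lit 1, nat_lit 2, nat_lit 3, nat_lit 2, nat_lit 3, nat_lit 1, nat_lit 2, nat_lit 3, nat_lit 2] else [nat_lit 63, nat_lit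 0, nat_lit 5, nat_lit 2, nat_lit 1, nat_lit 0, nat_lit 5, nat_lit 2, nat_lit 1, nat_lit 0, nat_lit 5, nat_lit 2, nat_lit 1, nat_lit 0, nat_lit 5, nat_lit 2, nat_lit 1, nat_lit 0, nat_lit 5, nat_lit 2, nat_lit 1]
def Wt_214_218 (j : ℕ) : List ℕ := bif Nat.blt j 216 then (Wt_214_216 j) else (Wt_216_218 j)
def Wt_210_218 (j : ℕ) : List ℕ := bif Nat.blt j 214 then (Wt_210_214 j) else (Wt_214_218 j)
def Wt_218_220 (j : ℕ) : List ℕ := bif Nat.blt j 219 then [nat_lit 63, nat_lit 3, nat_lit 2, nat_lit 3, nat_lit 2, nat_lit 1, nat_lit 3, nat_lit 2, nat_lit 3, nat_lit 2, nat_lit 1, nat_lit 3, nat_lit 2, nat_lit 3, nat_lit 2, nat_lit 1, nat_lit 3, nat_lit 2, nat_lit 3, nat_lit 2, nat_lit 1, nat_lit 4, nat_lit 3, nat_lit 2, nat_lit 3, nat_lit 2, nat_lit 1, nat_lit 3, nat_lit 2, nat_lit 3, nat_lit 2, nat_lit 1, nat_lit 3, nat_lit 2, nat_lit 3, nat_lit 2, nat_lit 1, nat_lit 3, nat_lit 2, nat_lit 3, nat_lit 2, nat_lit 1, nat_lit 3, nat_lit 2, nat_lit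 3, nat_lit 2, nat_lit 1, nat_lit 4, nat_lit 3, nat_lit 2, nat_lit 3, nat_lit 2, nat_lit 1, nat_lit 3, nat_lit 2, nat_lit 3, nat_lit 2, nat_lit 1, nat_lit 3, nat_lit 2, nat_lit 3, nat_lit 2, nat_lit 1, nat_lit 3, nat_lit 2, nat_lit 3, nat_lit 2, nat_lit 1, nat_lit 3, nat_lit 2, nat_lit 3, nat_lit 2, nat_lit 1, nat_lit 4, nat_lit 3, nat_lit 2, nat_lit 3, nat_lit 2, nat_lit 1] else [nat_lit 3, nat_lit 1, nat_lit 2, nat_lit 3, nat_lit 2, nat_lit 3, nat_lit 1, nat_lit 2, nat_lit 3, nat_lit 2, nat_lit 3, nat_lit 1, nat_lit 2, nat_lit 3, nat_lit 2, nat_lit 3, nat_lit 1, nat_lit 2, nat_lit 3, nat_lit 2, nat_lit 3, nat_lit 4, nat_lit 1, nat_lit 2, nat_lit 3, nat_lit 2, nat_lit 3, nat_lit 1, nat_lit 2, nat_lit 3, nat_lit 2, nat_lit 3, nat_lit 1, nat_lit 2, nat_lit 3, nat_lit 2, nat_lit 3, nat_lit 1, nat_lit 2, nat_lit 3, nat_lit 2, nat_lit 3, nat_lit 1, nat_lit 2, nat_lit 3, nat_lit 2, nat_lit 3, nat_lit 4, nat_lit 1, nat_lit 2, nat_lit 3, nat_lit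 2, nat_lit 3, nat_lit 1, nat_lit 2, nat_lit 3, nat_lit 2, nat_lit 3, nat_lit 1, nat_lit 2, nat_lit 3, nat_lit 2, nat_lit 3, nat_lit 1, nat_lit 2, nat_lit 3, nat_lit 2, nat_lit 3, nat_lit 1, nat_lit 2, nat_lit 3, nat_lit 2, nat_lit 3, nat_lit 4, nat_lit 1, nat_lit 2, nat_lit 3, nat_lit 2]
def Wt_220_222 (j : ℕ) : List ℕ := bif Nat.blt j 221 then [nat_lit 3, nat_lit 2, nat_lit 3, nat_lit 2, nat_lit 1, nat_lit 3, nat_lit 2, nat_lit 3, nat_lit 2, nat_lit 1, nat_lit 3, nat_lit 2, nat_lit 3, nat_lit 2, nat_lit 1, nat_lit 3, nat_lit 2, nat_lit 3, nat_lit 2, nat_lit 1, nat_lit 3, nat_lit 2, nat_lit 3, nat_lit 2, nat_lit 1, nat_lit 4, nat_lit 3, nat_lit 2, nat_lit 3, nat_lit 2, nat_lit 1, nat_lit 3, nat_lit 2, nat_lit 3, nat_lit 2, nat_lit 1, nat_lit 3, nat_lit 2, nat_lit 3, nat_lit 2, nat_lit 1, nat_lit 3, nat_lit 2, nat_lit 3, nat_lit 2, nat_lit 1, nat_lit 3, nat_lit 2, nat_lit 3, nat_lit 2, nat_lit 1, nat_lit 4, nat_lit 3, nat_lit 2, nat_lit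 3, nat_lit 2, nat_lit 1, nat_lit 3, nat_lit 2, nat_lit 3, nat_lit 2, nat_lit 1, nat_lit 3, nat_lit 2, nat_lit 3, nat_lit 2, nat_lit 1, nat_lit 3, nat_lit 2, nat_lit 3, nat_lit 2, nat_lit 1, nat_lit 3, nat_lit 2, nat_lit 3, nat_lit 2, nat_lit 1, nat_lit 4] else [nat_lit 1, nat_lit 2, nat_lit 3, nat_lit 2, nat_lit 3, nat_lit 1, nat_lit 2, nat_lit 3, nat_lit 2, nat_lit 3, nat_lit 1, nat_lit 2, nat_lit 3, nat_lit 2, nat_lit 3, nat_lit 1, nat_lit 2, nat_lit 3, nat_lit 2, nat_lit 3, nat_lit 1, nat_lit 2, nat_lit 3, nat_lit 2, nat_lit 3, nat_lit 4, nat_lit 1, nat_lit 2, nat_lit 3, nat_lit 2, nat_lit 3, nat_lit 1, nat_lit 2, nat_lit 3, nat_lit 2, nat_lit 3, nat_lit 1, nat_lit 2, nat_lit 3, nat_lit 2, nat_lit 3, nat_lit 1, nat_lit 2, nat_lit 3, nat_lit 2, nat_lit 3, nat_lit 1, nat_lit 2, nat_lit 3, nat_lit 2, nat_lit 3, nat_lit 4, nat_lit 1, nat_lit 2, nat_lit 3, nat_lit 2, nat_lit 3, nat_lit 1, nat_lit 2, nat_lit 3, nat_lit 2, nat_lit 3, nat_lit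 1, nat_lit 2, nat_lit 3, nat_lit 2, nat_lit 3, nat_lit 1, nat_lit 2, nat_lit 3, nat_lit 2, nat_lit 3, nat_lit 1, nat_lit 2, nat_lit 3, nat_lit 2, nat_lit 3, nat_lit 4]
def Wt_218_222 (j : ℕ) : List ℕ := bif Nat.blt j 220 then (Wt_218_220 j) else (Wt_220_222 j)
def Wt_222_224 (j : ℕ) : List ℕ := bif Nat.blt j 223 then [nat_lit 63, nat_lit 3, nat_lit 2, nat_lit 3, nat_lit 1, nat_lit 2, nat_lit 3, nat_lit 2, nat_lit 3, nat_lit 1, nat_lit 2, nat_lit 3, nat_lit 2, nat_lit 3, nat_lit 1, nat_lit 2, nat_lit 3, nat_lit 2, nat_lit 3, nat_lit 4, nat_lit 1, nat_lit 2, nat_lit 3, nat_lit 2, nat_lit 3, nat_lit 1, nat_lit 2, nat_lit 3, nat_lit 2, nat_lit 3, nat_lit 1, nat_lit 2, nat_lit 3, nat_lit 2, nat_lit 3, nat_lit 1, nat_lit 2, nat_lit 3, nat_lit 2, nat_lit 3, nat_lit 1, nat_lit 2, nat_lit 3, nat_lit 2, nat_lit 3, nat_lit 4, nat_lit 1, nat_lit 2, nat_lit 3, nat_lit 2, nat_lit 3, nat_lit 1, nat_lit 2, nat_lit 3, nat_lit 2, nat_lit 3, nat_lit 1, nat_lit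 2, nat_lit 3, nat_lit 2, nat_lit 3, nat_lit 1, nat_lit 2, nat_lit 3, nat_lit 2, nat_lit 3, nat_lit 1, nat_lit 2, nat_lit 3, nat_lit 2, nat_lit 3, nat_lit 4, nat_lit 1, nat_lit 2, nat_lit 3, nat_lit 2, nat_lit 3, nat_lit 1, nat_lit 2] else [nat_lit 2, nat_lit 3, nat_lit 2, nat_lit 3, nat_lit 1, nat_lit 2, nat_lit 3, nat_lit 2, nat_lit 3, nat_lit 1, nat_lit 2, nat_lit 3, nat_lit 2, nat_lit 3, nat_lit 1, nat_lit 2, nat_lit 3, nat_lit 2, nat_lit 3, nat_lit 1, nat_lit 2, nat_lit 3, nat_lit 2, nat_lit 3, nat_lit 4, nat_lit 1, nat_lit 2, nat_lit 3, nat_lit 2, nat_lit 3, nat_lit 1, nat_lit 2, nat_lit 3, nat_lit 2, nat_lit 3, nat_lit 1, nat_lit 2, nat_lit 3, nat_lit 2, nat_lit 3, nat_lit 1, nat_lit 2, nat_lit 3, nat_lit 2, nat_lit 3, nat_lit 1, nat_lit 2, nat_lit 3, nat_lit 2, nat_lit 3, nat_lit 4, nat_lit 1, nat_lit 2, nat_lit 3, nat_lit 2, nat_lit 3, nat_lit 1, nat_lit 2, nat_lit 3, nat_lit 2, nat_lit 3, nat_lit 1, nat_lit 2, nat_lit 3, nat_lit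 2, nat_lit 3, nat_lit 1, nat_lit 2, nat_lit 3, nat_lit 2, nat_lit 3, nat_lit 1, nat_lit 2, nat_lit 3, nat_lit 2, nat_lit 3, nat_lit 4, nat_lit 1]
def Wt_225_227 (j : ℕ) : List ℕ := bif Nat.blt j 226 then [nat_lit 63, nat_lit 2, nat_lit 0, nat_lit 3, nat_lit 2, nat_lit 3, nat_lit 2, nat_lit 3, nat_lit 2, nat_lit 3] else [nat_lit 63, nat_lit 6, nat_lit 63, nat_lit 6, nat_lit 63]
def Wt_224_227 (j : ℕ) : List ℕ := bif Nat.blt j 225 then [nat_lit 2, nat_lit 1, nat_lit 3, nat_lit 2, nat_lit 3, nat_lit 2, nat_lit 1, nat_lit 3, nat_lit 2, nat_lit 3, nat_lit 2, nat_lit 1, nat_lit 3, nat_lit 2, nat_lit 3, nat_lit 2, nat_lit 1, nat_lit 4, nat_lit 3, nat_lit 2, nat_lit 3, nat_lit 2, nat_lit 1, nat_lit 3, nat_lit 2, nat_lit 3, nat_lit 2, nat_lit 1, nat_lit 3, nat_lit 2, nat_lit 3, nat_lit 2, nat_lit 1, nat_lit 3, nat_lit 2, nat_lit 3, nat_lit 2, nat_lit 1, nat_lit 3, nat_lit 2, nat_lit 3, nat_lit 2, nat_lit 1, nat_lit 4, nat_lit 3, nat_lit 2, nat_lit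 3, nat_lit 2, nat_lit 1, nat_lit 3, nat_lit 2, nat_lit 3, nat_lit 2, nat_lit 1, nat_lit 3, nat_lit 2, nat_lit 3, nat_lit 2, nat_lit 1, nat_lit 3, nat_lit 2, nat_lit 3, nat_lit 2, nat_lit 1, nat_lit 3, nat_lit 2, nat_lit 3, nat_lit 2, nat_lit 1, nat_lit 4, nat_lit 3, nat_lit 2, nat_lit 3, nat_lit 2, nat_lit 1, nat_lit 3, nat_lit 2, nat_lit 3] else (Wt_225_227 j)
def Wt_222_227 (j : ℕ) : List ℕ := bif Nat.blt j 224 then (Wt_222_224 j) else (Wt_224_227 j)
def Wt_218_227 (j : ℕ) : List ℕ := bif Nat.blt j 222 then (Wt_218_222 j) else (Wt_222_227 j)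
def Wt_210_227 (j : ℕ) : List ℕ := bif Nat.blt j 218 then (Wt_210_218 j) else (Wt_218_227 j)
def Wt_227_229 (j : ℕ) : List ℕ := bif Nat.blt j 228 then [nat_lit 63, nat_lit 63, nat_lit 6, nat_lit 63, nat_lit 6] else [nat_lit 63, nat_lit 63, nat_lit 5, nat_lit 63, nat_lit 5, nat_lit 63]
def Wt_229_231 (j : ℕ) : List ℕ := bif Nat.blt j 230 then [nat_lit 63, nat_lit 63, nat_lit 1, nat_lit 63, nat_lit 1, nat_lit 63] else [nat_lit 63, nat_lit 63, nat_lit 63, nat_lit 63]
def Wt_227_231 (j : ℕ) : List ℕ := bif Nat.blt j 229 then (Wt_227_229 j) else (Wt_229_231 j)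
def Wt_231_233 (j : ℕ) : List ℕ := bif Nat.blt j 232 then [nat_lit 6, nat_lit 63, nat_lit 6, nat_lit 63] else [nat_lit 63, nat_lit 63, nat_lit 0, nat_lit 63, nat_lit 0, nat_lit 63]
def Wt_234_236 (j : ℕ) : List ℕ := bif Nat.blt j 235 then [nat_lit 63, nat_lit 0, nat_lit 6, nat_lit 0, nat_lit 6] else [nat_lit 63, nat_lit 6, nat_lit 5, nat_lit 6, nat_lit 5, nat_lit 6, nat_lit 5, nat_lit 6, nat_lit 5]
def Wt_233_236 (j : ℕ) : List ℕ := bif Nat.blt j 234 then [nat_lit 3, nat_lit 2, nat_lit 3, nat_lit 2, nat_lit 3, nat_lit 2, nat_lit 0, nat_lit 3, nat_lit 2] else (Wt_234_236 j)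
def Wt_231_236 (j : ℕ) : List ℕ := bif Nat.blt j 233 then (Wt_231_233 j) else (Wt_233_236 j)
def Wt_227_236 (j : ℕ) : List ℕ := bif Nat.blt j 231 then (Wt_227_231 j) else (Wt_231_236 j)
def Wt_236_238 (j : ℕ) : List ℕ := bif Nat.blt j 237 then [nat_lit 63, nat_lit 5, nat_lit 6, nat_lit 5, nat_lit 6, nat_lit 0] else [nat_lit 63, nat_lit 6, nat_lit 5, nat_lit 0, nat_lit 6, nat_lit 5]
def Wt_238_240 (j : ℕ) : List ℕ := bif Nat.blt j 239 then [nat_lit 63, nat_lit 4, nat_lit 6, nat_lit 4, nat_lit 6] else [nat_lit 63, nat_lit 2, nat_lit 3, nat_lit 2, nat_lit 1, nat_lit 3, nat_lit 2, nat_lit 3, nat_lit 2, nat_lit 1, nat_lit 3, nat_lit 2, nat_lit 3, nat_lit 2, nat_lit 1, nat_lit 4, nat_lit 3, nat_lit 2, nat_lit 3, nat_lit 2, nat_lit 1, nat_lit 3, nat_lit 2, nat_lit 3, nat_lit 2, nat_lit 1, nat_lit 3, nat_lit 2, nat_lit 3, nat_lit 2, nat_lit 1, nat_lit 3, nat_lit 2, nat_lit 3, nat_lit 2, nat_lit 1, nat_lit 3, nat_lit 2, nat_lit 3, nat_lit 2, nat_lit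 1, nat_lit 4, nat_lit 3, nat_lit 2, nat_lit 3, nat_lit 2, nat_lit 1, nat_lit 3, nat_lit 2, nat_lit 3, nat_lit 2, nat_lit 1, nat_lit 3, nat_lit 2, nat_lit 3, nat_lit 2, nat_lit 1, nat_lit 3, nat_lit 2, nat_lit 3, nat_lit 2, nat_lit 1, nat_lit 3, nat_lit 2, nat_lit 3, nat_lit 2, nat_lit 1, nat_lit 4, nat_lit 3, nat_lit 2, nat_lit 3, nat_lit 2, nat_lit 1, nat_lit 3, nat_lit 2, nat_lit 3, nat_lit 2, nat_lit 1, nat_lit 3]
def Wt_236_240 (j : ℕ) : List ℕ := bif Nat.blt j 238 then (Wt_236_238 j) else (Wt_238_240 j)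
def Wt_240_242 (j : ℕ) : List ℕ := bif Nat.blt j 241 then [nat_lit 63, nat_lit 2, nat_lit 3, nat_lit 2, nat_lit 3, nat_lit 1, nat_lit 2, nat_lit 3, nat_lit 2, nat_lit 3, nat_lit 1, nat_lit 2, nat_lit 3, nat_lit 2, nat_lit 3, nat_lit 1, nat_lit 2, nat_lit 3, nat_lit 2, nat_lit 3, nat_lit 4, nat_lit 1, nat_lit 2, nat_lit 3, nat_lit 2, nat_lit 3, nat_lit 1, nat_lit 2, nat_lit 3, nat_lit 2, nat_lit 3, nat_lit 1, nat_lit 2, nat_lit 3, nat_lit 2, nat_lit 3, nat_lit 1, nat_lit 2, nat_lit 3, nat_lit 2, nat_lit 3, nat_lit 1, nat_lit 2, nat_lit 3, nat_lit 2, nat_lit 3, nat_lit 4, nat_lit 1, nat_lit 2, nat_lit 3, nat_lit 2, nat_lit 3, nat_lit 1, nat_lit 2, nat_lit 3, nat_lit 2, nat_lit 3, nat_lit 1, nat_lit 2, nat_lit 3, nat_lit 2, nat_lit 3, nat_lit 1, nat_lit 2, nat_lit 3, nat_lit 2, nat_lit 3, nat_lit 1, nat_lit 2, nat_lit 3, nat_lit 2, nat_lit 3, nat_lit 4, nat_lit 1, nat_lit 2, nat_lit 3, nat_lit 2, nat_lit 3, nat_lit 1] else [nat_lit 63, nat_lit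 3, nat_lit 1, nat_lit 2, nat_lit 3, nat_lit 2, nat_lit 3, nat_lit 4, nat_lit 1, nat_lit 2, nat_lit 3, nat_lit 2, nat_lit 3, nat_lit 1, nat_lit 2, nat_lit 3, nat_lit 2, nat_lit 3, nat_lit 1, nat_lit 2, nat_lit 3, nat_lit 2, nat_lit 3, nat_lit 1, nat_lit 2, nat_lit 3, nat_lit 2, nat_lit 3, nat_lit 1, nat_lit 2, nat_lit 3, nat_lit 2, nat_lit 3, nat_lit 4, nat_lit 1, nat_lit 2, nat_lit 3, nat_lit 2, nat_lit 3, nat_lit 1, nat_lit 2, nat_lit 3, nat_lit 2, nat_lit 3, nat_lit 1, nat_lit 2, nat_lit 3, nat_lit 2, nat_lit 3, nat_lit 1, nat_lit 2, nat_lit 3, nat_lit 2, nat_lit 3, nat_lit 1, nat_lit 2, nat_lit 3, nat_lit 2, nat_lit 3, nat_lit 4, nat_lit 1, nat_lit 2, nat_lit 3, nat_lit 2, nat_lit 3, nat_lit 1, nat_lit 2, nat_lit 3, nat_lit 2, nat_lit 3, nat_lit 1, nat_lit 2, nat_lit 3, nat_lit 2, nat_lit 3, nat_lit 1, nat_lit 2, nat_lit 3, nat_lit 2]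
def Wt_243_245 (j : ℕ) : List ℕ := bif Nat.blt j 244 then [nat_lit 63, nat_lit 4, nat_lit 3, nat_lit 2, nat_lit 3, nat_lit 2, nat_lit 1, nat_lit 3, nat_lit 2, nat_lit 3, nat_lit 2, nat_lit 1, nat_lit 3, nat_lit 2, nat_lit 3, nat_lit 2, nat_lit 1, nat_lit 3, nat_lit 2, nat_lit 3, nat_lit 2, nat_lit 1, nat_lit 3, nat_lit 2, nat_lit 3, nat_lit 2, nat_lit 1, nat_lit 4, nat_lit 3, nat_lit 2, nat_lit 3, nat_lit 2, nat_lit 1, nat_lit 3, nat_lit 2, nat_lit 3, nat_lit 2, nat_lit 1, nat_lit 3, nat_lit 2, nat_lit 3, nat_lit 2, nat_lit 1, nat_lit 3, nat_lit 2, nat_lit 3, nat_lit 2, nat_lit 1, nat_lit 3, nat_lit 2, nat_lit 3, nat_lit 2, nat_lit 1, nat_lit 4, nat_lit 3, nat_lit 2, nat_lit 3, nat_lit 2, nat_lit 1, nat_lit 3, nat_lit 2, nat_lit 3, nat_lit 2, nat_lit 1, nat_lit 3, nat_lit 2, nat_lit 3, nat_lit 2, nat_lit 1, nat_lit 3, nat_lit 2, nat_lit 3, nat_lit 2, nat_lit 1, nat_lit 3, nat_lit 2, nat_lit 3, nat_lit 2, nat_lit 1] else [nat_lit 63, nat_lit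 6, nat_lit 0, nat_lit 5, nat_lit 6, nat_lit 5]
def Wt_242_245 (j : ℕ) : List ℕ := bif Nat.blt j 243 then [nat_lit 63, nat_lit 1, nat_lit 3, nat_lit 2, nat_lit 3, nat_lit 2, nat_lit 1, nat_lit 4, nat_lit 3, nat_lit 2, nat_lit 3, nat_lit 2, nat_lit 1, nat_lit 3, nat_lit 2, nat_lit 3, nat_lit 2, nat_lit 1, nat_lit 3, nat_lit 2, nat_lit 3, nat_lit 2, nat_lit 1, nat_lit 3, nat_lit 2, nat_lit 3, nat_lit 2, nat_lit 1, nat_lit 3, nat_lit 2, nat_lit 3, nat_lit 2, nat_lit 1, nat_lit 4, nat_lit 3, nat_lit 2, nat_lit 3, nat_lit 2, nat_lit 1, nat_lit 3, nat_lit 2, nat_lit 3, nat_lit 2, nat_lit 1, nat_lit 3, nat_lit 2, nat_lit 3, nat_lit 2, nat_lit 1, nat_lit 3, nat_lit 2, nat_lit 3, nat_lit 2, nat_lit 1, nat_lit 3, nat_lit 2, nat_lit 3, nat_lit 2, nat_lit 1, nat_lit 4, nat_lit 3, nat_lit 2, nat_lit 3, nat_lit 2, nat_lit 1, nat_lit 3, nat_lit 2, nat_lit 3, nat_lit 2, nat_lit 1, nat_lit 3, nat_lit 2, nat_lit 3, nat_lit 2, nat_lit 1, nat_lit 3, nat_lit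 2, nat_lit 3, nat_lit 2] else (Wt_243_245 j)
def Wt_240_245 (j : ℕ) : List ℕ := bif Nat.blt j 242 then (Wt_240_242 j) else (Wt_242_245 j)
def Wt_236_245 (j : ℕ) : List ℕ := bif Nat.blt j 240 then (Wt_236_240 j) else (Wt_240_245 j)
def Wt_227_245 (j : ℕ) : List ℕ := bif Nat.blt j 236 then (Wt_227_236 j) else (Wt_236_245 j)
def Wt_210_245 (j : ℕ) : List ℕ := bif Nat.blt j 227 then (Wt_210_227 j) else (Wt_227_245 j)
def Wt_245_247 (j : ℕ) : List ℕ := bif Nat.blt j 246 then [nat_lit 63, nat_lit 3, nat_lit 2, nat_lit 3, nat_lit 1, nat_lit 2, nat_lit 3, nat_lit 2, nat_lit 3, nat_lit 1, nat_lit 2, nat_lit 3, nat_lit 2, nat_lit 3, nat_lit 1, nat_lit 2, nat_lit 3, nat_lit 2, nat_lit 3, nat_lit 1, nat_lit 2, nat_lit 3, nat_lit 2, nat_lit 3, nat_lit 4, nat_lit 1, nat_lit 2, nat_lit 3, nat_lit 2, nat_lit 3, nat_lit 1, nat_lit 2, nat_lit 3, nat_lit 2, nat_lit 3, nat_lit 1, nat_lit 2, nat_lit 3, nat_lit 2, nat_lit 3, nat_lit 1, nat_lit 2, nat_lit 3,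 nat_lit 2, nat_lit 3, nat_lit 1, nat_lit 2, nat_lit 3, nat_lit 2, nat_lit 3, nat_lit 4, nat_lit 1, nat_lit 2, nat_lit 3, nat_lit 2, nat_lit 3, nat_lit 1, nat_lit 2, nat_lit 3, nat_lit 2, nat_lit 3, nat_lit 1, nat_lit 2, nat_lit 3, nat_lit 2, nat_lit 3, nat_lit 1, nat_lit 2, nat_lit 3, nat_lit 2, nat_lit 3, nat_lit 1, nat_lit 2, nat_lit 3, nat_lit 2, nat_lit 3, nat_lit 4, nat_lit 1, nat_lit 2] else [nat_lit 3, nat_lit 4, nat_lit 1, nat_lit 2, nat_lit 3, nat_lit 2, nat_lit 3, nat_lit 1, nat_lit 2, nat_lit 3, nat_lit 2, nat_lit 3, nat_lit 1, nat_lit 2, nat_lit 3, nat_lit 2, nat_lit 3, nat_lit 1, nat_lit 2, nat_lit 3, nat_lit 2, nat_lit 3, nat_lit 1, nat_lit 2, nat_lit 3, nat_lit 2, nat_lit 3, nat_lit 4, nat_lit 1, nat_lit 2, nat_lit 3, nat_lit 2, nat_lit 3, nat_lit 1, nat_lit 2, nat_lit 3, nat_lit 2, nat_lit 3, nat_lit 1, nat_lit 2, nat_lit 3, nat_lit 2, nat_lit 3, nat_lit 1, nat_lit 2, nat_lit 3, nat_lit 2, nat_lit 3, nat_lit 1, nat_lit 2,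 nat_lit 3, nat_lit 2, nat_lit 3, nat_lit 4, nat_lit 1, nat_lit 2, nat_lit 3, nat_lit 2, nat_lit 3, nat_lit 1, nat_lit 2, nat_lit 3, nat_lit 2, nat_lit 3, nat_lit 1, nat_lit 2, nat_lit 3, nat_lit 2, nat_lit 3, nat_lit 1, nat_lit 2, nat_lit 3, nat_lit 2, nat_lit 3, nat_lit 1, nat_lit 2, nat_lit 3, nat_lit 2]
def Wt_247_249 (j : ℕ) : List ℕ := bif Nat.blt j 248 then [nat_lit 63, nat_lit 1, nat_lit 4, nat_lit 3, nat_lit 2, nat_lit 3, nat_lit 2, nat_lit 1, nat_lit 3, nat_lit 2, nat_lit 3, nat_lit 2, nat_lit 1, nat_lit 3, nat_lit 2, nat_lit 3, nat_lit 2, nat_lit 1, nat_lit 3, nat_lit 2, nat_lit 3, nat_lit 2, nat_lit 1, nat_lit 3, nat_lit 2, nat_lit 3, nat_lit 2, nat_lit 1, nat_lit 4, nat_lit 3, nat_lit 2, nat_lit 3, nat_lit 2, nat_lit 1, nat_lit 3, nat_lit 2, nat_lit 3, nat_lit 2, nat_lit 1, nat_lit 3, nat_lit 2, nat_lit 3, nat_lit 2, nat_lit 1, nat_lit 3, nat_lit 2, nat_lit 3, nat_lit 2, nat_lit 1, nat_lit 3, nat_lit 2, nat_lit 3, nat_lit 2,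 nat_lit 1, nat_lit 4, nat_lit 3, nat_lit 2, nat_lit 3, nat_lit 2, nat_lit 1, nat_lit 3, nat_lit 2, nat_lit 3, nat_lit 2, nat_lit 1, nat_lit 3, nat_lit 2, nat_lit 3, nat_lit 2, nat_lit 1, nat_lit 3, nat_lit 2, nat_lit 3, nat_lit 2, nat_lit 1, nat_lit 3, nat_lit 2, nat_lit 3, nat_lit 2] else [nat_lit 63, nat_lit 2, nat_lit 3, nat_lit 2, nat_lit 3, nat_lit 2, nat_lit 3, nat_lit 2, nat_lit 0, nat_lit 3]
def Wt_245_249 (j : ℕ) : List ℕ := bif Nat.blt j 247 then (Wt_245_247 j) else (Wt_247_249 j)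
def Wt_249_251 (j : ℕ) : List ℕ := bif Nat.blt j 250 then [nat_lit 63, nat_lit 3, nat_lit 1, nat_lit 2, nat_lit 3, nat_lit 2, nat_lit 3, nat_lit 1, nat_lit 2, nat_lit 3, nat_lit 2, nat_lit 3, nat_lit 4, nat_lit 1, nat_lit 2, nat_lit 3, nat_lit 2, nat_lit 3, nat_lit 1, nat_lit 2, nat_lit 3, nat_lit 2, nat_lit 3, nat_lit 1, nat_lit 2, nat_lit 3, nat_lit 2, nat_lit 3, nat_lit 1, nat_lit 2, nat_lit 3, nat_lit 2, nat_lit 3, nat_lit 1, nat_lit 2, nat_lit 3, nat_lit 2, nat_lit 3, nat_lit 4, nat_lit 1, nat_lit 2, nat_lit 3, nat_lit 2, nat_lit 3, nat_lit 1, nat_lit 2, nat_lit 3, nat_lit 2, nat_lit 3, nat_lit 1, nat_lit 2, nat_lit 3, nat_lit 2, nat_lit 3, nat_lit 1, nat_lit 2, nat_lit 3, nat_lit 2, nat_lit 3, nat_lit 1, nat_lit 2, nat_lit 3, nat_lit 2, nat_lit 3, nat_lit 4, nat_lit 1, nat_lit 2, nat_lit 3, nat_lit 2, nat_lit 3, nat_lit 1, nat_lit 2, nat_lit 3, nat_lit 2, nat_lit 3, nat_lit 1, nat_lit 2, nat_lit 3, nat_lit 2] else [nat_lit 63, nat_lit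 3, nat_lit 2, nat_lit 1, nat_lit 3, nat_lit 2, nat_lit 3, nat_lit 2, nat_lit 1, nat_lit 3, nat_lit 2, nat_lit 3, nat_lit 2, nat_lit 1, nat_lit 3, nat_lit 2, nat_lit 3, nat_lit 2, nat_lit 1, nat_lit 3, nat_lit 2, nat_lit 3, nat_lit 2, nat_lit 1, nat_lit 4, nat_lit 3, nat_lit 2, nat_lit 3, nat_lit 2, nat_lit 1, nat_lit 3, nat_lit 2, nat_lit 3, nat_lit 2, nat_lit 1, nat_lit 3, nat_lit 2, nat_lit 3, nat_lit 2, nat_lit 1, nat_lit 3, nat_lit 2, nat_lit 3, nat_lit 2, nat_lit 1, nat_lit 3, nat_lit 2, nat_lit 3, nat_lit 2, nat_lit 1, nat_lit 4, nat_lit 3, nat_lit 2, nat_lit 3, nat_lit 2, nat_lit 1, nat_lit 3, nat_lit 2, nat_lit 3, nat_lit 2, nat_lit 1, nat_lit 3, nat_lit 2, nat_lit 3, nat_lit 2, nat_lit 1, nat_lit 3, nat_lit 2, nat_lit 3, nat_lit 2, nat_lit 1, nat_lit 3, nat_lit 2, nat_lit 3, nat_lit 2, nat_lit 1, nat_lit 4, nat_lit 3, nat_lit 2]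
def Wt_251_253 (j : ℕ) : List ℕ := bif Nat.blt j 252 then [nat_lit 2, nat_lit 3, nat_lit 2, nat_lit 3, nat_lit 1, nat_lit 2, nat_lit 3, nat_lit 2, nat_lit 3, nat_lit 1, nat_lit 2, nat_lit 3, nat_lit 2, nat_lit 3, nat_lit 4, nat_lit 1, nat_lit 2, nat_lit 3, nat_lit 2, nat_lit 3, nat_lit 1, nat_lit 2, nat_lit 3, nat_lit 2, nat_lit 3, nat_lit 1, nat_lit 2, nat_lit 3, nat_lit 2, nat_lit 3, nat_lit 1, nat_lit 2, nat_lit 3, nat_lit 2, nat_lit 3, nat_lit 1, nat_lit 2, nat_lit 3, nat_lit 2, nat_lit 3, nat_lit 4, nat_lit 1, nat_lit 2, nat_lit 3, nat_lit 2, nat_lit 3, nat_lit 1, nat_lit 2, nat_lit 3, nat_lit 2, nat_lit 3, nat_lit 1, nat_lit 2, nat_lit 3, nat_lit 2, nat_lit 3, nat_lit 1, nat_lit 2, nat_lit 3, nat_lit 2, nat_lit 3, nat_lit 1, nat_lit 2, nat_lit 3, nat_lit 2, nat_lit 3, nat_lit 4, nat_lit 1, nat_lit 2, nat_lit 3, nat_lit 2, nat_lit 3, nat_lit 1, nat_lit 2, nat_lit 3, nat_lit 2, nat_lit 3, nat_lit 1] else [nat_lit 63, nat_lit 3, nat_lit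 2, nat_lit 3, nat_lit 2, nat_lit 1, nat_lit 4, nat_lit 3, nat_lit 2, nat_lit 3, nat_lit 2, nat_lit 1, nat_lit 3, nat_lit 2, nat_lit 3, nat_lit 2, nat_lit 1, nat_lit 3, nat_lit 2, nat_lit 3, nat_lit 2, nat_lit 1, nat_lit 3, nat_lit 2, nat_lit 3, nat_lit 2, nat_lit 1, nat_lit 3, nat_lit 2, nat_lit 3, nat_lit 2, nat_lit 1, nat_lit 4, nat_lit 3, nat_lit 2, nat_lit 3, nat_lit 2, nat_lit 1, nat_lit 3, nat_lit 2, nat_lit 3, nat_lit 2, nat_lit 1, nat_lit 3, nat_lit 2, nat_lit 3, nat_lit 2, nat_lit 1, nat_lit 3, nat_lit 2, nat_lit 3, nat_lit 2, nat_lit 1, nat_lit 3, nat_lit 2, nat_lit 3, nat_lit 2, nat_lit 1, nat_lit 4, nat_lit 3, nat_lit 2, nat_lit 3, nat_lit 2, nat_lit 1, nat_lit 3, nat_lit 2, nat_lit 3, nat_lit 2, nat_lit 1, nat_lit 3, nat_lit 2, nat_lit 3, nat_lit 2, nat_lit 1, nat_lit 3, nat_lit 2, nat_lit 3, nat_lit 2, nat_lit 1]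
def Wt_249_253 (j : ℕ) : List ℕ := bif Nat.blt j 251 then (Wt_249_251 j) else (Wt_251_253 j)
def Wt_245_253 (j : ℕ) : List ℕ := bif Nat.blt j 249 then (Wt_245_249 j) else (Wt_249_253 j)
def Wt_253_255 (j : ℕ) : List ℕ := bif Nat.blt j 254 then [nat_lit 63, nat_lit 6, nat_lit 0, nat_lit 6, nat_lit 0] else [nat_lit 63, nat_lit 2, nat_lit 3, nat_lit 2, nat_lit 3, nat_lit 1, nat_lit 2, nat_lit 3, nat_lit 2, nat_lit 3, nat_lit 4, nat_lit 1, nat_lit 2, nat_lit 3, nat_lit 2, nat_lit 3, nat_lit 1, nat_lit 2, nat_lit 3, nat_lit 2, nat_lit 3, nat_lit 1, nat_lit 2, nat_lit 3, nat_lit 2, nat_lit 3, nat_lit 1, nat_lit 2, nat_lit 3, nat_lit 2, nat_lit 3, nat_lit 1, nat_lit 2, nat_lit 3, nat_lit 2, nat_lit 3, nat_lit 4, nat_lit 1, nat_lit 2, nat_lit 3, nat_lit 2, nat_lit 3, nat_lit 1, nat_lit 2, nat_lit 3, nat_lit 2, nat_lit 3, nat_lit 1, nat_lit 2, nat_lit 3, nat_lit 2, nat_lit 3, nat_lit 1, nat_lit 2, nat_lit 3, nat_lit 2, nat_lit 3, nat_lit 1, nat_lit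 2, nat_lit 3, nat_lit 2, nat_lit 3, nat_lit 4, nat_lit 1, nat_lit 2, nat_lit 3, nat_lit 2, nat_lit 3, nat_lit 1, nat_lit 2, nat_lit 3, nat_lit 2, nat_lit 3, nat_lit 1, nat_lit 2, nat_lit 3, nat_lit 2, nat_lit 3, nat_lit 1]
def Wt_255_257 (j : ℕ) : List ℕ := bif Nat.blt j 256 then [nat_lit 63, nat_lit 0, nat_lit 6, nat_lit 5, nat_lit 6, nat_lit 5] else [nat_lit 63, nat_lit 5, nat_lit 6, nat_lit 1, nat_lit 5, nat_lit 6, nat_lit 1, nat_lit 5, nat_lit 6, nat_lit 1, nat_lit 5, nat_lit 6, nat_lit 1, nat_lit 5, nat_lit 6, nat_lit 1]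
def Wt_253_257 (j : ℕ) : List ℕ := bif Nat.blt j 255 then (Wt_253_255 j) else (Wt_255_257 j)
def Wt_257_259 (j : ℕ) : List ℕ := bif Nat.blt j 258 then [nat_lit 63, nat_lit 2, nat_lit 1, nat_lit 0, nat_lit 5, nat_lit 2, nat_lit 1, nat_lit 0, nat_lit 5, nat_lit 2, nat_lit 1, nat_lit 0, nat_lit 5, nat_lit 2, nat_lit 1, nat_lit 0, nat_lit 5, nat_lit 2, nat_lit 1, nat_lit 0, nat_lit 5] else [nat_lit 63, nat_lit 2, nat_lit 1, nat_lit 3, nat_lit 2, nat_lit 3, nat_lit 2, nat_lit 1, nat_lit 4, nat_lit 3, nat_lit 2, nat_lit 3, nat_lit 2, nat_lit 1, nat_lit 3, nat_lit 2, nat_lit 3, nat_lit 2, nat_lit 1, nat_lit 3, nat_lit 2, nat_lit 3, nat_lit 2, nat_lit 1, nat_lit 3, nat_lit 2, nat_lit 3, nat_lit 2, nat_lit 1, nat_lit 3, nat_lit 2, nat_lit 3, nat_lit 2, nat_lit 1, nat_lit 4, nat_lit 3, nat_lit 2, nat_lit 3, nat_lit 2, nat_lit 1, nat_lit 3, nat_lit 2, nat_lit 3, nat_lit 2, nat_lit 1, nat_lit 3, nat_lit 2, nat_lit 3, nat_lit 2, nat_lit 1, nat_lit 3,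 nat_lit 2, nat_lit 3, nat_lit 2, nat_lit 1, nat_lit 3, nat_lit 2, nat_lit 3, nat_lit 2, nat_lit 1, nat_lit 4, nat_lit 3, nat_lit 2, nat_lit 3, nat_lit 2, nat_lit 1, nat_lit 3, nat_lit 2, nat_lit 3, nat_lit 2, nat_lit 1, nat_lit 3, nat_lit 2, nat_lit 3, nat_lit 2, nat_lit 1, nat_lit 3, nat_lit 2, nat_lit 3]
def Wt_260_262 (j : ℕ) : List ℕ := bif Nat.blt j 261 then [nat_lit 1, nat_lit 2, nat_lit 5, nat_lit 0, nat_lit 1, nat_lit 2, nat_lit 5, nat_lit 0, nat_lit 1, nat_lit 2, nat_lit 5, nat_lit 0, nat_lit 1, nat_lit 2, nat_lit 5, nat_lit 0, nat_lit 1, nat_lit 2, nat_lit 5, nat_lit 0] else [nat_lit 63, nat_lit 1, nat_lit 2, nat_lit 3, nat_lit 2, nat_lit 3, nat_lit 1, nat_lit 2, nat_lit 3, nat_lit 2, nat_lit 3, nat_lit 1, nat_lit 2, nat_lit 3, nat_lit 2, nat_lit 3, nat_lit 4, nat_lit 1, nat_lit 2, nat_lit 3, nat_lit 2, nat_lit 3, nat_lit 1, nat_lit 2, nat_lit 3, nat_lit 2, nat_lit 3, nat_lit 1, nat_lit 2, nat_lit 3, nat_lit 2, nat_lit 3, nat_lit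 1, nat_lit 2, nat_lit 3, nat_lit 2, nat_lit 3, nat_lit 1, nat_lit 2, nat_lit 3, nat_lit 2, nat_lit 3, nat_lit 4, nat_lit 1, nat_lit 2, nat_lit 3, nat_lit 2, nat_lit 3, nat_lit 1, nat_lit 2, nat_lit 3, nat_lit 2, nat_lit 3, nat_lit 1, nat_lit 2, nat_lit 3, nat_lit 2, nat_lit 3, nat_lit 1, nat_lit 2, nat_lit 3, nat_lit 2, nat_lit 3, nat_lit 1, nat_lit 2, nat_lit 3, nat_lit 2, nat_lit 3, nat_lit 4, nat_lit 1, nat_lit 2, nat_lit 3, nat_lit 2, nat_lit 3, nat_lit 1, nat_lit 2, nat_lit 3, nat_lit 2, nat_lit 3]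
def Wt_259_262 (j : ℕ) : List ℕ := bif Nat.blt j 260 then [nat_lit 63, nat_lit 5, nat_lit 0, nat_lit 1, nat_lit 2, nat_lit 5, nat_lit 0, nat_lit 1, nat_lit 2, nat_lit 5, nat_lit 0, nat_lit 1, nat_lit 2, nat_lit 5, nat_lit 0, nat_lit 1, nat_lit 2, nat_lit 5, nat_lit 0, nat_lit 1, nat_lit 2] else (Wt_260_262 j)
def Wt_257_262 (j : ℕ) : List ℕ := bif Nat.blt j 259 then (Wt_257_259 j) else (Wt_259_262 j)
def Wt_253_262 (j : ℕ) : List ℕ := bif Nat.blt j 257 then (Wt_253_257 j) else (Wt_257_262 j)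
def Wt_245_262 (j : ℕ) : List ℕ := bif Nat.blt j 253 then (Wt_245_253 j) else (Wt_253_262 j)
def Wt_262_264 (j : ℕ) : List ℕ := bif Nat.blt j 263 then [nat_lit 63, nat_lit 6, nat_lit 4, nat_lit 6, nat_lit 4] else [nat_lit 63, nat_lit 2, nat_lit 3, nat_lit 1, nat_lit 2, nat_lit 3, nat_lit 2, nat_lit 3, nat_lit 1, nat_lit 2, nat_lit 3, nat_lit 2, nat_lit 3, nat_lit 1, nat_lit 2, nat_lit 3, nat_lit 2, nat_lit 3, nat_lit 1, nat_lit 2, nat_lit 3, nat_lit 2, nat_lit 3, nat_lit 4, nat_lit 1, nat_lit 2, nat_lit 3, nat_lit 2, nat_lit 3, nat_lit 1, nat_lit 2, nat_lit 3, nat_lit 2, nat_lit 3, nat_lit 1, nat_lit 2, nat_lit 3, nat_lit 2, nat_lit 3, nat_lit 1, nat_lit 2, nat_lit 3, nat_lit 2, nat_lit 3, nat_lit 1, nat_lit 2, nat_lit 3, nat_lit 2, nat_lit 3, nat_lit 4, nat_lit 1, nat_lit 2, nat_lit 3, nat_lit 2, nat_lit 3, nat_lit 1, nat_lit 2, nat_lit 3, nat_lit 2, nat_lit 3, nat_lit 1, nat_lit 2, nat_lit 3, nat_lit 2, nat_lit 3, nat_lit 1, nat_lit 2,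 nat_lit 3, nat_lit 2, nat_lit 3, nat_lit 1, nat_lit 2, nat_lit 3, nat_lit 2, nat_lit 3, nat_lit 4, nat_lit 1, nat_lit 2, nat_lit 3]
def Wt_264_266 (j : ℕ) : List ℕ := bif Nat.blt j 265 then [nat_lit 63, nat_lit 1, nat_lit 2, nat_lit 3, nat_lit 2, nat_lit 3, nat_lit 1, nat_lit 2, nat_lit 3, nat_lit 2, nat_lit 3, nat_lit 4, nat_lit 1, nat_lit 2, nat_lit 3, nat_lit 2, nat_lit 3, nat_lit 1, nat_lit 2, nat_lit 3, nat_lit 2, nat_lit 3, nat_lit 1, nat_lit 2, nat_lit 3, nat_lit 2, nat_lit 3, nat_lit 1, nat_lit 2, nat_lit 3, nat_lit 2, nat_lit 3, nat_lit 1, nat_lit 2, nat_lit 3, nat_lit 2, nat_lit 3, nat_lit 4, nat_lit 1, nat_lit 2, nat_lit 3, nat_lit 2, nat_lit 3, nat_lit 1, nat_lit 2, nat_lit 3, nat_lit 2, nat_lit 3, nat_lit 1, nat_lit 2, nat_lit 3, nat_lit 2, nat_lit 3, nat_lit 1, nat_lit 2, nat_lit 3, nat_lit 2, nat_lit 3, nat_lit 1, nat_lit 2, nat_lit 3, nat_lit 2, nat_lit 3, nat_lit 4, nat_lit 1, nat_lit 2, nat_lit 3, nat_lit 2, nat_lit 3,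 nat_lit 1, nat_lit 2, nat_lit 3, nat_lit 2, nat_lit 3, nat_lit 1, nat_lit 2, nat_lit 3, nat_lit 2, nat_lit 3] else [nat_lit 63, nat_lit 1, nat_lit 2, nat_lit 3, nat_lit 2, nat_lit 3, nat_lit 4, nat_lit 1, nat_lit 2, nat_lit 3, nat_lit 2, nat_lit 3, nat_lit 1, nat_lit 2, nat_lit 3, nat_lit 2, nat_lit 3, nat_lit 1, nat_lit 2, nat_lit 3, nat_lit 2, nat_lit 3, nat_lit 1, nat_lit 2, nat_lit 3, nat_lit 2, nat_lit 3, nat_lit 1, nat_lit 2, nat_lit 3, nat_lit 2, nat_lit 3, nat_lit 4, nat_lit 1, nat_lit 2, nat_lit 3, nat_lit 2, nat_lit 3, nat_lit 1, nat_lit 2, nat_lit 3, nat_lit 2, nat_lit 3, nat_lit 1, nat_lit 2, nat_lit 3, nat_lit 2, nat_lit 3, nat_lit 1, nat_lit 2, nat_lit 3, nat_lit 2, nat_lit 3, nat_lit 1, nat_lit 2, nat_lit 3, nat_lit 2, nat_lit 3, nat_lit 4, nat_lit 1, nat_lit 2, nat_lit 3, nat_lit 2, nat_lit 3, nat_lit 1, nat_lit 2, nat_lit 3, nat_lit 2, nat_lit 3, nat_lit 1, nat_lit 2, nat_lit 3, nat_lit 2, nat_lit 3, nat_lit 1, nat_lit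 2, nat_lit 3, nat_lit 2, nat_lit 3]
def Wt_262_266 (j : ℕ) : List ℕ := bif Nat.blt j 264 then (Wt_262_264 j) else (Wt_264_266 j)
def Wt_266_268 (j : ℕ) : List ℕ := bif Nat.blt j 267 then [nat_lit 63, nat_lit 3, nat_lit 2, nat_lit 1, nat_lit 3, nat_lit 2, nat_lit 3, nat_lit 2, nat_lit 1, nat_lit 3, nat_lit 2, nat_lit 3, nat_lit 2, nat_lit 1, nat_lit 4, nat_lit 3, nat_lit 2, nat_lit 3, nat_lit 2, nat_lit 1, nat_lit 3, nat_lit 2, nat_lit 3, nat_lit 2, nat_lit 1, nat_lit 3, nat_lit 2, nat_lit 3, nat_lit 2, nat_lit 1, nat_lit 3, nat_lit 2, nat_lit 3, nat_lit 2, nat_lit 1, nat_lit 3, nat_lit 2, nat_lit 3, nat_lit 2, nat_lit 1, nat_lit 4, nat_lit 3, nat_lit 2, nat_lit 3, nat_lit 2, nat_lit 1, nat_lit 3, nat_lit 2, nat_lit 3, nat_lit 2, nat_lit 1, nat_lit 3, nat_lit 2, nat_lit 3, nat_lit 2, nat_lit 1, nat_lit 3, nat_lit 2, nat_lit 3, nat_lit 2, nat_lit 1, nat_lit 3, nat_lit 2, nat_lit 3, nat_lit 2, nat_lit 1, nat_lit 4, nat_lit 3, nat_lit 2, nat_lit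 3, nat_lit 2, nat_lit 1, nat_lit 3, nat_lit 2, nat_lit 3, nat_lit 2, nat_lit 1, nat_lit 3, nat_lit 2] else [nat_lit 63, nat_lit 2, nat_lit 1, nat_lit 3, nat_lit 2, nat_lit 3, nat_lit 2, nat_lit 1, nat_lit 3, nat_lit 2, nat_lit 3, nat_lit 2, nat_lit 1, nat_lit 3, nat_lit 2, nat_lit 3, nat_lit 2, nat_lit 1, nat_lit 4, nat_lit 3, nat_lit 2, nat_lit 3, nat_lit 2, nat_lit 1, nat_lit 3, nat_lit 2, nat_lit 3, nat_lit 2, nat_lit 1, nat_lit 3, nat_lit 2, nat_lit 3, nat_lit 2, nat_lit 1, nat_lit 3, nat_lit 2, nat_lit 3, nat_lit 2, nat_lit 1, nat_lit 3, nat_lit 2, nat_lit 3, nat_lit 2, nat_lit 1, nat_lit 4, nat_lit 3, nat_lit 2, nat_lit 3, nat_lit 2, nat_lit 1, nat_lit 3, nat_lit 2, nat_lit 3, nat_lit 2, nat_lit 1, nat_lit 3, nat_lit 2, nat_lit 3, nat_lit 2, nat_lit 1, nat_lit 3, nat_lit 2, nat_lit 3, nat_lit 2, nat_lit 1, nat_lit 3, nat_lit 2, nat_lit 3, nat_lit 2, nat_lit 1, nat_lit 4, nat_lit 3, nat_lit 2, nat_lit 3, nat_lit 2, nat_lit 1, nat_lit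 3, nat_lit 2, nat_lit 3]
def Wt_269_271 (j : ℕ) : List ℕ := bif Nat.blt j 270 then [nat_lit 63, nat_lit 2, nat_lit 3, nat_lit 2, nat_lit 1, nat_lit 3, nat_lit 2, nat_lit 3, nat_lit 2, nat_lit 1, nat_lit 3, nat_lit 2, nat_lit 3, nat_lit 2, nat_lit 1, nat_lit 3, nat_lit 2, nat_lit 3, nat_lit 2, nat_lit 1, nat_lit 4, nat_lit 3, nat_lit 2, nat_lit 3, nat_lit 2, nat_lit 1, nat_lit 3, nat_lit 2, nat_lit 3, nat_lit 2, nat_lit 1, nat_lit 3, nat_lit 2, nat_lit 3, nat_lit 2, nat_lit 1, nat_lit 3, nat_lit 2, nat_lit 3, nat_lit 2, nat_lit 1, nat_lit 3, nat_lit 2, nat_lit 3, nat_lit 2, nat_lit 1, nat_lit 4, nat_lit 3, nat_lit 2, nat_lit 3, nat_lit 2, nat_lit 1, nat_lit 3, nat_lit 2, nat_lit 3, nat_lit 2, nat_lit 1, nat_lit 3, nat_lit 2, nat_lit 3, nat_lit 2, nat_lit 1, nat_lit 3, nat_lit 2, nat_lit 3, nat_lit 2, nat_lit 1, nat_lit 3, nat_lit 2, nat_lit 3, nat_lit 2, nat_lit 1, nat_lit 4, nat_lit 3, nat_lit 2, nat_lit 3, nat_lit 2, nat_lit 1, nat_lit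 3] else [nat_lit 2, nat_lit 3, nat_lit 2, nat_lit 3, nat_lit 4, nat_lit 1, nat_lit 2, nat_lit 3, nat_lit 2, nat_lit 3, nat_lit 1, nat_lit 2, nat_lit 3, nat_lit 2, nat_lit 3, nat_lit 1, nat_lit 2, nat_lit 3, nat_lit 2, nat_lit 3, nat_lit 1, nat_lit 2, nat_lit 3, nat_lit 2, nat_lit 3, nat_lit 1, nat_lit 2, nat_lit 3, nat_lit 2, nat_lit 3, nat_lit 4, nat_lit 1, nat_lit 2, nat_lit 3, nat_lit 2, nat_lit 3, nat_lit 1, nat_lit 2, nat_lit 3, nat_lit 2, nat_lit 3, nat_lit 1, nat_lit 2, nat_lit 3, nat_lit 2, nat_lit 3, nat_lit 1, nat_lit 2, nat_lit 3, nat_lit 2, nat_lit 3, nat_lit 1, nat_lit 2, nat_lit 3, nat_lit 2, nat_lit 3, nat_lit 4, nat_lit 1, nat_lit 2, nat_lit 3, nat_lit 2, nat_lit 3, nat_lit 1, nat_lit 2, nat_lit 3, nat_lit 2, nat_lit 3, nat_lit 1, nat_lit 2, nat_lit 3, nat_lit 2, nat_lit 3, nat_lit 1, nat_lit 2, nat_lit 3, nat_lit 2, nat_lit 3, nat_lit 1]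
def Wt_268_271 (j : ℕ) : List ℕ := bif Nat.blt j 269 then [nat_lit 63, nat_lit 2, nat_lit 3, nat_lit 1, nat_lit 2, nat_lit 3, nat_lit 2, nat_lit 3, nat_lit 1, nat_lit 2, nat_lit 3, nat_lit 2, nat_lit 3, nat_lit 1, nat_lit 2, nat_lit 3, nat_lit 2, nat_lit 3, nat_lit 4, nat_lit 1, nat_lit 2, nat_lit 3, nat_lit 2, nat_lit 3, nat_lit 1, nat_lit 2, nat_lit 3, nat_lit 2, nat_lit 3, nat_lit 1, nat_lit 2, nat_lit 3, nat_lit 2, nat_lit 3, nat_lit 1, nat_lit 2, nat_lit 3, nat_lit 2, nat_lit 3, nat_lit 1, nat_lit 2, nat_lit 3, nat_lit 2, nat_lit 3, nat_lit 4, nat_lit 1, nat_lit 2, nat_lit 3, nat_lit 2, nat_lit 3, nat_lit 1, nat_lit 2, nat_lit 3, nat_lit 2, nat_lit 3, nat_lit 1, nat_lit 2, nat_lit 3, nat_lit 2, nat_lit 3, nat_lit 1, nat_lit 2, nat_lit 3, nat_lit 2, nat_lit 3, nat_lit 1, nat_lit 2, nat_lit 3, nat_lit 2, nat_lit 3, nat_lit 4, nat_lit 1, nat_lit 2, nat_lit 3, nat_lit 2, nat_lit 3, nat_lit 1, nat_lit 2, nat_lit 3] else (Wt_269_271 j)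
def Wt_266_271 (j : ℕ) : List ℕ := bif Nat.blt j 268 then (Wt_266_268 j) else (Wt_268_271 j)
def Wt_262_271 (j : ℕ) : List ℕ := bif Nat.blt j 266 then (Wt_262_266 j) else (Wt_266_271 j)
def Wt_271_273 (j : ℕ) : List ℕ := bif Nat.blt j 272 then [nat_lit 2, nat_lit 3, nat_lit 1, nat_lit 2, nat_lit 3, nat_lit 2, nat_lit 3, nat_lit 4, nat_lit 1, nat_lit 2, nat_lit 3, nat_lit 2, nat_lit 3, nat_lit 1, nat_lit 2, nat_lit 3, nat_lit 2, nat_lit 3, nat_lit 1, nat_lit 2, nat_lit 3, nat_lit 2, nat_lit 3, nat_lit 1, nat_lit 2, nat_lit 3, nat_lit 2, nat_lit 3, nat_lit 1, nat_lit 2, nat_lit 3, nat_lit 2, nat_lit 3, nat_lit 4, nat_lit 1, nat_lit 2, nat_lit 3, nat_lit 2, nat_lit 3, nat_lit 1, nat_lit 2, nat_lit 3, nat_lit 2, nat_lit 3, nat_lit 1, nat_lit 2, nat_lit 3, nat_lit 2, nat_lit 3, nat_lit 1, nat_lit 2, nat_lit 3, nat_lit 2, nat_lit 3, nat_lit 1, nat_lit 2, nat_lit 3, nat_lit 2, nat_lit 3, nat_lit 4, nat_lit 1, nat_lit 2, nat_lit 3, nat_lit 2, nat_lit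 3, nat_lit 1, nat_lit 2, nat_lit 3, nat_lit 2, nat_lit 3, nat_lit 1, nat_lit 2, nat_lit 3, nat_lit 2, nat_lit 3, nat_lit 1, nat_lit 2, nat_lit 3] else [nat_lit 2, nat_lit 3, nat_lit 2, nat_lit 3, nat_lit 1, nat_lit 2, nat_lit 3, nat_lit 2, nat_lit 3, nat_lit 1, nat_lit 2, nat_lit 3, nat_lit 2, nat_lit 3, nat_lit 1, nat_lit 2, nat_lit 3, nat_lit 2, nat_lit 3, nat_lit 4, nat_lit 1, nat_lit 2, nat_lit 3, nat_lit 2, nat_lit 3, nat_lit 1, nat_lit 2, nat_lit 3, nat_lit 2, nat_lit 3, nat_lit 1, nat_lit 2, nat_lit 3, nat_lit 2, nat_lit 3, nat_lit 1, nat_lit 2, nat_lit 3, nat_lit 2, nat_lit 3, nat_lit 1, nat_lit 2, nat_lit 3, nat_lit 2, nat_lit 3, nat_lit 4, nat_lit 1, nat_lit 2, nat_lit 3, nat_lit 2, nat_lit 3, nat_lit 1, nat_lit 2, nat_lit 3, nat_lit 2, nat_lit 3, nat_lit 1, nat_lit 2, nat_lit 3, nat_lit 2, nat_lit 3, nat_lit 1, nat_lit 2, nat_lit 3, nat_lit 2, nat_lit 3, nat_lit 1, nat_lit 2, nat_lit 3, nat_lit 2, nat_lit 3, nat_lit 4, nat_lit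 1, nat_lit 2, nat_lit 3, nat_lit 2, nat_lit 3, nat_lit 1]
def Wt_273_275 (j : ℕ) : List ℕ := bif Nat.blt j 274 then [nat_lit 3, nat_lit 1, nat_lit 2, nat_lit 3, nat_lit 2, nat_lit 3, nat_lit 1, nat_lit 2, nat_lit 3, nat_lit 2, nat_lit 3, nat_lit 4, nat_lit 1, nat_lit 2, nat_lit 3, nat_lit 2, nat_lit 3, nat_lit 1, nat_lit 2, nat_lit 3, nat_lit 2, nat_lit 3, nat_lit 1, nat_lit 2, nat_lit 3, nat_lit 2, nat_lit 3, nat_lit 1, nat_lit 2, nat_lit 3, nat_lit 2, nat_lit 3, nat_lit 1, nat_lit 2, nat_lit 3, nat_lit 2, nat_lit 3, nat_lit 4, nat_lit 1, nat_lit 2, nat_lit 3, nat_lit 2, nat_lit 3, nat_lit 1, nat_lit 2, nat_lit 3, nat_lit 2, nat_lit 3, nat_lit 1, nat_lit 2, nat_lit 3, nat_lit 2, nat_lit 3, nat_lit 1, nat_lit 2, nat_lit 3, nat_lit 2, nat_lit 3, nat_lit 1, nat_lit 2, nat_lit 3, nat_lit 2, nat_lit 3, nat_lit 4, nat_lit 1, nat_lit 2, nat_lit 3, nat_lit 2, nat_lit 3, nat_lit 1, nat_lit 2, nat_lit 3, nat_lit 2, nat_lit 3, nat_lit 1, nat_lit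 2, nat_lit 3, nat_lit 2] else [nat_lit 63, nat_lit 1, nat_lit 6, nat_lit 5, nat_lit 1, nat_lit 6, nat_lit 5, nat_lit 1, nat_lit 6, nat_lit 5, nat_lit 1, nat_lit 6, nat_lit 5, nat_lit 1, nat_lit 6, nat_lit 5]
def Wt_271_275 (j : ℕ) : List ℕ := bif Nat.blt j 273 then (Wt_271_273 j) else (Wt_273_275 j)
def Wt_275_277 (j : ℕ) : List ℕ := bif Nat.blt j 276 then [nat_lit 63, nat_lit 3, nat_lit 2, nat_lit 1, nat_lit 3, nat_lit 2, nat_lit 3, nat_lit 2, nat_lit 1, nat_lit 3, nat_lit 2, nat_lit 3, nat_lit 2, nat_lit 1, nat_lit 3, nat_lit 2, nat_lit 3, nat_lit 2, nat_lit 1, nat_lit 4, nat_lit 3, nat_lit 2, nat_lit 3, nat_lit 2, nat_lit 1, nat_lit 3, nat_lit 2, nat_lit 3, nat_lit 2, nat_lit 1, nat_lit 3, nat_lit 2, nat_lit 3, nat_lit 2, nat_lit 1, nat_lit 3, nat_lit 2, nat_lit 3, nat_lit 2, nat_lit 1, nat_lit 3, nat_lit 2, nat_lit 3, nat_lit 2, nat_lit 1, nat_lit 4, nat_lit 3, nat_lit 2, nat_lit 3, nat_lit 2, nat_lit 1, nat_lit 3, nat_lit 2, nat_lit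 3, nat_lit 2, nat_lit 1, nat_lit 3, nat_lit 2, nat_lit 3, nat_lit 2, nat_lit 1, nat_lit 3, nat_lit 2, nat_lit 3, nat_lit 2, nat_lit 1, nat_lit 3, nat_lit 2, nat_lit 3, nat_lit 2, nat_lit 1, nat_lit 4, nat_lit 3, nat_lit 2, nat_lit 3, nat_lit 2, nat_lit 1, nat_lit 3, nat_lit 2] else [nat_lit 3, nat_lit 2, nat_lit 3, nat_lit 1, nat_lit 2, nat_lit 3, nat_lit 2, nat_lit 3, nat_lit 1, nat_lit 2, nat_lit 3, nat_lit 2, nat_lit 3, nat_lit 1, nat_lit 2, nat_lit 3, nat_lit 2, nat_lit 3, nat_lit 4, nat_lit 1, nat_lit 2, nat_lit 3, nat_lit 2, nat_lit 3, nat_lit 1, nat_lit 2, nat_lit 3, nat_lit 2, nat_lit 3, nat_lit 1, nat_lit 2, nat_lit 3, nat_lit 2, nat_lit 3, nat_lit 1, nat_lit 2, nat_lit 3, nat_lit 2, nat_lit 3, nat_lit 1, nat_lit 2, nat_lit 3, nat_lit 2, nat_lit 3, nat_lit 4, nat_lit 1, nat_lit 2, nat_lit 3, nat_lit 2, nat_lit 3, nat_lit 1, nat_lit 2, nat_lit 3, nat_lit 2, nat_lit 3, nat_lit 1, nat_lit 2, nat_lit 3, nat_lit 2, nat_lit 3, nat_lit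 1, nat_lit 2, nat_lit 3, nat_lit 2, nat_lit 3, nat_lit 1, nat_lit 2, nat_lit 3, nat_lit 2, nat_lit 3, nat_lit 4, nat_lit 1, nat_lit 2, nat_lit 3, nat_lit 2, nat_lit 3, nat_lit 1, nat_lit 2]
def Wt_278_280 (j : ℕ) : List ℕ := bif Nat.blt j 279 then [nat_lit 3, nat_lit 1, nat_lit 2, nat_lit 3, nat_lit 2, nat_lit 3, nat_lit 4, nat_lit 1, nat_lit 2, nat_lit 3, nat_lit 2, nat_lit 3, nat_lit 1, nat_lit 2, nat_lit 3, nat_lit 2, nat_lit 3, nat_lit 1, nat_lit 2, nat_lit 3, nat_lit 2, nat_lit 3, nat_lit 1, nat_lit 2, nat_lit 3, nat_lit 2, nat_lit 3, nat_lit 1, nat_lit 2, nat_lit 3, nat_lit 2, nat_lit 3, nat_lit 4, nat_lit 1, nat_lit 2, nat_lit 3, nat_lit 2, nat_lit 3, nat_lit 1, nat_lit 2, nat_lit 3, nat_lit 2, nat_lit 3, nat_lit 1, nat_lit 2, nat_lit 3, nat_lit 2, nat_lit 3, nat_lit 1, nat_lit 2, nat_lit 3, nat_lit 2, nat_lit 3, nat_lit 1, nat_lit 2, nat_lit 3, nat_lit 2, nat_lit 3, nat_lit 4, nat_lit 1, nat_lit 2, nat_lit 3, nat_lit 2, nat_lit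 3, nat_lit 1, nat_lit 2, nat_lit 3, nat_lit 2, nat_lit 3, nat_lit 1, nat_lit 2, nat_lit 3, nat_lit 2, nat_lit 3, nat_lit 1, nat_lit 2, nat_lit 3, nat_lit 2] else [nat_lit 63, nat_lit 2, nat_lit 5, nat_lit 0, nat_lit 1, nat_lit 2, nat_lit 5, nat_lit 0, nat_lit 1, nat_lit 2, nat_lit 5, nat_lit 0, nat_lit 1, nat_lit 2, nat_lit 5, nat_lit 0, nat_lit 1, nat_lit 2, nat_lit 5, nat_lit 0, nat_lit 1]
def Wt_277_280 (j : ℕ) : List ℕ := bif Nat.blt j 278 then [nat_lit 3, nat_lit 2, nat_lit 3, nat_lit 1, nat_lit 2, nat_lit 3, nat_lit 2, nat_lit 3, nat_lit 4, nat_lit 1, nat_lit 2, nat_lit 3, nat_lit 2, nat_lit 3, nat_lit 1, nat_lit 2, nat_lit 3, nat_lit 2, nat_lit 3, nat_lit 1, nat_lit 2, nat_lit 3, nat_lit 2, nat_lit 3, nat_lit 1, nat_lit 2, nat_lit 3, nat_lit 2, nat_lit 3, nat_lit 1, nat_lit 2, nat_lit 3, nat_lit 2, nat_lit 3, nat_lit 4, nat_lit 1, nat_lit 2, nat_lit 3, nat_lit 2, nat_lit 3, nat_lit 1, nat_lit 2, nat_lit 3, nat_lit 2, nat_lit 3, nat_lit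 1, nat_lit 2, nat_lit 3, nat_lit 2, nat_lit 3, nat_lit 1, nat_lit 2, nat_lit 3, nat_lit 2, nat_lit 3, nat_lit 1, nat_lit 2, nat_lit 3, nat_lit 2, nat_lit 3, nat_lit 4, nat_lit 1, nat_lit 2, nat_lit 3, nat_lit 2, nat_lit 3, nat_lit 1, nat_lit 2, nat_lit 3, nat_lit 2, nat_lit 3, nat_lit 1, nat_lit 2, nat_lit 3, nat_lit 2, nat_lit 3, nat_lit 1, nat_lit 2] else (Wt_278_280 j)
def Wt_275_280 (j : ℕ) : List ℕ := bif Nat.blt j 277 then (Wt_275_277 j) else (Wt_277_280 j)
def Wt_271_280 (j : ℕ) : List ℕ := bif Nat.blt j 275 then (Wt_271_275 j) else (Wt_275_280 j)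
def Wt_262_280 (j : ℕ) : List ℕ := bif Nat.blt j 271 then (Wt_262_271 j) else (Wt_271_280 j)
def Wt_245_280 (j : ℕ) : List ℕ := bif Nat.blt j 262 then (Wt_245_262 j) else (Wt_262_280 j)
def Wt_210_280 (j : ℕ) : List ℕ := bif Nat.blt j 245 then (Wt_210_245 j) else (Wt_245_280 j)
def Wt_140_280 (j : ℕ) : List ℕ := bif Nat.blt j 210 then (Wt_140_210 j) else (Wt_210_280 j)
def Wt_0_280 (j : ℕ) : List ℕ := bif Nat.blt j 140 then (Wt_0_140 j) else (Wt_140_280 j)
def Wt (j : ℕ) : List ℕ := (Wt_0_280 j)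
def W (j : ℕ) : List ℕ := bif Nat.blt j 280 then Wt j else []
theorem W_ge (j : ℕ) (h : 280 ≤ j) : W j = [] := by
  unfold W
  rw [blt_false_of_le h]
  rfl
def Hl : List ℕ := [nat_lit 0, nat_lit 1, nat_lit 2, nat_lit 3, nat_lit 5, nat_lit 6]
def isH (y : ℕ) : Bool := List.elem y Hl
def Rb : List (List ℕ) := [[nat_lit 0, nat_lit 0],
  [nat_lit 1, nat_lit 0, nat_lit 1, nat_lit 0, nat_lit 1, nat_lit 0, nat_lit 1, nat_lit 0, nat_lit 1, nat_lit 0],
  [nat_lit 2, nat_lit 0, nat_lit 2, nat_lit 0],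
  [nat_lit 3, nat_lit 0, nat_lit 3, nat_lit 0],
  [nat_lit 4, nat_lit 0, nat_lit 4, nat_lit 0],
  [nat_lit 5, nat_lit 0, nat_lit 5, nat_lit 0],
  [nat_lit 6, nat_lit 0, nat_lit 6, nat_lit 0],
  [nat_lit 1, nat_lit 1],
  [nat_lit 2, nat_lit 1, nat_lit 2, nat_lit 1, nat_lit 2, nat_lit 1],
  [nat_lit 3, nat_lit 1, nat_lit 3, nat_lit 1],
  [nat_lit 4, nat_lit 1, nat_lit 4, nat_lit 1],
  [nat_lit 5, nat_lit 1, nat_lit 5, nat_lit 1, nat_lit 5, nat_lit 1],
  [nat_lit 6, nat_lit 1, nat_lit 6, nat_lit 1, nat_lit 6, nat_lit 1],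
  [nat_lit 2, nat_lit 2],
  [nat_lit 3, nat_lit 2, nat_lit 3, nat_lit 2, nat_lit 3, nat_lit 2, nat_lit 3, nat_lit 2, nat_lit 3, nat_lit 2, nat_lit 3, nat_lit 2, nat_lit 3, nat_lit 2, nat_lit 3, nat_lit 2],
  [nat_lit 4, nat_lit 2, nat_lit 4, nat_lit 2],
  [nat_lit 5, nat_lit 2, nat_lit 5, nat_lit 2],
  [nat_lit 6, nat_lit 2, nat_lit 6, nat_lit 2],
  [nat_lit 3, nat_lit 3],
  [nat_lit 4, nat_lit 3, nat_lit 4, nat_lit 3, nat_lit 4, nat_lit 3],
  [nat_lit 5, nat_lit 3, nat_lit 5, nat_lit 3],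
  [nat_lit 6, nat_lit 3, nat_lit 6, nat_lit 3],
  [nat_lit 4, nat_lit 4],
  [nat_lit 5, nat_lit 4, nat_lit 5, nat_lit 4],
  [nat_lit 6, nat_lit 4, nat_lit 6, nat_lit 4],
  [nat_lit 5, nat_lit 5],
  [nat_lit 6, nat_lit 5, nat_lit 6, nat_lit 5, nat_lit 6, nat_lit 5, nat_lit 6, nat_lit 5],
  [nat_lit 6, nat_lit 6],
  [nat_lit 2, nat_lit 3, nat_lit 2, nat_lit 3, nat_lit 2, nat_lit 3, nat_lit 2, nat_lit 3, nat_lit 0],
  [nat_lit 5, nat_lit 6, nat_lit 5, nat_lit 6, nat_lit 0],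
  [nat_lit 5, nat_lit 2, nat_lit 1, nat_lit 0, nat_lit 5, nat_lit 2, nat_lit 1, nat_lit 0, nat_lit 5, nat_lit 2, nat_lit 1, nat_lit 0, nat_lit 5, nat_lit 2, nat_lit 1, nat_lit 0, nat_lit 5, nat_lit 2, nat_lit 1, nat_lit 0],
  [nat_lit 6, nat_lit 5, nat_lit 1, nat_lit 6, nat_lit 5, nat_lit 1, nat_lit 6, nat_lit 5, nat_lit 1, nat_lit 6, nat_lit 5, nat_lit 1, nat_lit 6, nat_lit 5, nat_lit 1],
  [nat_lit 4, nat_lit 3, nat_lit 2, nat_lit 3, nat_lit 2, nat_lit 1, nat_lit 3, nat_lit 2, nat_lit 3, nat_lit 2, nat_lit 1, nat_lit 3, nat_lit 2, nat_lit 3, nat_lit 2, nat_lit 1, nat_lit 3, nat_lit 2, nat_lit 3, nat_lit 2, nat_lit 1, nat_lit 3, nat_lit 2, nat_lit 3, nat_lit 2, nat_lit 1, nat_lit 4, nat_lit 3, nat_lit 2, nat_lit 3, nat_lit 2, nat_lit 1, nat_lit 3, nat_lit 2, nat_lit 3, nat_lit 2, nat_lit 1, nat_lit 3, nat_lit 2, nat_lit 3, nat_lit 2, nat_lit 1, nat_lit 3, nat_lit 2, nat_lit 3, nat_lit 2, nat_lit 1, nat_lit 3, nat_lit 2, nat_lit 3, nat_lit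 2, nat_lit 1, nat_lit 4, nat_lit 3, nat_lit 2, nat_lit 3, nat_lit 2, nat_lit 1, nat_lit 3, nat_lit 2, nat_lit 3, nat_lit 2, nat_lit 1, nat_lit 3, nat_lit 2, nat_lit 3, nat_lit 2, nat_lit 1, nat_lit 3, nat_lit 2, nat_lit 3, nat_lit 2, nat_lit 1, nat_lit 3, nat_lit 2, nat_lit 3, nat_lit 2, nat_lit 1],
  []]
def spT_0_2 (j : ℕ) : ℕ := bif Nat.blt j 1 then nat_lit 0x340000a0380000002c0000002600000032000020200000200a000020060000002a00000028000020120000c040000020160000003a0000200c0000203b000020180000203e0000200200000026000000300000002200000018000020120000e040000020100000403800002004000020080000002e00000020000000160000200a0000203c0000201400002022000020200000201e00000004000000000000000e000000240000000e0000001a00000024000020100000001000002039000000380000000e0000001a0000000e000060380002a0400000202a00002028000000120000000600002026000020300000202e0000001e0000001400000008 else nat_lit 0xc0410001804000000002000020020000a0390000201c000060380000201e0000001400000024000000000000001a0000002c0000002c0000001a0000001a000000240000000e000000360000002c0000c0380000203a0000403e0002e04000010039000000390000803800016040000280400000001c000220400001e04000000000000000000000002c0000004200000000000020160002c0400000000a0000201c0000403a00000032000000360000803a00004039000000040000001c000000200000e038000000320000000a000000100000a038000000020000c0380000003e000020040000000c000020340000603a00000012000020400000403c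
def spT_3_5 (j : ℕ) : ℕ := bif Nat.blt j 4 then nat_lit 0x3b000200410000000c0002a04000018041000060400001c041000040390003204000032041000040410000603a0000004000028040000260410000c04100018040000020300000603b0000003a000000340000200c000080390000000000000036000000420000000e0000003200000036000000360001003900014040000040410000e04100002041000040400000a0410000c0400000603c00012041000200410000203900002026000140400000a0400000804000010040000320400000202a0000403f0000002a0001a0400001204000002040000020220000203a00004038000300410000003d0001e040000020060000003f0000203f00024040 else nat_lit 0x403d000280410002404100010041000100400000403e0001e0410000e041000260410002c0410000e04000010041000120400001a040000280410001e0410000604100000030000140410000403d0000603d000260400000203c0000203f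
def spT_2_5 (j : ℕ) : ℕ := bif Nat.blt j 3 then nat_lit 0x60400000603900008039000000220000803b0000e039000160410002a0410001c04000000028000020280000a0390000203d0000c039000000380000403c000000390000002e0000603b0000203d000060390000e03900000006000100380000c0390000e03800000024000000320000003200000008000020340000803b000020180000003b0000403b000020380000403a0000202e0000001e000100380000803a0000200800002038000260400000001600020040000000180003004100014041000000400000004100032041000040400000804000008038000300400000a0400000003c0000603d0000603c0000203b000160400000201400020040 else (spT_3_5 j)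
def spT_0_5 (j : ℕ) : ℕ := bif Nat.blt j 2 then (spT_0_2 j) else (spT_2_5 j)
def spT (j : ℕ) : ℕ := (spT_0_5 j)
def sp (j : ℕ) : ℕ := Nat.land (Nat.shiftRight (spT (Nat.shiftRight j 6)) (Nat.mul (Nat.land j 63) 32)) 4294967295
theorem Eo_lt (r : ℕ) : Eo r < 18014398509481984 := land54_lt _
def cT_0_2 (j : ℕ) : ℕ := bif Nat.blt j 1 then nat_lit 0xede0002820002d300025600024d0018690007d20001420000a000023d00023c00015200018400018300018200024200023f00015400003800002000031300035b00035a0003610002cd00027c0002840002790002cc0002cb0002c80000ee00026c0001d00000280003570003190002c60000eb0002c400001400006d000b130007d8000070000b1a0007d400009700009c000b04000b0b00013d00013a0001390000e10001380001370000ab00013600013500013c00078f00079100079300031800003400003300027b00024c00027800027700013400009f00013300000d00002900031200031000030e00011200027d00027a00026d0000ef00030c00011000001300006c00007100009600009d0000e00000df0000de0000a90000aa00000c0003110000320000dd00009e0000dc00000e0002ca00011100001000001200006b00007200009400009300009200000a00010f00003000000f00001100006900006800003700000600002f000004000007000003000002000001000000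 else nat_lit 0x199c001443000a3c0001a400186c000f7b00085d00024f00027f000b6c000afa00105b000ed00002d2000cd40007da00048700081a00109900195f00186e000fb800126800081b000141000ac400078a0001470000a60000a1001438000b0c00144200118400015100018f0001930001dd0001dc0001e20006cb00024100024b00023e0007850007840001530001e10001a30001db0006c00001490000d500002100001e0002ce0003ad000af80002830003b3000255001a6900186a00187000139c00040c0007760004130002d5001aa2000e9800026b0007350004d600020b0006f20001500001550000270000240003aa0003a90003a70003a60003a50000ec0003a3000067000015000b6000006e000ac0000ac100006f000ac3000098000b61000b5f00009b000ccd000c40000b05000b0a000140000b010001480008db000f20001435001137000e8b000edf000e990000ac00018a00018900018700018800018600018500013b00079000028000081c00031700024e00031c00027e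
def cT_3_5 (j : ℕ) : ℕ := bif Nat.blt j 4 then nat_lit 0x70e00070b0007120007320007310001b80006f800014b0006f60006f50000d30006f40006f30001ba000d8c000d8b0003c400091e0008c800007800047800004a000017000b16000b14000fba000baf00109b000c41000fb9000f7c000b07001d1e00109a0010fb000b080059fe000d13000ba00006c900190b000b1c000d080002480000a3001d720010d5001d12001306000ff4000b0e0014450031be001c9200144d002b820011ca000f2d000ee1001144000e9b00146100145f00029b0008e10001e7001df00023d0001df8002350001de0001da4001d68000a3b00145d00145c0001a50001a8003143001ba9001bab0019100007cb000250000c48000b6d000f6c001d230018c5000b1e000cd500100c0012820007ca00186b00195e00300d003190001951002f55002f8d001267002f2600190d000ba7000ac5000789001902000d0f0008a000024600077e0014370018cc001d180011fe000b12000b0d0014470011ff00145b0011850000ae00018e0008e50008e3000194000198 else nat_lit 0x147a00029a0008e20001e6001df10023cf0023d7001df700082e000873001de3001200001c42001bbf0001f7000120001e33000d03000ac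6001e82000b9b00081000112b0018a1000f5b000b11001b7000219d001b690013f10014b30012420002860000af0006af0001e9000d2500234a000b2e0007f1001b820007a400012800184700172e00017d0006e80006e700011a00010b00007300001c000b200010080010ec0050e2000d1700100900100b0012830033d300386f00304900195d002f8b00139a000d010020e7000ed700041c0010de001cfd0018ad000acd000b99000ed800077a000419000ffd0007dc0006d20008a7002fbf002fc2001977002c5200195a0021b400139f0012ed002fb50019750021c300192c00197300182e0002e20004ce0010dc0018b4000acb0004c900073a0004da0004d9000929001b990009220007bb000d890008070002090007030006fc000ac80018b20006fb0007020002de0002d7001129001834000faa0011f3001813001812000157000708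
def cT_2_5 (j : ℕ) : ℕ := bif Nat.blt j 3 then nat_lit 0x197001df2001201001c8b000a3d0001f60006ca000ed30002490000a500112a0018a2000f5c0011b3001f120012430002850006b00001e00001eb0001de0008de0007a30007720006df0006de00017e0006a50001a00001190000d600001d000b210010eb000af9000d1800100a0007db002f2700190e00304700186f00190f00139b00041d000f77000f79000f1a00041800077b0002df0002d6001a7e001976001a8400192d00197400192b0002e10004cf0007340004c80004d8000da40007bc00020a0006f70006fd0006fa0006cf0007740007730001560007050007040001b90006dd00014a0000d400002600329800184300040b00040a0003c3000409000408000079000407000016000baa000ac2000bae000099000b62000c4200009a000cce000b06000f6e000f6d000b090010ee00104f000d1200078800078c000b1b0002470000a2001436001d130012aa0012a7000f2c0014440011430011c6000ee0000e9a0000ad00018d000b000001950001ee001cc5001cc4001cc2 else (cT_3_5 j)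
def cT_0_5 (j : ℕ) : ℕ := bif Nat.blt j 2 then (cT_0_2 j) else (cT_2_5 j)
def cT_6_8 (j : ℕ) : ℕ := bif Nat.blt j 7 then nat_lit 0x1958002fc10039e6001978002c510039db00195c0019590021b30021b5002e290013990013450012eb002fb6002fb9002c4b002c530021c10021bf0022dd00134300338c001d3f003222001a6a0021e80018110002eb000d210020e80004cd0024cf000acc000b2a001ebf0004ca000739000741000928000cb2001b98002376000923000be20007ba00084700094a00283d000943000889000db70008060002080007490020e4000b73000ac7000ed5001e81000cdb00080f0002d800183a001833001955002fc40018320018390011f200128d00112800181b000fa900181f0017f00017ef00026800015800071400070d00070c0007130024390023770024c3000db30021b600216b0001b7001830001427000f0c000ec60000d200070a0007090007070007060006f9000dbb000dba0002e300093f0008c700007c00048e00004b000049000018000d0b000b71000f2a000ba3000cd9000f2b0092a6000fc5000f7d00100d0092a50033490010a60010fc00104e0059fd001d1f0018c1 else nat_lit 0x1e85001db70021a90030030020ae00121600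21a200125d008187000ee300187e0060d4000e9d00118f001496001495001493001494000a25000a2400016b0028d900251b00082f00234e001de20025780057d9001de8000e6f000874001c410007f8001c50000a61000a1f000a1e000121000052001d21001364001171001d110018a0000f5a002c340011b1001b6f002cae001b6a0013f00021300014b20014be00131a0014d40012410000b20000d10014920014770000b000029e000d22001cc3000b2b002357000ce5000b7d000d26002911000b2f0007f2001b830007a500011d00011f001bf800145900017c000265000ad80008b200011b00010a00007400004800001b002fcc0026a300254f00100700929b001d250013c200254e0010e8002fcb0033da0092b20038db00777500304a0031d900591700391c002f8c002190000d020020e6000cb600041b000ed60010160010df0038680018af000b9a001d69000be600041a0026ed00136c000ffe0012840007e5003b24002d8e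
def cT_5_8 (j : ℕ) : ℕ := bif Nat.blt j 6 then nat_lit 0xba1000c500006c800190a005cab001051000d09000bf10006c7000796001d730010d40010d6002c40001dfa000ff3000ff5000b0f001e340021a80021ac0031bd001d670021030021a30012ac002f5400199d000f2e00a047001877001c9e000f2f0085220011880011d600147e00146000146a00145e00147900147800016a0006ae0001e80023a800234f001de1002418002479001de90023ce000a38001c4b001cdb002422000a36001cd8000a6000147d00147c0001a700073000314d00714a0019040090e9001baa002f56002f7c0007980019110007cc000c49000ba2000cd8000c7d000b6e0050e0001d24000b1d000d0a000b70000b1f000cd600601d002f900030f400334a0030b3005b5600300c003191002f770092a7003467001281001266002f28001e6b000ba6001d22000c4a00114000190300130b000d0e0013ba000b5200079700077f001d280018cd001e68002fff0013b70013b800124c001249001446001db60021aa00144c001215001253000ee2000e9c00147b else (cT_6_8 j)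
def cT_9_11 (j : ℕ) : ℕ := bif Nat.blt j 10 then nat_lit 0x7e40002d9001d9c0020dd001cb9001956001e23001eb40011f100128c00182100181a005246002fbb0018190018200022de0021bc0011270021d0000fa80021350015740015080000b60021d20021cf0001590002ea0024380024c10024c20024370024fd00283c0026e40028280021cd000da30001b600072b001817001426000f0b000ec50002a2001ced00084500181500181400071e001d3e0015ee000dd9000dd80006d7000aec0008c600008700007d00048f0002e400004c000b72000cda00a0b40092a90093eb000fc6000f7e0092a4001017003b4b0092ab007a9900aa480010a70010fd002c3a00105d003a47001d20000f67000d0c000c51000fbf000cb700386b0061fb001001000ba4000bf0001ec9000be700130a009957001d740010d3002c3d0030e10010460078a20092e1001dfb000ff20092ad002dea001047001308001e35005aa4001b6e005bab0078990031bc00c3d8002104002da9001b6b0012bc001373002f530022fc0014620011470087eb004bbe00149e else nat_lit 0x10900026400005c00a1120092b500938f0033db00a69e00a20600936700a0e10038dc00777400304b009b190031da0059180059160093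6400b41500391d0015a8002f590034500010150025050020fa0038670050e400312c001006001edd00136b006024004c7f003b25002d8d003c86003345001957005919004bd90039fe001979002c4f002f0e003865002dd800382b0034d40092b7002e28001285001398002287003cdd0066e6002fba002fb800a0b3002c4c002c54005bd9002e750066410021be0021c0005a16002c380013420012ea003224007637001d40002ccb003223006811001a6b0021f400351100350500350e00216a0035100018100002ec0020e90010da0004cc001ec0000ff90004cb000d3c0029fe000927000cb1001b97001cec000b45004155000924000be10007b9000846000949002c2900577e002375000944002844000888001bd3000cfa002c18000b92000956000e74000805002bfd002bfc0002070007550026eb0038690018b000249c00250400213d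
def cT_8_11 (j : ℕ) : ℕ := bif Nat.blt j 9 then nat_lit 0xa0480018780020c1001c9f001880001486000f30008e7e002e0d002191008523001189001e980011d700119100147f001e0700811c002d0d001469001d80001b1f00144f0018960011a70018e10014120001690000fa0010d90006ad000ff80006ac000c9a000bca0024e900591100241700247a0026d00029b20023cd00245a001c4a007de1001cdc0090fb002426008478000a37001dea001c59001cda002423000a5f00273a00240700270d000a35001c4d001c4c0001ab0027390027380001b00001b200314e00714b0038940090e800714800218f002f7b00214f002f82002f840010e6001d260099c6001005000cd7000b6f002fca0092ae00386d0092aa007a980030fe0099c400999f0030b4005b5500300800c39000300b005cb50092b40092b80034220093e800b0b1003468001280001262002f920012650010f1000ba5006a550038930010f0000d0d00643000214e0099c30039490077790018ce001d27001dba001dbc0033480039080013b90013c3002d530017d30019aa else (cT_9_11 j)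
def cT_5_11 (j : ℕ) : ℕ := bif Nat.blt j 8 then (cT_5_8 j) else (cT_8_11 j)
def cT_0_11 (j : ℕ) : ℕ := bif Nat.blt j 5 then (cT_0_5 j) else (cT_5_11 j)
def cT_11_13 (j : ℕ) : ℕ := bif Nat.blt j 12 then nat_lit 0x125e0013c7004bbd00c39c000ee40020c000187d00187f002e0c0060c5000e9e001e9700118e001190001497001e06006d2c002d0c002198001d7f0015550014bf0018970011a80009ff0009fe00016c0000f90028d800083000252e0025790042d20057d80026840007f50029b10008750060de0023660072a70060c40007f7001c38001c4f0007f9000a10001c40000a26001c13000a3f000a3e000122000a05000a02000053000051001170003a0200189f000f590013630011b0004bf5009334002caf002e4b009b0c001317002fac0075f4003887006b700014bd0064470013190014a100212f0014d30014df0012400014f200141d000f0a000ec40000d00014b40014b10014af00149f0014ad0014ac0014ab0014760000b1001cd200252c0023e30023ab002a93002868000ce600291d000b7e0007f30009d3000add000b300008b7000adb0007a60000b30014ae000e4200011e0023390014570015580015570000b50009c20009c100017b0000c50009c80008b300011c00004f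 else nat_lit 0x7de00092150028b50027420024270094760063f6002b87006378001bb00063d700270e000883001c580085680055cc005c600024250060e2000a5e00088100273b0075430055b200754500270c007fee001bf6000a340027230024080027190023be001c61001c600001ad0027d4000a15000a43000a420001af0022b60009bb0001b10001b300020500304c00714c0038950090e700714700218e0015a70017e9002f88002f830092af0099f300b11e00995a009a860099c7007a9700999e0099c50030ff0030b500a16b005b5400d07c00bb240071500018d300c3910030090092b900933500b14b00a1dd009a2800936300b0bb0034230033dd00b46b00127f00c2f100156d0023320013cd002f93001263005ab2002db7007af900a13d005ab000394800777a002c6f0018cf009956007246001db9001dbb00334700b455002db500390700354a00125f0012610093360015ac0017d20017d4009906001e860065fb001db8005aec0030040090300099050020af002bde001217002d5e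
def cT_14_16 (j : ℕ) : ℕ := bif Nat.blt j 15 then nat_lit 0x34b00021d300a6ac0039f90077700017fa0073600021360021c4001126002201000fa70015070015560014ec0021ea0021d10021dc0021ce0015980015970000b700015a0021e70021430002e90006dc0025420024c00055a20026980024360028270024fc00282c0026e300282a0022d10022d00021e9000dd40001b50005640018f40014250017f70017f50017c20017c10001700051530008440017f3000da200071f00b72d002ccc00b7150015ed00351d00351c00351b0015ef002bb10015f20002ed000dbd000d96000aeb0008c500097d00097a00007e0002010009810009800002e500030600004d00906400b4160093ec009a57000fc700bd4c007bea00b3d900a1b2001018000f7f005a6e00a0e200b4d400b11b001060007beb00c9960095f900a1b500105e0010fe003346003bdd005aac00324c001d750087da0010d20092a800a085002db80030e0002c3c001045003891002272002db1002dab001dfc008e6d000ff1002c3b00a063005ab3003494006f6200108b001309 else nat_lit 0xab0d00a0b200bf62002c4d005263002c55005bd8002e7400b14c003b9800395f0059cf00a257005a17005e9a002c390013410013940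012e900350600322500757600d101003525007636001d4100c4cc002ccf002cca00351900338f007577006b490039660068090014a5006b3e00215f00133000351200b72800516400928800350d00c1160021690021f300356b00180f00356d0021460006da000bec000c55000d3b0029fd0042a3000926001b96000b44005c3a002a480009250007b80042ef005f9d000cb00009480060090055a4002374001ceb00415f00642e000be0000945005822000887001bd2001bbe000de30068190039a100678c000dc00061dc000955000972000cf900292e000b910008040058cf002c19002c22002c17000def000a9e00020600356a000dcd000763000756005a6f00524c00249b0038660034d800084d001d9b0020dc006832001cb8005b6000c363001e22001eb30016f00011f000128b002fc70053b30051fd00524700b0410051c7005369002f9b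
def cT_13_16 (j : ℕ) : ℕ := bif Nat.blt j 14 then nat_lit 0x13150088c00010d1005aa500b089004bab001b6d005bac0031b90078980078ab0031bb00c445008d87000ff0002daa0092e3002dfa001b6c0012bd001377001372005cea001374005a6300146300b3a1001148007add0087ea001b1500be8a00149d00c3a700bbd5004bbf00a01a00a0490092a30018790079e50020c2001ca0001886005bb3007974001881001c9a00148500a044000f3100c3a8008e7d001b0900c32b00219200c4f1007adc002e0e0063760093a60022fb00118a00c7a5001e990011d80011970063ea0012c40011920011d200148000781a0081ef0022bf001e0800811d002d0e00c4ab0014680078dd007ee3003242001d8100132b0014500014720030d4001895006c2e0034880011a60022af001b0e001890001b100011a100174b00141100016800174d0011dd0000c7000beb000c560023e4000c590023e1000c0f0024ea005bef000c9b00247d00c3d70024160026d1002a33000bcb00087a005a610023cc0027050024b1009f70007544001c4900c671001cdd else (cT_14_16 j)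
def cT_11_16 (j : ℕ) : ℕ := bif Nat.blt j 13 then (cT_11_13 j) else (cT_13_16 j)
def cT_17_19 (j : ℕ) : ℕ := bif Nat.blt j 18 then nat_lit 0x9e50009e4000e27000e260028d700247e000831000879002a3800252f0065fc0042d10057d7005c8b002a37002685005e310029e80008320008340060dd007e990023670076e9007e9b000ae70060d600609b0007f60060d2001c100008c10060ec002924000ae50060d30007fa0008bf000a0f0076e8007d16007cfa000a270060d5001c12001c37000a44001c4e000a49000e20000a63000a62000a04000a01000a23000a220000540009e30009da00005700008000116f003a0300189e005baf000f580017e50011af0012c0004bf60093330065fe002262002e4c009b0d002bdd001316003264005193007651008830002fab0090c4003888007ba30090c2002cbc0014bc005121007a69008e1f00233b006451001318008fea0014a2002c7100212e00c1b2001f0e002cba0014de00799b00123f0014fe00150e0014f10014fc0014ee000f09000ec300150c00141e0014b500d7330070f900525300326b0073d40017440014a00014d50014d20014ce0014cf0015290014750014cd else nat_lit 0xd6d300d2ad00bfa20013e800127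e00d2ae005cc60013e70013d100221d00c2f00017bb0023250013ce00bc0a007afa005ab1005af0005aaf00777b003947006ba200c4c600bb250071510018d00018d2009955003550001592001dbf00bfea00a6e6002db6002d62002db4003526002d60002bd500c2f20014e4005cb40012600013cc0099010016f40012190017d700cba700a40500990700a4ab001e870043c70015b200a185005aed006ba300923d00ce7d00902f00316c00c4f200a404009904006b5b0020b0002bd4001218007b54002d5f0043be0062820017260013c6002f75004bbc00819e00c39f00c3a10065fa000ee50020bf00ad6300187c001c99005bb4007975001c9b002e0b0099b700c33500c334002c27000e9f001e96007b3200118d0011d10064a30012c50011d3001498007c10007bf8001e05007010006c61009062002d0b002197008228007f14001d7e006f120032970013270015380030d5001898001dcf0034890011a90019bd00115e00188f000f470011a0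
def cT_16_19 (j : ℕ) : ℕ := bif Nat.blt j 17 then nat_lit 0x14cc00434b0023e200413d004f1e000ce7005fc100257a000b7f005ff50007f40009d2006450000ade007265000d2b005ccd0008b8000ab00009f7000adc000b310008b600150d00141c001c1e001c2e001c25000e41000a21000a20007264007263005cf90022b5001dd900159000150b00141a00171200233a0017160014560016f600167e0000cb00017a000e5d000e5c0000c40000f80009c70007a90009ec0007a70000b400099c00099b00005000008200099e00099d0001080000c600004e00938e0033dc00b3cf0088ca008d9500a11100310100a0e000777300c4a700736600c1ea00305400aa9f0030b600a084008d910088ce00b44500342500b41400221b00bae70034f6002f9700218600344f003b26002d8c005ad20050e6009a250092b000a06200ab0a00c949004bd80039fd002d2600197a00524f002c4e00312b002f0d005b1a002dd7005a6d0092b6009a26008b1900a73a00c38c002e2700128600139700193100354f001ae2003cde0093e7003c8800396000ad7e else (cT_17_19 j)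
def cT_20_22 (j : ℕ) : ℕ := bif Nat.blt j 21 then nat_lit 0x7f160022c5003280003cfa0099ec001156001d8200132d0012d300138500145100851f0011ed00154c0014730030d7008f5c0018930088db006c2f001dd100348b0070a00011a40080ee0022b00019bf001160008f600018910078a6000f490070a80011a20022ae00173f001dc70017500019b50015f80014100000ba0000f5000efc000eb60017340011dc0000c8002962002964006a6800423900585000428c0088bf0024eb002530002532000c9c000c5a00ddd30091f300c3db0024150062440026d2002686002688000bcc000c100056fd005dac005a6200087b00270600abc20024b2007032007696002bf00075a7001c48009f7c00769800aee6009f7a00b8070092a2001cde007a7100acb80062170039a6005d100064b20028b400292c00274100628c002428009719009743000e300063f5002b8800623a007cf60070a200636b0063830015ea00087d0063ec006cbf0009920027430061bc001c0c0008840008020027110056d7009280008991001c570091a90055cb008d64 else nat_lit 0x13750034bc00123500146400bd5800b3a000afc1001149000fa0007ade0087e900ac68001b14001b160095c0007c6a00c32f00b4240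0818c00149c00be4200a01700bbd400111e00aaf000c66800a019009a08004bc000a01b0020d100224000397000187b0022bd0079e600bbf5007b2b0020c3006d7d0015ff002c570010b900188700319f00c79300c7a400798a009067007973001882001885005bb600c3b400148400be3f00a04300a5ee000f3200111f00a013008e7c00960b001b08001b0a0095c3007c6900c32c00a0f000819100219300bd5500b399007adb000f9f0099bb00c70a00636c00b0e7002e0f0093a7001ea800224800127500118c00328100cba800bfb800a195001e9a0013db0011d9000fd800133f00119800148900d65300761600d6a80063f70014c40011930011960061be0012c700148100348600781900a1fb0083b400327b0022be003b77009600000f3f001e09006d6a002243002d0f003378001cb500d8e4006bc400776b0014670030d20078dc00aa6a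
def cT_19_22 (j : ℕ) : ℕ := bif Nat.blt j 20 then nat_lit 0x5c5f0028b600272b0029ef0092e00063d8002b910060ef001c700063ca00088000088200273c0056bd0074c60027db009bb70055b100754600236c00270b005544007e320056f60063800027fc001bf5000a3300272400899200240900856d0027180063db000a5d00271a00274f00274e00274d00272c0024010023b70070b70054da0039c200709f0009b8000a140027ae0027a3000a65000a640001ae000758000e350027d30027d20009ba000a86000a850022a5000a1c0001b4000e2c0009bc00020400c3f10073670033860031aa0035420090b100231800714600bae60017bd0017bf0015a60017ec002f8900218d005cc000995b009a850099c8007a9600c9500099f400b0ec00310000b8500031dd009aea00999d00ad5500a16a00714d00d07b00ddde00daa30078b300c1c9005b5300929d00d07a006d840018d400929c00ddab00bb2300929e002c6a00933700b14a009a88009a5800c97a00b0d3009a2700342400b9440033de0074a600939000939400939200221c00cca5 else (cT_20_22 j)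
def cT_16_22 (j : ℕ) : ℕ := bif Nat.blt j 19 then (cT_16_19 j) else (cT_19_22 j)
def cT_11_22 (j : ℕ) : ℕ := bif Nat.blt j 16 then (cT_11_16 j) else (cT_16_22 j)
def cT_0_22 (j : ℕ) : ℕ := bif Nat.blt j 11 then (cT_0_11 j) else (cT_11_22 j)
def cT_22_24 (j : ℕ) : ℕ := bif Nat.blt j 23 then nat_lit 0x64bc00098d000aea0008c4000dda000dbe000dc900098b000dd7000dd600007f000dd500094e0002000004ed00225d003527001b4500160c0002e600223700223600015c00015e00096200095f00020200b417009461009a56009a22004b7300101b0059db00bc34007efc00b092009a60000fc800a0e300b11f00b11a007a9b004b2c00106100c38b00b09000c207007efd00bd4d00a09300a1b600105f00c6010095fa005aad006cea00355800355a000f80001d7600b3d80087d9001e38009a8700a086002db9004b4b0030df006fb8001044003551002273002db2006cf700227b00681a0010ff001dfd0095f8008e6c002107009a6400a1dc005ab4004b92003493006f6300108a0015ae0015b00088c10010d000bd6c0099a400d46e0099f20010c5004bac00ad94004b6400718e0080150031b80078970078a80078ac006c330031ba0078aa001f04008d88000fef006b5200bd0500b0b20092e2000fe4002dfb0092e4004b1d002bd70082ab00137800137100219b0021990034be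 else nat_lit 0x21d4002ee500beab002e2200329300a6ad0039fa003ba5006bc90092530021f2004c40007ae1004bd30017fb007361002137003c9500351a0034f20011250084a000303f007771000fa600735f00150600221900157b0015780015750014eb0021eb008024002cbe0078af0021db0082ba0021cc0021c50022020022000021fe0021ff000ef0000eaa0021fd0017ee00017400015b00355d0021420021fc0016f50001600002e800355f0021490009590025410024bf0055a3002697002435002b8600282f00664a0028b00066100054ff00b72400284e0028450024fb00248a0026e200246a0043e200282d00283800282b0015b500099700355c000dce00054e0004ef0018f300142400aaaf002cff007d260093470018080018220015c50017f80018030014200015730015720000b80054ca0008430023ee000da10023eb001bdd00b73400b8d500599d006ca1006ca500132f00351e00b73c00928900396d006ca0001829003588002fbe002cb50015d30002ee0006db0067bb006611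
def cT_25_27 (j : ℕ) : ℕ := bif Nat.blt j 26 then nat_lit 0x2dd600a73900a183009b3a00c953008b1a0053b700c38d001287002e26006116003baa002175002f980019320021870016ed0016ea00b1c3002d8a0093e600b169003c89003c3e009ae200bbcc00ab0c00bbcf009ae000a0b10086c7001e20006d50002cd2007c5300188400392d002c5600315e005bd700909e009b9b002e73009ff7009ae3003b99003beb00a5f500c29000a25800c2930059d000a256007ad1001d9900613d001740005e9b0038ec00119500134000138b0012e800139300339100b76600322600ba0c009abe004c9400b9f700352400ba2700b8ce00c44b00c50600763500c45c00c4cd007633001d42001d44001f00005ac0002cc900315c00322700b76700339000b711007578004c9b00b7ce00396700b75100b7500067f500d11700ba2c000e3b00d39b00cfe90014a6001a6f002dc50012310013310012d80035130051d700c17e00358300c0ac005163005161001f0900350c0053c300c01300356e0067fd0014a400216600123a00dbc3005256006d2100d6be else nat_lit 0x155c001419001afa00716d006d0700171700707d0014550016f800231a0016fc00167f00155e00119d0016de00167d0000ca0001790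017140013340016df0013370000c3000e44000e430000f7005d03007216005ced0009b10009eb0007a800152500141b0009c90009c60009c30009af0009c00009bf0009be0009bd00008100173100173500198500193c0001070017110013390003ce00097f00097e00075000938d00c2ef00d0dc004bfa0074a700b3ce0088cb008d9400a11000878500310200b3f300b4b100a0df00c8bd00c955007061006d86003ba80077720077e4006ff600303e00305500aa9e00dbbe00bb22002e5000d2bd00a083008d920088cd00b444008dd900342600a0bf0093be0093bc00cf1a006ebe00cd5a003c980063c900221a006ef800138000216c00158b00344e004c6700346b002d8b005ad100ab0900b48200a03400c94800a0610051cb00cf570039fc004bd7006329003376003c9a00683700197b003053005250002cd300312a002f0c0030b7002e72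
def cT_24_27 (j : ℕ) : ℕ := bif Nat.blt j 25 then nat_lit 0x180e00356900357b002cb70035760013ec00357700214700410c00410e000d3a0029fc005c03000c26001b950072e0000b43005c39002a47000c700007b7002bc50042f00065e30042a4000947000caf00556c00556a00c45e0023730054cf001cea0041600065e10041b5000946000bdf005667005665005ebd001bd1002824001bbd002c1a0041140062e0006818000de200929a0039a200678d0071a80028b90058d70043220065e40067f4000dc10064120008860068100043d6002874000cf80061e700292d0028b7000b900061cd000803000e800058d00064c9008c97006ca2002c210061f5000954000973002c01002bff002bfe002737000e0e000e0d0058de00456d0027c0000a9d00357a0035790007570004f100992f001d9a0020db00905d001cb7005bb000524b005b5f00c49e00c4a100aae7001e21001eb20016ef0011ef0012c10034d700128a0034e50034e60053b400b12f0051fe007a1f0052480090660090680051c8009a6a00536a005ea90012890034b10034f9 else (cT_25_27 j)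
def cT_22_27 (j : ℕ) : ℕ := bif Nat.blt j 24 then (cT_22_24 j) else (cT_24_27 j)
def cT_28_30 (j : ℕ) : ℕ := bif Nat.blt j 29 then nat_lit 0x60e00008be0008c0001c4300796b007f38000a0e007d1500811100ddad007cfb002b8d0073a30078ba000a280060c6005dd50029b3001c1f000a90007fe3007d08008162000a4a0060e3000e21001c6b000a66001c62000a6c000e250074ba0077400071070075a40009dc0009dd000a47000a45000a41000a4000076a000a06000a03000a000009db0009fd0009fc0009fb0009e000116e005a1b003a04007c9100337400d4a400525500189d007d17000f57008653002141002bd600cee60014e30017e40011ae00157100b17b00344d007b51007b530043c6002263009b0e002e4d00a03500a1860043bb0022600032650094340051940073cb00943300154600752d002faa0075f500716c00883100b862007730002cb6007ba200c2f90051600051620039fb008021002cbd006c350014bb00b4db00512200d71100b4da0022cc00d6e500233c00b4dc00c0cd008e20006b4f0009760013ed00d04300bb2c0021650014a30082b7002138002c7200137d00326c00212d00a89100882f else nat_lit 0x2bc20061ab0012c80011d000d6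5e00761700d6a70064ac0012c6001499009371007c11007f87007bf70032820022c7001e04007c61009e00006c6000682e002254009063008127001cb400d7ac002d0a00776c002196009b020083a30082d00080b60022bc003279001d7d006dad00b29f006f13002c2800225200132800132600d6b00011ec002c750015370030d6007c6d001dd000348a0076ec0019be00115f007c65000f480076dd00115d001541000f46001415000efb000eb500718f00ddd4009f7b00247f0090c5005de700623b005f22000878002b8e00ab8c00961a002a3900a4aa0024ed00719000c46a00e1f70057d6009223006458007e95002a360060800026d4005de6006274000e6b000833001c7f0060dc007d14007e9800913b006866000ae100759a007e9a00292900292b0061c50061c7000ae80060d70060c90060c7006083005e300008bb0064a60060c30007ff00080100649d005e880008c20060eb0091fa002926008527000ae4000ae60060e40060e10007fc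
def cT_27_30 (j : ℕ) : ℕ := bif Nat.blt j 28 then nat_lit 0x232200c1b1001f0d007ba4002cb9002cbb0014dd001e5e00ac6a008e1e00232b00bf8a00123e00bb2a0013ea002c7000150f00c4ca002d070033750014fb00d6c20015700014e200aaae000f08002d06009346000ec20015190017c400141f0014b60078e600750700153200d1bb0070fa00723e00525200326a007823007ce50032860073d50021fb001743004c840014d600c97d006d230052540014f30073d30023370014fd00bf03001899001cb600851a0011aa0011ee0014f00014e000434a00581e00413c009004000ce8005fc20065fd000b80005ff600603f001c78000b3500753a00644f0009d10072b0000adf0075fb0072e500236f001c36000d2c007267006448001bfb00603e0008b9006446000e3e001bcd0009f6006445001b8b00236d000d2a005cd60007ad000a3200152a0015280015270014c9001c1d0064360080fa00707f001c26005cd5000d84000ab1001c15000a3000c0d700717a0077ed00707e0070810022b400d6e7001dd800920700798500158f001681 else (cT_28_30 j)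
def cT_31_33 (j : ℕ) : ℕ := bif Nat.blt j 32 then nat_lit 0x218c0017c0005cbf0015a500aaa000aaa4009a8400d3660099c9007a9500ba0200cf6c0099f500b0ed007062002fb3004bb70053c100878400b84f0031de007f5e002f07009aeb001e8a00c3fb00ad5600c7ea00a16900999c00d54100dddf0071f900daa400dddb00db2600d05500c1c80031ad00d07900daa10031ab003118006d85003168000eee00d54300e04d00c3f70018d500933800933c00a0b5006939009a55009a5900b7d800c9790099f6009a29006ebf002204002e060051d5008dd800b9430033df008362004c620074a50020b300c33f00939500d28800939300939100cca600730d00dbb400d6ec00d6d700d52800d0c200bfa100127d00d28700d6e200343c0022e40015040013d2000ea800d2b000d6d400d2b10013d000bc09007afb0087df003557005af1009f5500b3d2005aae00355e0039460068dc006ba100d4e500dad700b9510078b400c1ca00715200927a00bb2600715d0092a100c3fd006d830018d100319900158300110c002289001d54007afd00a6e5 else nat_lit 0x9bb8006d6c0055b0009084007547005d11005d1300270a0096a4005543007ee5005575000a0b0056f70086ba0070ba00637f00638b0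0132e00098f00438f001bf4005d19001c0b00272500551a0083840027c700857f00240a00915d00236b002717005491007ee20027b00063cf001c6f000a5c001bc90027500023fe0054e40027580023b400272f0027680024000027650023b60080f60098600054d90070af0039c10025830070a600709a00438700709b0009b7000a130063dc0028ca00684c0080ef000e880027a40027520027560027640027630027990027960007590004f3000e340070b000862d00bdda002bec0070a30009b90027e9000e1a0027af0027b8000e8a0027df0027de0027dd000a1b0015d90015d80000b9000e2b000e2900174f000a1d00020300537500c3f20077e3006ff7003056001e4400302f00220c00353a0031a30023160023190023120022100071450017a800c33e005209006ef900138100158e00211300232a0017ed00160e002f3a00221200220b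
def cT_30_33 (j : ℕ) : ℕ := bif Nat.blt j 31 then nat_lit 0x8e7200681b002d6300b35a00930a002db300214a002d6100b8b3000dd000cca400b85d00d6d200bfa30013e90015d000c2f30034f3005d4200cca20014e50013e60013cb002f3000159b000f8d001b4200121a00a40100d73600a40600cb6a00990800aed4006996001e880068dd0043d800110d00225f000ef100757300ad8f00a18400dc5900d5b600d5e600d3740031b600d5ed006ba400319800904a00ce7c00316b00316e00aed200c4f300a3b500c50100aac000a403006b5a0015bd006cef000dcf000f8e00015f000998000eab009ac300a221007b5500d6c900c1e000c8e100c1e200c8ca002f4d0043bf0013ca00c90e0013e1002f33002f3500c333004bbb00ceb700819d00cf6900c3a0006c5f00c3b600c3b50015de0027f0000ee60022c600152d007b18007a3c00ad640068e1005bb700c39e001c9800c43300c432007989005bb500797600c330002e0a00c9e400b0af00c6b000dc8a0099b600c3380069990015e40027f4000ea000327a001e950083ca007b330093a3 else (cT_31_33 j)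
def cT_27_33 (j : ℕ) : ℕ := bif Nat.blt j 30 then (cT_27_30 j) else (cT_30_33 j)
def cT_22_33 (j : ℕ) : ℕ := bif Nat.blt j 27 then (cT_22_27 j) else (cT_27_33 j)
def cT_33_35 (j : ℕ) : ℕ := bif Nat.blt j 34 then nat_lit 0x20d00067e300854c005c5d001cdf0027d900b34c0063ee00bee200acb7006d7e0055c900bf2d00c87c0039a7002488005d0f00dd450064b3008c9400923b0028b30039a5007744005d0e00274000628b00627e008d850024290097f800971a0029f40029f6000e2f000e31004213000cf60082d600822e007cf5002b890084890060850082340076f00063130063150062e6006cb00062e5001ea7006390005a5e00087e00087c0056f800cbc3007f350080f8006cba0013dc000991006ccd005e010009930024680061bf0063eb0061c30061a9001c3c000885002b830061aa001c0d00271200ca4e0056d600856b00568a002bf8008990001c5600921400852500857e0091a7009206008f7a0055ca008d630091fb005c5e00909c0064b70064b900272a00b37a0029f100971800558f000e150063e9002b920094bf00815f0063cb0089830063b700275b001c710063d90060f600087f0027590061cc000e8200273d009d230056bc00739f005670000a2b0027da0075410070b5009bb6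 else nat_lit 0x88da007cb7006c3000303a008f10001dd200303900348c0034350086e70012cc009f7f00709c003fdb0022b10080ec001536001534001b00001e5600116100bbf0001b0c008f5f0018920078a700189a002125000f4a00bfbd001b120070a40011a300219c0011ab00173e005bcd001dc80017510012de0019b600176a001dc600176e0019b4000ef3000ead000ef6000eb00000bb0000f60000bd002124000efd007d1c001e55000eb700175b00173300122e00174e0011db00015d0000c9006a690042380064d200584f00428b0064d400b0080024ec00bd6b00adf10075f7002531007656000c9d002533000c5b00665100c4a3005c9500b747001f03005c930062670026d300604d00603d0060d1002687009003000bcd002689000c11006377002b9000083e00519200123400083c00270700702f009d380088be0024b3007033007031005c31004327002bef002bf1004266000b8e005d140078a50075a6001c4700703000b51f007697007699007f9700df780096fc00aee500ba01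
def cT_36_38 (j : ℕ) : ℕ := bif Nat.blt j 37 then nat_lit 0x873e0088950095bf00ac69007c6b00873b009edf00818e00ceb100aaed00149a00b3f700149b00c1c5007ebb00be4300c3bb00b1ef00a01600bbd300a0aa0077a9001b1700111d001e5700b17800aaef00349000c66700cf3d00a018008011009a3d00a06c009a0a00a01c009a0900a06e009a1700223f005b020020d200173b0035a6002bcc007f39007b2800bbf400116600a7010079e700a245007b2c00a1990015fe00176c000ee700392f00993c00aa6c002c580010ba0090d70018880031600032340031a000c0cb00792f00798b0022bb00c43000c43100d40a00797200ddb90010b8007c6600797800148300c6af007ebc00d6f000be3e00583100a04200a5ed003b81000f3300112000a01200a014009844003d04008436006e6000997d009937007c67001b0b008894008f14009f360095c4008f11007c68009f7d00818f00ccdc00a0f100219500a0c30020b800bf9e00819000c4f500bd54009bc700b398007ada00b3f1001b070084d5000f9e002126009af200a0ef0030dc else nat_lit 0x104300355b00355200b81a00324700359c00110000226c004ca00043da001dfe007ce80022790033b10095f700c4bd008e6b00cec80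0159d00933b00ac61009a630087e1002108005ab5004b91003492004b21006f6400108900227c0002ef0015af0088c20022d600c44300a4b000931200beb100d46f0099a300d46a00d4690099300030bf00d46b0010c400b2ab00a9d10010420099a500cda0006fb10010c6004b650088d4005b000080140031b700718d0078960078950081d40078ad008b1d006c340077ec0078a9006c32001f05000f04008d8900c5310015bf00af3b00ac6000c59900c33700bd0400ac9d006b5100a6bf00c57a002d81000fe3009e0c0074d600108800bd0600b0b3006f5c000fe5004b1e008d9b002d720082aa00137900284900225e00219a00137a00137c006307002fa30022b30034bb0034bd001236000ebe00146500d2700083f100bd5900bf9900675b00b39f00afc00010cf000fa1007adf00b396009d0a006e17007e500096050059ef001b13007c6c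
def cT_35_38 (j : ℕ) : ℕ := bif Nat.blt j 36 then nat_lit 0xcf6d00c70900b39a0082a700ac780099bc00b0e90093d100b0e800b3b90093a8002249002d74001773001276002258002bc1007f4900a19200bf9000bfb9000f4f0099a800a1940079eb007b2d0093b400160400122d000ea10059ea00a1c30038ee000fd900133e00178300119900339e0012e30016bd00c1b7007cdc00761500328300bc4300bf4500cdff00bf4600ce00002bc4000fd700bf4900175c001482007e630034340034320026e00015c400a1fc0083b50074c300327c0074c2007cdb007f9c000f3c0095ff000fe800347a000f3e000f400071ec0015fd0039720035a9005bc000315900223900197c00537d00337900c3f800d6b700bf0400cdbf00337700bc440014660084490031100030d10024f900180200aa6b007f1700a8be0022c4007bbf00792e0082e40011530099ed0010c90030c60011550011570073000016050012d40013290012d100138600222b00521100193300138400145200d6ac00d6ad00851c002176005d1b0030d8003111008f5d005bbb009f34 else (cT_36_38 j)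
def cT_33_38 (j : ℕ) : ℕ := bif Nat.blt j 35 then (cT_33_35 j) else (cT_35_38 j)
def cT_39_41 (j : ℕ) : ℕ := bif Nat.blt j 40 then nat_lit 0x15a20034820014ea0015680021ec004c0500c758004ca50080230078ae0031b50021da002e5b00c4b90035600082b900137b002f4c0022030053ba006c380078b0002fb40051ce001505002218000eef000ea900221100220f00220e00138200159400122700017500220d00161300017700016100226d0035680025400058270024be00c45f002696005826002434005ebe00283000547700a57500c1930056ed00c68b0028b1006649008a380039aa0056f500550000990000c0280056df00680800286c00ce2200440100397c0024fa006cf00024890039a80026e1006cd60009940027f80043e100b720007c4f0091c8002837006ce000284d0028460028000027fe0027fd0009960043c4000de800c3640034e100aaac009dc10018f2007006007d25002d08009344009348001423006f08001809002c73007ff70018f0000f0700828d001421000ec10015ba0015b80054cb000842008f460023ef00c4b70086d0000da000518d0023ed001bdc00b73300b8d400673300315b00b72e else nat_lit 0xb93f00da190058e000642c005e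54000953005f19002c020064c4007c3900ba75002c130061de002736000e81000e11000e0f006b420077d900dea2008fe50056e60043fb0058f1000a9c00412b0039b900412a00398b0043a40027620039ae0039800004f200992e005a1a00c3830020da0080ea00da6400524a00c49d00aae600769f0059d3001eb1005e9d00c94a0034e90034e700d65600b0ff00d04100b1300086ca0051ff007c57005249007a2000cb4200904e00bf60009a3b00c8cc009a6b007acf00536b006119001288005e9c00cb3700350f0021d50038eb002ee600b57600beaa003596008b6300329200800e006e63002e2300a6ae00a772007475003ba4006eb800337000337200d49a0021f100392c004c410095f6007ae0002268007ae60017fc0082a4006e1a004bd400b073007362005eaa003c9400705b00216f00217100cecb002fad00112400cca1002e210017cc00849f003ba600220a000fa5007ae2004bd20017dd007dfc003c9600157c0030ce0030300031ac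
def cT_38_41 (j : ℕ) : ℕ := bif Nat.blt j 39 then nat_lit 0xb8cf0066820012d900351f007310006c54003591001f0800396c0071fc00b897004c8700123900b840006d200067c600359a0035890035860035850015d2006878006612006c9f006bb20064c3000ae90055ae0061dd0008c3000e1c000ddb0061ee006877000dc80064d000098c000df5000df3000df0000df1000a82000a81002bb300094f000a84000a83002bb50028150004ec0004ee0004f000225b00352e00223800223b001b3400160d0022200016dc00096600096d00097c00094d006fbe00a0e500687f00b0bc009a2100c995004b7200101c0059da0059dc00bc3300ccba00a8a400ccbb00b093009a61004b74000fc900ccad006f6900a0e400cce50099cb007a9c00d21a004b2b00106200a70b0072f000b09100c20600c99700a8a500bc3500c98f00a6c700a710004b2d0010aa00c99000c20800a09400b8bb000f8100356500356700456c001d7700793b00b3d700c3820087d800158100ccb500aaa30099e700a670008e74001e39002dba004b4a0030de004b68006fb9 else (cT_39_41 j)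
def cT_42_44 (j : ℕ) : ℕ := bif Nat.blt j 43 then nat_lit 0x2e6b00d30900b9b3002d87007e7600d18400d2e000c50500845500dafe00c85c00dccb00346f00d5e500bc3f00763200763400c45b00723c00ba39001d43001ea1005b08005ac1001eff005abf002cc8001d45005b4e001e5000315d002d8800ba0b007e7700b71200757900ac9c004c9a004c9c009ac200c34f003ce700d54b00b7fb0033930099a000dcb700d55100845c00d39600d11800d455007e6f005e8b00d9ae005e8f0030bb00df7600c21200ba2f00ba2d000e3a0076280021f90014a7002d7a002dc60020ca002dc400123000148d00133200211f0012790012d70033e000b9420051d600b72b00c17d004b4200358200d16d00b85900c44900c0ab001b92001f0100747e001f0a000f000031df00b84e0053c200d0e800c01200358e002f0900d5d200b94d00ce0d005ea80007b400754f00123200123b000eba00c1af00882d00d6e0006d22001cb000bf88008e1c00d6bb0035020011e800357c007ba7002cb8001f0c00357500b9540013eb00123d004c8f003584000d39 else nat_lit 0x2e71002dd5003bef00a73800a18200c95400536d006c360053b8008020009b3900c38e00cf05002e25007ac500611700d204003ba90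0520f003c99003bab001bf200512e0034c200216d001454001680004c8300c4180016eb00133500b1c4002d8900b18c00ce5d0066b60093e5002d7e00ab60003c8a003c3f00a6a100ddaa003caa00845800aec100c94f00ab0b00a03d00bbd000d165009ae100bbcd00a03c00bbce007a210086c6001e1f007ac60070850077a000bf42006d510010b700323200392e007c5c00316f00993a00315f00c367009199009dc0005bd6006d6400986a003b5d009b560066f000c4ce009ae4005b0c00a299003b9a003bec00a6a000cb30002d7f007e7200a3f000cb3f00a6e700a25400c29400c5110093bb00c29100a25500c292007ad0005e91001d980074cb005f5a00b70b001741000d8000339c000fd60038ed002bf40095b90021e200138c0023090093490022d90012e70034d200339200b7aa00845d00df9e0099a2004c93004c9500757400c350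
def cT_41_44 (j : ℕ) : ℕ := bif Nat.blt j 42 then nat_lit 0x8b0e0029fb005c02000c250065dd00b00b00a69d001b94008601000b420076d3005c38002a46000c6f0065df005efc005efd0007b6002c2300b1c20029fa0065e20056b20042a500425d00553800b04200556d007ab8000cae00556b0086c8007c5200d40c00d4bb002372008531001ce90054ce009b9a0041610065e00055390041b600420a0056b10067f6005668006b5f000bde00566600641c005f0e00a668005f8a001bd0002839001bbc002823002c1b00ba6a00411500884e006720004218006817000de1009fe10062df00e5d700ba2900949000ddbe00b7fe00678e0057b70054ee006cb3006cb50028ba0023f90058d600b3860043230065e500664200426b006812000dc200b7480067be0067e9005f8f006405005e55006b3f0067f3004354004356006b4100612f0028750023af002c0c000cf70042160061e6000dfd00927b0092360028b8002c09000b8f0042690061df000e770061bd0061db0028730058d100ba9c00b7170058ed00b044008c9600c3c7006ca3002c20 else (cT_42_44 j)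
def cT_38_44 (j : ℕ) : ℕ := bif Nat.blt j 41 then (cT_38_41 j) else (cT_41_44 j)
def cT_33_44 (j : ℕ) : ℕ := bif Nat.blt j 38 then (cT_33_38 j) else (cT_38_44 j)
def cT_22_44 (j : ℕ) : ℕ := bif Nat.blt j 33 then (cT_22_33 j) else (cT_33_44 j)
def cT_0_44 (j : ℕ) : ℕ := bif Nat.blt j 22 then (cT_0_22 j) else (cT_22_44 j)
def cT_44_46 (j : ℕ) : ℕ := bif Nat.blt j 45 then nat_lit 0x9e20009e1001758001736001778001b4600198600193d00010600173200172100173000133a0009a400099f00099a00099900730e0051d400d6d500bcd7004bfb00d6eb00836100b8ab0079de003bf000b3cd00ca6a002dff00a10f006b00008369003103007fc000b3f2004bb900830700b8a200a0de00537700cab90068eb003ba700c938006c3700849e0073ad001dd7006d0b0053c00071fa00dbeb00c93d002e51007f5d00d2bc00b8df009aec003c4300a08200cba4008d930088cc004bb000b443006888007f6500342700830800a0be002e08007fbf0093bf00b9230093bd00b4b2006ebd00c55f00520b007060006ab5003c9700c3ed007dfb00137f0073bb00158a00158c00b18b00c2ee00d542004bf900346c0074a8003ce1003c40003c4200ab0800b48100cf1900520100137e0051cc0082b600a03300cf56004bd600631b00631f00537b003c9b00632a0077e50051a000303d003052006d0600525100c41f0090650016fa009b5500da5600bb21002e4f002f0b00b088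 else nat_lit 0xc1d0064440009f50064ad001b8c007b6e00236e001c2d004189000c6700643d001c04005d0b0007ae00643b001bcc00152b007b6c00154200643c001c3000796c0080fb001c1c00811b0089a50090c3007080001c7e0073a4007d09001c2700604a005e08000ab2005f59005ce20077410080e9005cde001c3f000a3100c0d60071790077e700749a00d73100717400708700602d00daa600da6100d228001dd50077ee00d73200798400da9f0016820034dc00761a0018e7001dd300d6ab001418001586002fa50033e9006da7001af90023410031e800748d001718001af10073ab0016fd0073bd00115c00155d000f4500141600169a00169300178400119c0016c4001637000176000178007793001d4600738400133300168f00168c0000c20000bf0017150011e0000ef8000eb2005d02006d58002586005cfb005cf80009b3005cf7001b8a002584005ce10007ac000a120015400015330009ca005cce006d4c000e5e005cfa0009b00009ed0009ea0009e60009e7000e46000ab6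
def cT_47_49 (j : ℕ) : ℕ := bif Nat.blt j 48 then nat_lit 0xdd100c94d00ceca0021720043fe0011ad00d61600350100b18a00344c00b6c800e025009ac4007b5200be9b0043d7003592009b54002e4e00986c00757200c39400a1870079f6000de9000dee003266003b3000ce7a00744e005195007e570073ca00c2a100c745001545000fd0006f4700a3b700745f00d323007463002fa900759400d7d400c0a200716b00883200b8dd00dbac00b861002bb4001530007ba100c39800c2fa00c9c600c3c6001f0b00baea00849c006fec00802200303c0014ba002f0300da2900b4dd005123007b1900d48900bbdd00ce740010b10022cd006f9c007a680099cd00da2800c0ce00233d00b4d100bd0800c10b0079b9008e2100d6e40067e500799f002bb200328800ce7900d04200bb2d0067e600095200123c007df9006eee0073630082b800216e00326d00cc9600212c0073cc00930600156200d6c400232100760700c0a400882e00c36200c1b00028d000d283007ba50014dc00d402001e5d00d9b500b4990017b400c69000232c00799900c10d else nat_lit 0x919b00919a00292700759900919d000ae300909d0061d40061d60060e50060f20060f10060ee002b980007fd0064930060ed0008bd00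1c6e0063e0002bb0001c440078a3008041007ee400803d0056f9000a0d007f850076da007fe700803c006bb000811000dd9d00778b0061c400c0cc00778d005d1f002b8c007c2e0082250073a00078bb0027d8000a29008229006c0b00828100608d005e68006078005dd40029b40081dc001c2000607f000e55001c5100804700803e000a8f008173007d0700919c008161002b9700647a008226000a4b0060f000271e001c5a005d26001c63008532008526000a6d005d66000e220074b90064970076e4006da50075a3000a780076db000e57006495006c4f006da3007c36000a80000a77000a69000a54000a6b000a68000553000a070076e5000a2f0075a2000a87000a48000a53000a46000e2a000e2800b6c700d1e900c95d00116d007ad2007c9000d70600337300c4440077d800189c007b8c007d1800986b00c90900c908000f5600adb8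
def cT_46_49 (j : ℕ) : ℕ := bif Nat.blt j 47 then nat_lit 0x8e1d00c35e00bf8900288b00d05300bb29001510007bc10080b10017b700d8a800c4c90014fa007bc7007bfc00155f00d6c000c94c00aaad007007009345006f09007008006f0a0014b700bd1e0078e70082f800793700171b001531007b91008442007f5800b8de006b6300723d008cae009a2000326900ccd9007824007fb0007ce4001af600328700ca60007e5c00835c006b5d0009770021fa001742007a9d0014d70080a70074f600151600d6f6003272007c06007ce60014f400c36100d8e200851b007b8d00c94b004349005fc600581d00413b005ffa009005009478000ce9005fc30026d5009b0f000b81005ff70024ee001c79007652000b360074c7007650000c1f00644e0009d0007596006d4b00809d00764f007731000ae00075fc0072af001b8f001b91006320006322002370001ce6001c3500769e000d2d0072660072680009f2006449001bfc0083350070c0005e99005e09005e070008ba0073fb005e0b0007b10007b3008feb005ea7001bce001bb9001c16004319 else (cT_47_49 j)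
def cT_44_49 (j : ℕ) : ℕ := bif Nat.blt j 46 then (cT_44_46 j) else (cT_46_49 j)
def cT_50_52 (j : ℕ) : ℕ := bif Nat.blt j 51 then nat_lit 0xaa4600a3ee006c5e00c3dc00682c0069970015dd0027ef0027e200110e002251000ef20077970015110022ce00116700106500152e006feb007a3d0068e200c39d00c3bc00c45800152c005d0700939700d362002e0900a71900393b00b0ae008f4e00990a00aebf0099b500cfb3006aac0069980015e50027f500274a000f8f002250000eac00832e0014f900832d001544000f5000101f00328a006eed007b3400699a00d00800cb38002bc3007b6d00328c00d6b600c597009370007ae3007c1200342e007bf6007bc2007bc4007f83001e03000f38000fe9003c12009e0100d17f009dff00682d0035a5002bc80069fa005bb800aaba008126007d1f00c43500bf05001cb300d84a002d09008128003371006dab009b03007b4300942400310a0080b7007bc6007ee8006daa001d7c00114f0010ca003c6500b2a000ca2800b29e00692c002259002bbf0045580093520012c900226e00175e00d6ae00d6af00d6b20011eb002c74001325001afc00bf4a00be53006e5e001b18006e15 else nat_lit 0x3c8d008e7300681c0083fb002d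6400d4de00b35900359d00930b0031f5009309004ca100390400ba1b00b81900cee7007c1f00b85c00681d00d6ed00d5250083f500d0c100bfa40015cf0015d100b85e00d6d100a37900397d00281200d0c00013e500c2f4005d4100d6f1002f4b002f4a002f3100159c00a8e3000f8c0016cf00211500121b007a7e001e1e001eaf00aea3004182006b610069950022d700990900b0df00281f0088c30022640015b900935e00cf1100ad8e00ad9000b30200d5b500d373005a1e00d48e00d5ca00ce0900d3790081ba00e3d000c35c00715f005b4c00ce7b00904900cc9100918a00316a00323300a8dd0020d8001d9700aed300a40200a3b400431200ccc600ba6c0015be00aa47009a00002802008d8a0015bc0012220079f800c8e3005a24005a22009eb200c8c900a18800c92200c92c00c88200c8cb00c88300d6ef005f8400d6ee0058ef00c91000127700c8840013e00043c0002f3200339d00939800d846004bba00aae90038fa00819c0086d8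
def cT_49_52 (j : ℕ) : ℕ := bif Nat.blt j 50 then nat_lit 0x1b0600171f00779a00303b00154a007792001535007666001cad007dd60011e500b38900e20d00c46800b51e00788b0024800091390096fd001ce3001ce500636d006243006245005ecc005de800083800636a002b8f001bb6001bb800c0dc00a4e60041bf009d37002a3a00914b00a4a900ae27007ab300e23400e2350090cd00c46900df88006ba500248100c3be00e227002485002487006457009f250042ae00646000549c00902500a5fe006375007e3d006284006042006283006268005f1f005f46000837006281000e6a0024650024670060db00badb007fed007d1300c0dd009f2400893800914900b04f009121007733000ae2000a0c001c170064a7007b2500abff00773b00292800899c00923c00292a005d0a007f300061c8006c02005d090060d800ba9b0080f50060ca00623c00a4e700609d00608200609c00609a005e2f0008bc000a2a001c2c006e8d0061ae006099005e660007fe00619b00606e0008000061cb0064a50064a40061c2005e890060ea008172009287 else (cT_50_52 j)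
def cT_53_55 (j : ℕ) : ℕ := bif Nat.blt j 54 then nat_lit 0x70a7000e890027a50027e0006c040077c90027e80061b8000a180027ed0027ec0027ea0027eb006e8f00686b006c010070b6001c23000e5000537600cf8500cb1c0073ac006d0a0038f40030cc0018e6001b370023150035430023100023130022f500304f00231400197e0031a20017a90017910017a000cf3800520a00d2af0073bc00158d003935003480001417001a79003549002216002225002227001b5b00218b002217001935002f3900211400177a00179f00da6200538b009a8300693700d3650099ca00d00c00801c009f5f007a9400748800cf1b00c40800e0a2009a2b009a2d0093c000ca77004bb6004bb8004c01002fb2007fc100882a00c2ba00cacf007f5f002f08002f0600daa5003c470014db00520d00110a007a83007e6b00d84900a13c00ca7600c7eb00939e007e69001e8d00939c001e8b004c4a00e5c200d2bb00befb002d6d00c01100b94e00d5db008dde00aaeb00bd1900c3f900c1c70031ae006ef000d07700daa0001e430030cd009974002eec003119 else nat_lit 0x4565001387000990006311005e02005eb8001bbb005d17005d1c002726009d2000551b0086fe0087ac000a4e0027c6008f290087ad0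0a60e00928d0023fb00240b0064b6008e8e00236a00271600b2090054920086fc008e45000a8c0027b10086aa0086a90063d00063be0023b10023c1005d27000e83001bc800554e0058fa0028bf0023fd0054e500557b00279e00279a0023b30043930027690023ff0027710023b5008a0800985f009861005bba0054d80070ae00b22a0039c0007894005d20005d220070990070a1006cd40012cb0043880070a90070920039920009b6005d04000e560063dd0096a00028cb008cd1006b8a00258200856e008c6d0028860080ed000e87001bd50027510055bc0057bf002757002b9d00279b00276b00276f0043030027980027a200279500278300277f0039b0002c0a0004f40004f80027d5006c0f0063f2000e3300bddf0069f800ddd500911c0056fc00703600802d002bed00709d0056ee0027dc005e40000e1900861d0081020063de0027b7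
def cT_52_55 (j : ℕ) : ℕ := bif Nat.blt j 53 then nat_lit 0x903c0038f500d09f00cad30031170017a6000eed00d54600521f00933d00b8bc00687e009a54006a4c00b364007b3600a8f3009a4900c97800cca800e0a3009a2a00b0f100a10e00c55e002e05002e07002e57002205008309008e1900693a00de33008363003b2b003b2d003bf400db2400326e005379000f8b00a8e200845100d35e00939600d7aa00d34800ad5f00844f0020b600ad5d0020b400dbc400cca7005afb00c17c00b85a00da4f00878a002eef00dbe900dc3400a0f300d5e400c34100d0c300bfa000127c006fee00d28900c4c7003481009fa5002112004c4700343d0013d300393600d6d600d2b200343b001407000ea700e5b6003b9d0087e0003556007ec6005af2007a4e00227800b3d10033f600b3d30035640039450068db00ba7400943100b95000355500d707007ec00078b500c1cb004c9000d4e700b9520039ab00dddc00715c00c94e0031b100bb2700715e0031b400c3600031b3003169001582007a8400110b001b250017aa001b2300e573007afc00a6e4 else (cT_53_55 j)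
def cT_49_55 (j : ℕ) : ℕ := bif Nat.blt j 52 then (cT_49_52 j) else (cT_52_55 j)
def cT_44_55 (j : ℕ) : ℕ := bif Nat.blt j 49 then (cT_44_49 j) else (cT_49_55 j)
def cT_55_57 (j : ℕ) : ℕ := bif Nat.blt j 56 then nat_lit 0xe4f00271300d73700d62300ca4f00e1a80056d500856c009d8a00568b005689002bf7002bf900898f008ee3008163001c5500d963009b62008d73007dd300857d0091a60092840091fd00920400662f00c2a300ddb70089db0027c500928f0063e200acbc00d565008f7900a5cd00919f00927f00c3270064ba0027290088ae00928500d51500e1aa0029f2008d6100b25200559000558e000e14000e1600870300cc1f008168002b930088ad00b1980088af007a600064820089850094c00063ba0087050063c30063a800275c001c720027b200dff90088060060f50061050063c40061e8005da60061cf0063da0061d200273e00739c009d2400b1a80026df0056bb00739e00567100566f000a2c00739d008f3100a6070070b4008426009bb500c6250071ed009bb90055af00315a00639400bf2e0090b40091f9001ce80064ae00d9b700270900d7d300985e0096a50024f8005542009651005576005574000a0a00870f0086bb00afe00064aa00637e00b1dd00638a00730100639a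 else nat_lit 0xacb6007a29006396006d7f0055c8006f8b006f8c007b600091ca00c87d0090d6006f8d00cb7d0092550064b4007a730027d700bdd800bdd900923a008c9500948f00ddb800d40e0028b2007745005d0d00273f0084e60080f100628a00627d00431000a7f9008d8400559100242a00b17a00c1e70096740098430029f30063fe0064000029f5002a420075e2000e3200842d00a9060041160029f7005d23005d25000cf5007cf300bf3600cef3002b8b00822d002b8a007cfc007cf4008488006086009bc600b1cf009519007d57000e2e0076ef0076f1000a2e00631200cf0200709600631400630a0063030062e80062d400b3ba001ea600639f00638f00639e00639d00441c0062d3000d9a001233001bb300083b008765009e9b00bdcc00cbdf0077f40080f900dffd007093006cc1006cc000639b0013dd0043e4006cdc0080f700709e006cc300280d0015cc006cd70027450063ed0080460080570056fa005d1e0061ac0063f80061af006199005eb9005eba0063fa00286d0061c0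
def cT_58_60 (j : ℕ) : ℕ := bif Nat.blt j 59 then nat_lit 0xd4df00115200b2a50099330022c30010c80030c50011540030c7001111007052002bc00012d000176b005130003bac005212001934001b5f0013830052050014530023080034e300d3f80052100034c30030d900107000a0c800311200b4a2009ede00a1250088d9007d2300b3b8006c310077e80077a800920d00348d00102a00a20700343600931e009f7e00a11c008da000132200708f0060230022b20077a1002fa40022ba007de700116200b18200b54a008f5e005bbc0081d900189b00328400848a000f4b009b230059ec0086e80012cd003fdc0011ac001e4e00173900173d005bd1001dc900211d0017560012d50012e20019b7001e4c005bce00176f0012df000f900015fb00110f00140d000f4300115a000ef4000eae000164000ef7000eb10000bc0000be002123000efe0072b1001e54000eb800153b001e9e001efe0020c700122f00176900119b000294000c5d000b840042370092ba000c13000c1500428a0092cd00ae2800910900b00900600200e15100e2d400adf2 else nat_lit 0x93d200992500224a003535002d7300223c0017740075540017550069e6002bd2000e6800beb3007f4800b35100a19100bf9100c2710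07c75000f4e0088d60099a700a19300756c0079ea003bff0099a900a247007a2c0020c600a1c2009ac7009db90059e900a1c40038ef00b0ba001782000fda00133d0017790013d7000ea2002f0000339f0012e4001abc0016bc00c1b8007cdd0076140083d100bc4200bf44008ad200c5cf00c09b00d6aa00cb3600cdf2005f970059eb005a3300d64f00175d00d1a600d0fa001029007e6200343300ce1700328d00310800a2350026910083b60033e4002d85009fcf00a326002fa8007b7c007f9d00b9f9000f3b0095fe0059f300327d000fe7003479000f3d00347b000f41006eaf002bce005bbf00176d003c9c0051a200197d00537e00315800222200305100537100c36900c36600cdc000537c00bf6300d33300c63c00106f00844800310f00b7ff00180100342c00ad9e00253b007f180033950031e300a8bf0074e600233e00beb40082e5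
def cT_57_60 (j : ℕ) : ℕ := bif Nat.blt j 58 then nat_lit 0x8f2800dfaf002a3b00bbf70090b500912d0042f900a9d2000c9e00ab410075f6002534007655000c5c00901a006650007271005c96002587006652001f0700c460008174005c94006052006369009eb1005fce0063580060d000604f0060a500abd5005bf700c1e10090020092c7004169009b3d000bce00875400a22200268a009c57000c1200760000676b0062f900083f001bda0062ec00123800619500182500083d00270800d7660080f400702e00dd89004180009cdf0088bd00568c0024b400bf3b00bf3900b5b6009d0b0056d40077f7009f33004328005bfe002bee0076e3007906007e470042650043260076e20070aa000b8d005d150075a900d4ba001c450078a4001c4600d7be005d1600d4f100d7f000b1ee009ba7009b65007b110064ab002bf2007b13000a08007f96007f98009e45008b3c007acc00aee400b7450096fb00a06f0020cf0067dc0067e40093ad008fa40091b4006b4b006b4d001f02001ce00028d200823a00b31300a8d8007a6f00842700b34b00d148 else (cT_58_60 j)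
def cT_55_60 (j : ℕ) : ℕ := bif Nat.blt j 57 then (cT_55_57 j) else (cT_57_60 j)
def cT_61_63 (j : ℕ) : ℕ := bif Nat.blt j 62 then nat_lit 0xebf0020ba00d3470083f200bd5c00d33000c81400bd5a00e16000bf9800675c00afbf00bead00c44200a4b1009311008f820095f4000fa2004341002129006e1800b3ed008d16007e51009d09009604007c760073c70059ee009dd00073c40073c200d65f0075e3006e16008e2d0095be000fe6009f26009e9400939a00ceb000d848002d6c00aaec007e6700b3f6001e8e00c1c6007eba00110500d37100c20c00be4400e5e400cecd00b1f000cdf400b99600c1bb007e4f00a0ab001e1700b46300883f00111c008699001e58004b6b00b17700aaee00a6b900349100cc5300ac7400d26c00e06f00cf3c008012008010009df5009a6c009a3c00a76d009af4006a0800348f009a0b009a3e00a09e00aadc009a1800aadd00223e003534005b0100224b00396e00a04c00173a0068cb002bcb0058db007b7b007b7900a75e007b2700bbf300b462001165008d9d00b0b50079e8008b2100ab1b003c5200a1c500a246007a2b001e9d00b25900a05600756f00393000993d0099aa009256 else nat_lit 0xdbd300d79b002109003b7c006a5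0005ab600a78c00a90b00aa57003b9c006f65004b22002dfe0022d500935900281d00d49800a4af007f430022d400a46900c7a600d47000beb000d46d009fc100e4d700d46000d45f0099310030be007e480030c000c8d800d4610010c300a12c00a0a200c4df00a9d000104100beb200ce9b00ceb80077ae00711e006fb0005b1000cda10077ac00ab430099a6009ac50088d5004b78005aff002ef4006e69008013006baa00718c006bab002e2400537000536c007cb200749b008b1e0077ea000f03000f050093580015c000cec900280400a62a0015c1007f3f00af0100d6c500c33600c54000c33c006b50009e8800bd0300ce5e0059f5007e5300347200c562002d8000b73a000fe200a15900a3a400bde60074d900108700cbde007b7a00ce1100cd130074d5006f5b00ce75002d820059f20074d700b16800b0b4008d9c004b31002d71004c4f006e200082a900284a002bda002848004bd50052040052000034c000a02d00a05d0034df000ebd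
def cT_60_63 (j : ℕ) : ℕ := bif Nat.blt j 61 then nat_lit 0x99ac001b290010bb0017880022ef000ee8003b330031610032350071430031a100c0c800793000ce8d007e9c00c42f00c8580076a900798c00c10400cb4100797100dcc800993b0071d6007d1e007979001e9100d286007ebd00be3b00d1ba00d68900be3d00e62a00bf9700583000a5ec00a04100b2fa00c50c00c50900af3c000f3400a1d600869400b57400112100413300a0150098450010ce009323001e5a006e61007e4a00895b009696009f3b008de50085e700993800b270008de800de7d00cdc4008f13007d9300883e006e5f0099800010c700b34900873d00b2f100ad5b00ccdd00ccd2005afa00a0f200844d00a0c20020b700bf9f0083ef000f8600ca2900bc3900bd5300e41800c50d009bc800b39700c50a007b0d00b39e007e4c00bf94007ad9001d90008e2e00a163000f9d008f87002127004b24009af100a71e00a1ea0030dd00ca5700a90e00ca2a00d6e900c7080082a80082a600b13100a6cc00ac7900ab46009af30069a80030db00b0ea00ac7700b3e5009924 else (cT_61_63 j)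
def cT_64_66 (j : ℕ) : ℕ := bif Nat.blt j 65 then nat_lit 0xc3650034e200b71f008f450023f000d4a500c4360028cf0062f80062fb00084100b71e00455d00288a00a34400258800922c00b71d000d9f0043a2002e6a00e0ce00d6bc00346e00ce6000bc3e007a28005ac20089f6003ce800e0d000dd980030ba00e03c00c211006cbb002dc7006cb100352000835f00730f00b92500c46400357100346d00c2ed006c5500747d000f0100396b007f5b0071fb00b72c00cc3e003580002f0a00bb2000b810007550000ebb00c1ae00c40d001caf0067e00067d20011e700358a004c8e00687a0066140062dc006bb30064c2005d2d008dfa0064be0061ce00649c000ddc00686f0068210043ba000dc7006941006b64002bb6000df60061e9006c03008764000e7e0064bd001c5f000e1b000e10000e000067cf006af20067ba000950002b9f000a910043b2002bbe002ba1001c770043b1000de700050100225a0068cc00352d006a9600222100222400096700096c007a4000698d0068800074ea00ddf4002e6800b0bd00c99400cf960069a3004b71 else nat_lit 0xc4bc0035530051cd0038f6003937000eec000ea6000eea000ea4001b3100133b00016300a63100d15100b0430024bd0086c900b00a0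0680f00a667002433008f3f00283100d61700253f00b8ad00d94d00422e00c1940056ec00c65300676500c1920066b500c68a00ddbd00664800c84200578a00578c007ed80056f400c6030026950065eb00b37e004281008aed0056e000d150006aa700bdca00680700ce12005ebf00a4fa00ce2300437000436c00840d00281900a57600c4e30056e500ae71006ce80039a9002808009408006cdf0056e7006ccb006ccc0028100056ef008cef00b56e0043e000e0e8007c500091c70091880028360089340095ee0045660067ff005dfe0028470058ee002801006ce90081860091c9002820006cdb0009950027f70043c50043c800a88e00ac5b009dc20077e9007005007d2400905e00d8a70093430062fa009f8a0034e0006f0700132100132300d262009dc40018f1000f06009317001422000ec000ad7f00714200bc7f0092ef0021e60015cd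
def cT_63_66 (j : ℕ) : ℕ := bif Nat.blt j 64 then nat_lit 0xccd100101d0059d900755f00dc89001702006e0200bc3200cf9500d20c001701007500007b9400b09400ccd700c99b004b75000fca00945c0093cc0069e400688100d54500a34f004c120099cc00d21b00d22c006a03004b2a00cce400106300a1bb00a1bd00cde1001aec006e4b00b3dc00c20500d20a00c9980059dd001aed0074ff00bc3600ccbd00c98e00ce5200a6c800cce600c5e1004b2e0010ab00b4f80072f100c20900c99100c5e200a095000f8200456b0043c9004557007eca007ceb00c9b0001d780017c900793c00b8ae003b460017cb00c38100158000935a002fb100beed0087d7007f4400157f009f8f00a67100b12700e03900d08400d9b6001e3a003cff006947002dbb00ab5e00a1e800a90c003c8c006fba004b69004baf001d7b003594001101001d790043d90043db0043ca00793e007ecb00be14001dff0017e0001e00007ce900226a0065ea003a420017de001e0200c5d9009f9500159e00d6c1002206008e6a00159f007f3e00a88d0059d4009a6200dec5 else (cT_64_66 j)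
def cT_60_66 (j : ℕ) : ℕ := bif Nat.blt j 63 then (cT_60_63 j) else (cT_63_66 j)
def cT_55_66 (j : ℕ) : ℕ := bif Nat.blt j 60 then (cT_55_60 j) else (cT_60_66 j)
def cT_44_66 (j : ℕ) : ℕ := bif Nat.blt j 55 then (cT_44_55 j) else (cT_55_66 j)
def cT_66_68 (j : ℕ) : ℕ := bif Nat.blt j 67 then nat_lit 0xc41c001563001eb00074cc007b8600a6ca00c72200cf1200cf10009cbb00631a00a032007086005bb9009df300cf0300c8cd00c8e200726f00795f009b380061180012ca0021d600d6a90053860090be002ee700b57500359500359700cf39009fad00d5d300c6e100343f003291007fb600800f006e620068f0009db700c16b00a6af00720c004ca300357e008d51006eb700784e00bc4100d4990021f000760a00521a00bf5f004c420095f500226700226900c53e009fae00beff007ae500311b0017fd0082fe0082a5006e19006aba00b25700c00000ab4a005eb700356200357300891e00705a0060df00c21400cecc002fae0038e800112300359e002e20009a37006e6400a777002209003929000fa4002277004bd100735d006e1b00ab500011510017e3001e42000f3a0017c60021110021ed003922004c04002e0400c757004ca40053bd002e5500ce0100d7050031b20021d90038e1002e5a004bb500c7920035610051d1004bff00c46100d6f30013e400cabb0053bb0053b9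 else nat_lit 0x43550067a6006b40006b4800d4dc00612e002876004357006cb20060590023ae002c0d005d3500884f0042170061e5000dfc005d370062cc00927c00923500c6390023fa002c08008ccc00884400426a0061e0000e78007c3f0087990061d0008c3600c2720023b00058d200bb060064cc00e4d9002bb90058ec00dcdf00b71600b04500b00c001b9300c3c8006ca400a370006ca7006ca8002c1f00c2d30061f200b9400043b70058e100de1500d7e700642b005ebc0007b5005e0a006b4a006130005f1a0067d3002c03008a0300baf30058f80089a9002c120086b6008cd2005904005f18007a07007c3a006d3700861e000e01000e02006b4300d74700b92d00dde000855e0062d900b8b80062e40043fc005ef0008fe800855900ba7a008f97000a9b0027c800412c00df7b0055c30028d100417000b8ac00436a00288c0043020039ba00412900398c0039ad00397f0039af002761007a9e00c419003ce20017b500c41b0017b30020d90079bb00da9e009ab500c41e002e70001561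
def cT_69_71 (j : ℕ) : ℕ := bif Nat.blt j 70 then nat_lit 0x35720020cb002d790092fc0020c9002dc3001c840076270021f800212000127a00211e0012780012d60033e1008e1a00dd7200aec5004c8b004b4300ae8e007fc600c0a800c44800be1a00c0aa0090d50020cd00747f0020cc0031e000882b00d0e700a3f400358d004b8a00a39f007fca00c11100e04900bd1000c113005e8a001ea400754e001ea300882c00d70900c44600817900c34d001cb1000eff008e1b00c40f00c35d00bcaa005a6b0011e9000eb900357d007c20009427004c9e007ba60085420035740094320074ee004c9100bb2800396500d9a40031af00d6df00127b00b69800b699000d380087ff00420f00425f004164000c240098d400deba00911600a69c0054d6009822009824009823000b4100867a004163002a4500420e000c6e00902d00d6b5005ebb00e4f60054a900a9d60029f900b6c900e6c400d6600056b30066e700a9d5000c2300425e00661b0067940097a400d86000afc700c7ed00556e00d1b60066ac004313000cad00afcb00582a00949300afc6 else nat_lit 0x738f000d8100339b000fd50064040059ed00274600b0ca0072e700934a001b5c0012e60095b80013d500350900aae000d4630030c10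0c40e00935f00ad91005a2000a338002e6c0033e200bf85003522002d860093d7009428003903007e7500358b00c2fb00d18300bee300d39000c88f00c50800845400dd0500dbe80084560090d400de9e00347000df9a00bc4000d6dc00d25a00763100be6d00b76e00dccc00c1a400c30100ddf3007184008c8d001ea200a39e0071f100357f001ea0005b0700b0a4005abe006c1200723b00ba3a0031b0001e51005b4d001e4f005bc500351600754c00c9cf00ac9b00347500d6ba0079f900ad92005a210074e4003ce60031e100c1ac00396900339400a37e0099a100c5630039440074ed00845b004c8d00bb2e00d18900d6a600dc6800d11900dde100d45e007e6e00d9ad00c927007e70005e5a005e900030bc00d9b4005b0900c21300df9f00cfe700ba3000ce6300ba2e005e8c00bb3400762900bb3300b778000e39002d7b00ae8d007305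
def cT_68_71 (j : ℕ) : ℕ := bif Nat.blt j 69 then nat_lit 0xd45a00720900d40b00ddbc00afd5007c5100237100918b00a7ff0023f600ddba0066ef00986f00416200987000c7ae00dd9c00553a0085c800a298000c6d00420b00661a005f8c008b0600b7af0067f700b0660056690066af0066ad004183000bdd009bee005fd200a5bf005f49005e5e00a66900731d00a632005e73005dff001bcf009cb100283a0023ac0062fc002822002c1c00bce700b7ac007e8600884d009fc4008e850043f60043f80042190041d800681600a33c0067c8000de000b9f800ba2a00672100667700e5d600e74900ba2800676000de9600949100dcca0058eb00e15c006cbd00678f00bfb700c45a00ddaf00df9b0054ef00639100662d006cb60091b600c63b0028bb0054ed0091760063920023f80058d500bc1600ba0d0066450065e6009e2c0087f20043ea0043ec00426c0042c700681300ae690067cd000dc300b75200b75400879b0067bf0067e8005f9000b75300e3dc005e5b005f4c005e5c0058e200e58300b7550067f200619a005e1000ddf20043d2 else (cT_69_71 j)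
def cT_66_71 (j : ℕ) : ℕ := bif Nat.blt j 68 then (cT_66_68 j) else (cT_68_71 j)
def cT_72_74 (j : ℕ) : ℕ := bif Nat.blt j 73 then nat_lit 0x519a003bf300d0c400519c002dd1003bf100c3eb00aa55009402009382004c0300836800836a009384003104009960009962008306002e5300d0780053780079dd00a0d8002eee00c57500cf8a00c57600a6a800dad600ca7000da600073ae001dd60053bf00990e002d6e008305002e5200c5de008ddd008f0600befa00512800e03e003c4600512a005acc003c4400ca6d00ca6b002e0000ddda0079db00d083004bb100aa6500aa93002e59007f64007f6600aa95002e0200d2ac00a0bd00b0ac007fbe004bfd0051d3006ebc004c0200b40c00d13a00520c009aed002e58004c4900705f00c3ee00d6e800c3ec00ab5100798200dc2f0079830073ba00158900c72100e0b600d1e800c9e300a4db00b85600836000d1fe0074a900a1e400ddf500754a00a9cf005acd007f63003c4100a91900937e00b480009a2e007568006eef00520200631c00631e00537a0073220077e600519f0051a1006d4d00861b00c41700c1a700c0940016fb00cc3d00d34500e14400cd5e00af58007f5c else nat_lit 0xd22900d22700db230073b900db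1500d21900798100cacc00761b008f0e001dd40077ef00797a00d291008738001683005d18002fa60073850033e80073830093f2001020001af80073a8006da800234000dbd80031e700c0ea00748e00106600171900c0e700779600231c0071e200b7de001af00023310072f600748c0016fe00170500761d00156600c69500169900169400115b000f440016b60016af000ee9000ea3001b200016b90071850076260016ab0016350000c0001cac0011e4005d01006d570023f1009f74005cfc006d52006316000840005cf60061c100258100711b002585005cef005cec001bd4005ceb0009b5007619005cee0009cb006e3c006c05000e4e001c01006d02006cf9000e5f0009ee005cd7007117000e47005ce9000a11007082006cf80070bf000ab5000e45000e36001757002e65006e85001738003ced006f82001776001b4e001b38001b350016c50016340009a50009aa002be0000e66005afc00aac6007fbd004bfc00878900dd3600d6ea007b9b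
def cT_71_74 (j : ℕ) : ℕ := bif Nat.blt j 72 then nat_lit 0xb94a00c93300aa5100aa5300daa700a92f00a264008367002dd2002dd400ac7f00938100a18100b0f2007499006fed00536e00c38f007ac400753600849d00520e00cf5500720e00512d0034c1007dfa00512f001bf100158700c34700bf800076240011e10074eb00b1c500754b005ac400b0aa00b18d00bc3c00a101002d7d00c4cf00ab5f003c8b00ab95004b8c00a6a2009f63002dca00b73600d49c00a6dd00ae91008459004b4600a44600c565001e1d00a03e00a040009ffc00845700aec000afcc00c5840086c500c5830076ee00747900c0cf00716800bf41006df20070840010b600323100bf2b009939006f8e0071d30099d900919800aab20022f3003170009af700a34e00986900a92e00a6de002dc9009b5700ae9000b735005b0b00c4d300a29a003b9b00a265004b45007af3009f64005ac500cb2f00d9f200b0a900a102007e73004b8d00a78f00cb27001d9600b39b00b39d0093ba007e7100a3ef0061b1005e92008f3b00b710007529007401007959007a1200b70c else (cT_72_74 j)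
def cT_75_77 (j : ℕ) : ℕ := bif Nat.blt j 76 then nat_lit 0x80b000232e0017b6007b7700bd6000c4c800c4c5007e58007bfd00231f001560007f4600be3700d3fc0014b8002e1d007eb8007ae40074f20082f700793600b37d00171c007505007176007b40007b9200844100795800d35f007f5700c5d7007f59006bc00085630077b4003268004bce0083ed007b42007825007faf007ce3009fd6001af50074fa007177009978008359007e5b00761200c8e400835b007b9700835d0067c40043d1008ff70014d800d2920080a80082f900151500c97b00844300327100bf00007c05007fb10014f50073d1007e5d007ac2007b8700ab8d009c31004348009c33000c1600986e009c3200a31400413a009c28000b8300a83c000c1700ab5200ad95007e400026d6009437009b3c000b8200986d00a75700d7100024ef0072a8001c7a007593007e9400744f000b37007595007653009013001c06001c08000c200041be00644d00752c0070c60009cf00752f0075f80075f3006d4a00809e0091000090ff00764e007732001c1a007b23005cf00072ae else nat_lit 0x3b62002fa700bf84003ce3002d830093df00dbcd00da2200c0a1007eab00a17b000fd100cdc5001af30077b30077b100c6a10088330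06af4004c97006b62002ba0007aec007ba000d36300dc0c00c1a000e71b006ca600cc5800a7320014b900cd9200c5a1003a2d002f0200e5a800af5b00b49b003127007e3100d482009c10001e5b00d3fb00bea100c914005a250010b000116900ac6b006f9d0074e7003ce500233f00c1ab002e6f005b1100b4d200bdd100bd0900c10a0083e00010b2007903007c6e00171e00bb3100d1a300d6da008e220067d0004c980067c2002b9e00b37600cade005ac800cd1a00ce7800bf790067de000951002dcd00c81500ab0200cc9500cc9000bc8700212b0073cd009307009305006f4400bf8200232000322f00760800c0a500cdc6009f9400cc9400c4b8008e0b00151400d28500d40100d40600c4f9001e5c00da2d00b49a00b498006f9900c1a900232d00339900799800c10e00c69800934000cac400c35a00881c0014f600d05200daef00843e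
def cT_74_77 (j : ℕ) : ℕ := bif Nat.blt j 75 then nat_lit 0x90fd0090fc001b8e001b9000720d006e820063230090c1007118001c340094a50083d0009b3b000c6300769d007ac00072690009f10009f3000c6a0042ad00644a00deca0070cb001bfd00956600833400832b0070c1005e98005e0e006459005daf005dad001c29007a17005cf5005e8e005db3005db10007b00007b200632600733400720f005ead005ea6004318007597000c1e0064430009f40061ca00711500649a005d31001b8d007b6f00632c001ce70041880074c80009ce00643e001c05007c28006e8a005d1a002c150007af006e3d00851d001bba0022cf001543001c3100d9b8008aee00643900796d000e62001c1b00db7c005cdb0090c60091010071870089a60090fe00bf4b0073fa001c7d00db7d00c4e0005cd20073a5000e4b001c2800d9b9005ce5006049005e14005e7d005dae005db2000ab3007400006498000e84006ff300c0d5001af700cdd10077a200536f007497006e49006ef500e5a900171a00dcb80077a700708e006e0000520300da1a00cab100daa9 else (cT_75_77 j)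
def cT_71_77 (j : ℕ) : ℕ := bif Nat.blt j 74 then (cT_71_74 j) else (cT_74_77 j)
def cT_66_77 (j : ℕ) : ℕ := bif Nat.blt j 71 then (cT_66_71 j) else (cT_71_77 j)
def cT_78_80 (j : ℕ) : ℕ := bif Nat.blt j 79 then nat_lit 0x915700915f000a8d00759000649e00758e00915a005d2c0086ff0061d70060e600caa20085740060f300ae590061010061000060fe0060fd00605d0058f9000a4d0087570083c900648a0060fa0061da00649400649b007f8200d59b00997c008042007f8400804b00bc86008059007644007fe8007fe20076d900d095007fe600d1f000b28c006a9500803b006baf00810f008cd9008156007d05006bfb00c72800778a006bfc005d1d00876b006d3a00d82a00778e00778c007167006c0900cbf3007b440082240080a600822c0078bc00823b006c08008282006c0a0063f100bf3f00828000721a005e1600698c006144005e69000a59005ed0005e4600608e00cc40002be9005d720029b50081db0081da0081dd000e52005d6e0029b6000e54001c52008f78008048007f860080450027b3000a8e007fef007c3300893b0054e8007d060085bc0091590061d300c2d7009123002b9600647b00646f0082cf00822b0027c4000a4c00647900827d0060fb002b99000a58005d6b0027bf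 else nat_lit 0x90cc0072aa00e22800e229006ba800e6a400c44e00e20e006ba6002482006e9300e15700c3bd00df8700ddf100248400cb7e00248600645600746500753400645f00a7bc00549b009e720055220042af00431100a5ff00ac0e006374009f07005eb2006285006043008ff100635e006276006270006275005f85006273005f1e005efb000a9700c1df000e69006272005e29005e5300246400ce0e0024660060da00c2d400da1700c5e5007d1200bdaa00cc3000a74000894100d5a5009c1600914a00c4ee00a68900893900912000913d00773400913c00913f007ac300c0e6001c18009f2d00daf700b06700913a00773c0054f0007b2400ba8800bc5b00c4590060d9007d9f00df120060cb008cf000bf5b0061b700a4e800609e00624600a86200b347008ae000a68600614000646300646d005e2e00611a0027be006e8e00733c001c2b00733500617300617200611b005f600054c30061ad006175005e57005e580060e9008a2d00856f00817100a3050085bd009c1e00691a009158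
def cT_77_80 (j : ℕ) : ℕ := bif Nat.blt j 78 then nat_lit 0x87ae002baf002bad0085ba00590c00591000854000862e000a72000a56005d69006d9f0076fb000a79005d08006496008530006c49007c41006da2006da40076e60085f20060970076eb002bab005d05001c64006c4b00590e001c6a002722000a55004443000a6a000a76000a67004410000e0b0004f900679c002bf3006623000e2d000a88007c38006c47000a520076dc000a7f0070b10065f30070be001c24007a2200d1cf00ac6f00b1c600116c00da9d007ad300a24e00d6f500578d00d74600c8cf0077d700d6fd007b8b00ddd9001cb200755800a90900c8e0009883000f55007b8500ab1400ab1600d26300d6b400436b00d6b1005e3800d29400d2640043fd0011ea00d48b00ca5d00a4dc00cf8600b5fd00c92100cee200d32e00e04400af5900c90b00be9a0075710096f200d03e00c3930079f70079f50032670074a200c8de003b31004c5d00df7a00744d00930800344b0084170073c900a85c00212a00c6a200dbea007c7100ad8d000f52000fcf00a8f8006f480074c1 else (cT_78_80 j)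
def cT_81_83 (j : ℕ) : ℕ := bif Nat.blt j 82 then nat_lit 0x716100db8200cc920091890051e400aa4000a8de0092fd00d3d100d38f00a8dc007a7d0020d700a3b3006b580094ee00ba6b00af14006c5b0035980099ff00280300b808006764003599009aac006ce10015ca009f4e00d8e1006fa0005a23009e4e001eac00c8df008e2400c92b00c87f00ad9300cc8c00d6cf00d6fe00e40f00d95200d6f400d6f20043c200c911001eab00d46600d9550043c100c885005e510053d000cc2900aaea00aae80082ec0038fb009963009387000f8800b57300c85a00a8df0099fe0071f2004b860038f90086d700a3ed00682b00a3eb0027ee0027e10065f70015db0020bc00116800151200b10a00a731001064007a3e006fea006afb002dcc00d26900c59400a0f400a0f6007fa400393c00b0ad00aa980011070095f300bef6007a80009998007306004b3f00393a008f4d00aebe006aab00a3ea0027f60027e7001c8300140c001e93000f510014f8009a4600ab0100101e007b35006eec00cfe6005ac700cadf00c59600c5cd006e1c00936f00342d else nat_lit 0xf8300210f00356300456a0043f500b7c300943000b94f00bcff00355400c344007ebf00227600d708007ec100c1cc00b8b600b79a00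39ac00de4c0043e500c9d000b8b900917b00d29300c40700a0d900227500227400caab00179300161700e574003b9e00e5b500b365009fc9003c8e00aec600e5860078260083fa00dc52002d6500d21e00b35800c4cb00c20a00930c00c346003a3d001102001e40004ca20043dc0043ed00b81c00d9a0007c1e00b85b00d2b800681e00c34300c3450083f400359f00d6e10083f600d4e800bfa500d6d000a37800a37b00b8b500281100281300d6de00a37a0043c300d6f700d6fc00b40d0035a00035a100be9100211600121c00994b007a7f00b0a300c856007b88001eae00aea200bd6600699400ca7b00226600999700281e00b9eb006aa800226500b16700aa8c002c6500935d006f4b00cdc100c76700b2c900d6540020d500717f00883500d5c900ce0a005a1f00d49100e12300e40500e3cf00ce0800e4060071600020d400d5e700dddd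
def cT_80_83 (j : ℕ) : ℕ := bif Nat.blt j 81 then nat_lit 0x342f007e9e007b780080af00dc87008352000f39000f37000fea00c3a200b4d90010ac0069fe00a6cb00a6c9006a43002bca00848f00aab90069f900812500848e007d20007b8900bf0600d48d00d8a60028ce00aabb00905f00bebb00beb9006e65009b0400310900310b007f470083d30081ea007bc3007bc5006da9007f4e00115000114e0010cb00c4f80093f1000fcb00699e009df400b0950067eb002bd3007dec009351004559003294007deb00226f00c0c500c57900c0bf00d5ee0028890093530013240022c9007904001549007357007c78001cae00932a0011e600b38800d27700b38a00df89006ba900b1ed00c46700b51d007c950028d400911b0096fe009119009812006bac001ce20090c0001ce400636e00624200636100624d0063600062ac006293005e27005efa00083900b609000e5300635f005ed9005f81001bb5009cb4001bb700bf5600a8f400765f00d5af009d3600552400a4e50054990041c000418100a4a800d199009d1200a50400582c00df95006df9 else (cT_81_83 j)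
def cT_77_83 (j : ℕ) : ℕ := bif Nat.blt j 80 then (cT_77_80 j) else (cT_80_83 j)
def cT_84_86 (j : ℕ) : ℕ := bif Nat.blt j 85 then nat_lit 0xe180095df00810300dda80063df0027b6007c4a00802e002bf5008c5f005ee00027a6002c14006c100058d90058dd0081510077ca007037002be5000e670061bb00634a00682000815000634b00280b00833b0065f5006c00007a6d0060a9000e5100c5730074a10079dc00c57400caad00c57700caaf00938000aa6400761c00727300749f00230f00353b001b390051a300169800230e00227f0017920017a400cfe300da1b009aee00cfe400ce5100d05600cef400937f0092eb00d70a00158800cd5d003541002229001b4100513100169500222a0022850022910022e300934100877f00dc5c00933f0038e600b52c00d36400e01200c2a5003ce9007b9e007aee00d00b00daf8007df400748700c12900c3fe006678003c0d00d00d002ef1009aef009a2c00a75600a0d7004c0000d0b90038e3008f0800d0ba008f0b007f6000bb85003a2800519e0073b10014da00cabc00aa9400b0ab007fa800c2bb00ca7500d80f007e6800d84500939b00939d007e6a001e8c007a8200a180 else nat_lit 0x928c008fa10064b500c326008a2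500764d00271500d7d5008fdf00984000d5b800549300899e005816000b3a000a8b000c1a0086fb00a4920095c70064a10063c80089720063bd0063bf0063ae005d2b005d2e005d4f00590b00554f006a7c0042bd0028be0023fc00557a00583c00279f0027bb0023b20042ba00278800bddd007f940069f600988d0084910098620054d700842b00842900b2290039bf00789300637b00637d006cd5006cde007dee00b6be004389007843007091006cda003991006308008219009d8f00969f0081a00028cc008cd00098880057a4005d32005d34005d65008fe400b30f005dd0002887008ccb005d5700438a0080eb005d0c00550e0055bd0042b80057be00548500438000279d00435b00276a0028c00057c00027700027740027730043080057980027a0002b9c00430400278200278c0027800039b100277c0004f60027d6008d7400890b0071c90095db0069f700c4a20056fb007a040088fd00802c00b55b006cd0005edd0027c10080db0063e6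
def cT_83_86 (j : ℕ) : ℕ := bif Nat.blt j 84 then nat_lit 0xd81400d2c500befc007fac00da6600990f00e39d00c69b009a32008ddf00da5d00c0f300c3f3008f0a001109001022005aca002eed00311a00cac600903d004c4b00d0a000dc8600c4210099730017a500178f009f4b008ea900c4b600933e00392700959d00cce700dc5b00687d002e6900c42000d30200cad600cfe500849700d13d009a4800c03a00c3e9006729007b3700c977003c6000d00e00b175004c4c00b0f000ab3b00b40b002e5600d20600392400873200db1700797c00836400693b003b2c00512c0073b700326f00c3ff0093830099610082f000bb5c00d83b00d34900844e00d7ab00ad5c00ad5e0084500020b500a8e100d49d00cf980082f4007b9c00aac700e13800cdd500ab4000878b00db16009a2f00d6f900c08a00c34200cf1c008734001068002dcf000f8a004c4800343e00cf6b0013d4002ef000e5a700dc8500801d00d18000db72009fa40022e2001408009fca007af000a3f500def60074f1007ec500dbfa003c90007a4f007a4d00bc3700b3d0003b41 else (cT_84_86 j)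
def cT_87_89 (j : ℕ) : ℕ := bif Nat.blt j 88 then nat_lit 0x6cc2006cca006cce0070a500823900d48000db5100805800a8fd0063fb0079c10080560079bf0061b000617c006406005efe005eff0080e50063f9006408002be600271400d76700857300e37500d12600d73800d62400b6f700b66900e1a700b62300b621009d89009d8b00e1b5007a56007b06007aad0041d5002bf6007c4000816500bbae00adc3001c53008ee4001c5400d94e00816400df2300d9640098e2009b63009ba90092120064a2002bfa007ddf000a8900758d00857c0091680091a500bd3d00b5250091fc009203009b5d00663000c2a200662e007edb008c3200440400867500e00c00928e00870400aeb400bd430091ff00acbd00aeb200a5cc00915c005d2a0064bb0092900027c30027280088fb00857000e38700bd3c00d7b800c63f0098e10097f300e1ab00973e00971600b25100b25300e1b600b99d00b37c00a4bc0042c40075e1000e1700816600bda400cc20002b9500c5f8002b9400e11f0081670088ac00e0f800b6f800b19900b1d1008ced000e130084d4 else nat_lit 0xb25400e17700e17500a2c8009eb000242b005fcd00b6cd006f2600bed80096730041340096c600984200555a00abef0075ef0064010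0640b00640d00969500411b00c0c300b353002a430042f800b17900bde200be8000b310009edc009ee000d59d007b670029f8002a410090b200763d000cf40076950082e100bf3500dc6d005af900c7b80082e300cbf40082e200d85e00dede0084e1007cfd00dab800608700e2d100d7b600e17400b1d000b1ce00b82200951a0063fd00740a00b19c00740c00759f0084d300847d0076f2007d5a00670500791000cf0100637c00adfd00b06f00dec3006309006333009d6f00633d00630200a44b00adff0063040062e900b3e60099230062e70063a00063ac0063aa0062d600638e0062da001ea50062c00062be006131001bb40062c1000d9b00083a00dec400876600b31800cbc100e1ef00d4a300774d00774f00709500a462009e9c00709000d15600633f006cc400a9660062f4007a2d006caa006cbc0043e300ab7000709400633c006ccf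
def cT_86_89 (j : ℕ) : ℕ := bif Nat.blt j 87 then nat_lit 0x7a5f000a5100648100b1e600bdcb00898600d1270094c100648b00870600b1930067a900bb510067a700841000275d001c7300875600dff800875500c816007a080060f400e03200a9b30061040063c50063b90027bd0063e10085bb008f810027b4005d3000d84700739b00a9e200dd1e009d2500ce1800b1a90026de0056ba0080a4009cc80026920056720073f30074c40074c90041bb00e3cb008ee600a565008f3200a60800a606000a2d007bf5007f92009bb400a7a600c624006eb0006bb7009bba00721f006e840091cb0066ee007221007549007da000e374007f9100dbc500985d00a8310096a60024f700554100966000965000253c0055770094fa0074de00961f0042aa00c19d00871000d4e00086bc00afe1007cbd000a0900711c00ab7a00b1dc00638900cec70070530063990063ab00631000633a00630100282100630c001def00272700b559009d77009d1f00cc5f00551c00b54e008803000d31000a4f000c64008ed500a60b00b54d00841800919e0089a400a5ce else (cT_87_89 j)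
def cT_83_89 (j : ℕ) : ℕ := bif Nat.blt j 86 then (cT_83_86 j) else (cT_86_89 j)
def cT_77_89 (j : ℕ) : ℕ := bif Nat.blt j 83 then (cT_77_83 j) else (cT_83_89 j)
def cT_66_89 (j : ℕ) : ℕ := bif Nat.blt j 77 then (cT_66_77 j) else (cT_77_89 j)
def cT_44_89 (j : ℕ) : ℕ := bif Nat.blt j 66 then (cT_44_66 j) else (cT_66_89 j)
def cT_0_89 (j : ℕ) : ℕ := bif Nat.blt j 44 then (cT_0_44 j) else (cT_44_89 j)
def cT_89_91 (j : ℕ) : ℕ := bif Nat.blt j 90 then nat_lit 0x9ed400c54800cbf6004264005bfd007905009eda000b8c00760100df060075aa00df05002d6b00a66f007f9b00d59c00d79d00d7bf00defc00b56a00d5180079b200df8a00e33200d7f100e237009ba8009ba600b995009b6400dffe00be86007b1000be84007d8d007e30007b14007b12007d8f0066cb00e0d400d4ca007f95009e46008b3b00df0e00668d00727000726e007acb0066ed0066eb009e44008b3d00b23500a09f00aadb0074810067dd008fa5009ff1006653006b47006b4e0020ce00876300bbde00810d001ce10063a30063a50028d300e3c4008e90009e9600a43e00b6d300beac007a6e00cf93009e6200b31200842800d14900ccb7009e6000acb500ceb6007a2a0063970091770067d8006f8a007b6100b20200c4e400821e007b5f0099ad00cb4600c0c000c5d800d8f5008dff00bdd700cba600be83007a7400a8f700c2e600dd4300a99800dcc900822000a79c00d40d006bfd0084e70084e500628900740700738800627c00e2d200df2b00a7fa004227008d83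 else nat_lit 0xcc03008dbe00bbf600912c00d0f800912e006f35007e2b0042fa00a9d3000c9f00b17c00ad9d00ab5300947c00a98f00253500bbf8007654002a3f00ab4400ab42007e4100901900668c00664f0068d300789200795e0072720068c6009a19000f0200c4af00605300636800e32d00426d00de92009f06009e4f005ec6005e970060cf0062690060a400e30b00568400875100a29300a600005bf800796500a73d00e30a00c22d00abdb0092c600833900765a00416a009b87000bcf00e30c00a22a009b3e00a25b00a25a00268b00ce8b00a73b005bfb00a259009b1000940b00901c00633400676a00633600630b0063060063050062ed007551000ebc0062eb007da100ded900bb4500702d00bf5400e236009d0000dd88009cde00417f0088bc009d8c00e1b400ae2900de9500afc40024b500600100cc5700702400bf3a00b5b500434200b5ed009d0c0056d30077f800805100955e00c54600a9e100b5bc00432900774e009f3200416600416800796400796200bc19009ed6009ed5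
def cT_92_94 (j : ℕ) : ℕ := bif Nat.blt j 93 then nat_lit 0xb104009a4000b132009df700ac7600ab4700c35800c4ad00a12900b0eb00ac91002dbe004b32004c50001775001b4c00755300352c0082b0006876002be400d48100cbdd00b17d00bbb700a19000ab1800bf9200cc2200d3f3001e92000f4d00b35200ab1a00a0590079e900a24a003bfe0088d700756d003c0000ab2600c357008b24009ac600cd19009db8009a6f009dba00937900b0d000c33d002306001b2e0022ee000ea50022fa00ab45002f010059e3002eff0086e0001409001b2f0012e500d5a0007cde009fdb0078bf00d64e0083d200111a00bf43007ea700a17900761300735900c09a00c09c00672e00d8e300d9b300cb32001d8e00cad400c6e5005f960073c30072eb00a677005a6c00d1b900d1a0003c5b00d0e20010280086e200b93700d11500328e00d11d00104000310700b93900936e009a4f0033e3002690003ce400a32700a35600ce0f007b7d00b9380015c200c60b001e0100d11c002d840059f4003bb500347800c60c00b49c000fdb001aaf00107f005bbe else nat_lit 0x755c0090b3007ebe00a8da00be3a00d09700c0f700d1d500be3c00c0f900e70200bf9600e62800582f00c51e00b99700b2fb0093570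0394100c53500c53400a5eb00c53300c53200b2f9000f35007b7f007f4000af0000a1d7009aa0006699007fb70011220041320098a700beae00ce6400984600931000799500a8e8007de90089ec00e41c00c99d007e490096970010cd008de4008de600964500a12d00c502008de70071d700c4340083dd00c19c00c8e7001e5900a079007cc000bd1300dcb90073c100a05800c7e500c0d300ccd3007b9d00bebc006e660099fd0083ee00c4f7000f8700ca5200210b00bc3800ce77000f8500bc3a00c9e600c50e00e626009b4e00434000c50b00bd52009b8200b379007b0c001e1a007e4b00bf95007b0e007ad8008e26001d8f00cc2300774c007e4d00bf93000f9c001d91002128004b25004b2300ccde009af000aec700a0f500a1e900cc5500a90d00c6ac00ca5600b37700e14500c70700a81f00830000b0e400735a00a90f00c74a00a1eb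
def cT_91_94 (j : ℕ) : ℕ := bif Nat.blt j 92 then nat_lit 0xab49003c9d003171009af6001b3b00537200d32d00d31f003c0800c62a00106e008f5800b75c00c62600180000c63d00108600342b00cc8b00aa7f00b1130031e200253a002e6e0074e500a35300d1a500c62d00b75b0022d300b75d001d7a005b1200c63e009932003ca50030c400d4cb0093180010bc001ab40010390012cf00a6b0003bad0095b70013d600133c0052060030da00107100311300a16d008493009e930088d800c761008b1f00348e00102b00343700b46c007df000a11d008d9f00c35200a05c007de800a5d300116300b0b000aab7007d2200848b00afa6000f4c00999600934f005cdf009082005bbd00224d0012ce000f93001112000f420011100000f000a15a0021220091b700a0a1001e53006181001e9f0020c8009c8f0074b3009c22000b850087fb000ca00092bb00a29500a7fb007582000c140076d8000bd00092ce009d1100910800421a00e29a00a47100e21e00b2ca00582d00872200e79c00872000e2cf00558900e2d300adf3008f2700d10f002a3c else (cT_92_94 j)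
def cT_89_94 (j : ℕ) : ℕ := bif Nat.blt j 91 then (cT_89_91 j) else (cT_91_94 j)
def cT_95_97 (j : ℕ) : ℕ := bif Nat.blt j 96 then nat_lit 0xa98d006faf00711d007845004b77005afe002ef3007fb9006e6a007308006e68009cd200718b009b35009b3400ac5c00959b00280500b8af0056f100a629002806007bb500af0200be7400d1a400ba31000f36007f3c00d6ca00c33b00e58400de4300cb4000c54300e72200b22800bd0200b7f800347100ce62006a7200cb3e00b739000fe1006f5700991f009a4500a10300a15800a3a300a7e800bde700c91d00b0830074da00ad9b00842100ce100074d4006f5a00841f00cf94004b30002d70004c4e008301006e210071f4006e1f00a820005deb00a02f00a02e009f450083f3007a7b00bd5d00d34600c08e00c92000bd5b00c09000e41e00c1bd00e161009d3c00d5ef00390000aabf00d49600d49500a4b2007f4200be6a00a46800aa7e00674a0082ff000fa300760b00766100848c00c5ea00e5e0007e52009d080087900073c6009caf00a3a500bde30073c5007ea800735800cbdc0075a00073c800c4f0008b2300c0d000ca8500d0a200cac500d81b006e1d009999007eb9 else nat_lit 0xcef700c992007f560084be0078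29008e3600665e00c9b100b9ae0017c800329000d9f500b9ab000f840017ca00799100c380002fb00021d80038e200157e002faf00717d0038fd00935b00d37500b52d001e3b007f450082e900e58b002ef2002dbc004b7600a77c00e5a60079da00d1b700aa660017e200be7f006cf40043cb007e1b0078ec0067790065e700be1500793d00b83b0017e10017fe00d9f6004556006ced007cea00b7140065e90011030017df0017c7007eb100c6660022070021ee0039230015a00022080059d5009f4c00393e007b8300959e00210a007fa1007f3d00dec6004c4d005ab7004b2f007af100def700c93400aa5600a1f700281c00959a00283400b8b200b00200881e00281b00a46a0010cc00834000d3d900d3d700763000beaf00c51a00dc8c00e42000d46400d49400e71d00d8e000d45b00b9af0030bd00584600d46c00c53600d45d0010c2006fac009a4400b43700992000a12b00b45800abb300c4de0079d900ca5c00811300a46100711f0077af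
def cT_94_97 (j : ℕ) : ℕ := bif Nat.blt j 95 then nat_lit 0xc3a300110600d20d001e3c00c20b00d91c00110400c20d00d4ee00cece00e6c100951f00be4500bf0900b1b8009fab001d9300c1bc00843100d64500a0ac008837001e1600d59f00abee00c1ba007e4e00111b001e18002dbd004b6a00c8dd00b17600a3f600b42900aa5800cc5400a90a00bf0700d51a009fa900e2d500cf3b009cd1007fb8009a0500ac7500cf0400a1ec009df6009a6d009a3f00a6b200c4ac00ccac00b446009a0c007483004b26004b79002ef5001b4d001b4b00a01e00352b007a3f0068710058da00ce8a00ce9c00a22900c27b007b2600a24c0081010020bb00116400a75f008b2200adb3003c51008d9e008b20003c5300a74100c4ae00b25800a05700757000cf18009dbb00756e00c3dd00aa8a0099df001b28003114000eeb00178d0022f1005a2a003b3200749c003b340018d8008f56003162001b2700793100a89200a75d00bce6007e9d00667d00c42e00c796000f9b0083dc00b47800798d00a07a00c10300c10500c881001e1500797000c43a00c079 else (cT_95_97 j)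
def cT_98_100 (j : ℕ) : ℕ := bif Nat.blt j 99 then nat_lit 0x80e700d64d005ecb0045680058e500b92200e0dc005e0600db5c00436d00840c00281a006cf300422f00c1950056e400ae7400c68f006ce7007ed9002807006cee004282008aec0056e800b725006cd9006ce200840e0056f000b81600b72300b56d0043df00bf1b00ba7300d87300e0e70091c600db8000283500c5e300b7260095ed00456700d5a10068270067fe00bc92005e4d00d9530087d10043d0008e6400455100a88f00ac5a007ffc007004007d2100c760009342009a7d008292006f0600c351005ce0009dc300b26300b483001e41006cd800211000d4a600dc5d0062f600e15200a3430062f70074e200bc3d00d6dd005ac3001e520074e3005b0a00c21000dc5a002d7c002dc8002121005afd00b43b004b40006c56007fc5007480002d6f00a107004b8700b94b007fcb0062d500b4b000932c00929200b8c10062d80043b800b7270066150062db00ba0e00e43c002bb800b821007ede0064c1005d06008df90062c90061d10088a1000ddd00b91900b3870061f10068d5 else nat_lit 0x9fac00cf9c00328f003440007f5300c886007b960090bd00c37f00ac6d00c16c00784b00358c006eb6006e81007b8a0021ef00cc8e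00760900bf3700c60200bf5e00c53d00bd5100c409009f6500befe0017ff00311c0083570073d000d258009d7000c66500a90700c001005eb6003c92007059006e3800d2650087290038e700d0bb009a36008eff00392800ca6900735c00dbef005224002e03007f680053be002e540066bb00c447004b83006c58005390004bb4006c570051d2004bfe0066f500d295004b3c00b29100ab660041d900d1520024bc00ab22009cbc00680e0068050042c800641a00243200a5f600a5e200283200877a00d61800e04000253e00c5930057fc0043cc0043ce00422d0042fe00db7f0056eb00dd8d005f0b00c15f009db60066b400822200c68900720b0043de0058e800c23800e03d00a95500d9e300578b007ed70056f3006aa500c60400e0df00269400b37f00deae00455300455500428000416e00dd8a0056e1006aa400d4e6006aa600680600ae30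
def cT_97_100 (j : ℕ) : ℕ := bif Nat.blt j 98 then nat_lit 0x58e30043b900b8aa006822000dc6006b6c0079570064cd006a440058ea002bb700b89800b7ee000df7007371008c740043ad000e7d008ce4007c42002ba200846f007dd50067ce006af3006bb10067c70067c30062d2008c81007c370085610067c50027d1000a920043b3002bbd0043a5002baa0043a3000e0a00096800664e00096b0067690066c80074e0002e670074e900231e006e6d00835e004b7000692a0067ec00698f0059d80083d900799000755e0010b400d218001703006e0100b99000c50400cf9b00d0d900d20b00e58500750100d3fd007b93007b9500698e00c99a00ccd00072180093f300670200a37c003ceb00a35000232f0073b300da63006e24007f5a004b29006a4200cce300d09300a1ba007610007ea400a1bc000fd300d22a001aeb006e4a0079af00c3b700d22d00d2090073b400797e00d6f80073b500cde0001aee006e030074fe00d3ff00cccf00ccce00d21d00835a00835800ce53006aa100c5e000d35900d22b00748f00dc88001700006e4c00cc5c else (cT_98_100 j)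
def cT_94_100 (j : ℕ) : ℕ := bif Nat.blt j 97 then (cT_94_97 j) else (cT_97_100 j)
def cT_89_100 (j : ℕ) : ℕ := bif Nat.blt j 94 then (cT_89_94 j) else (cT_94_100 j)
def cT_100_102 (j : ℕ) : ℕ := bif Nat.blt j 101 then nat_lit 0x8beb008600005906008f80008c3500ba7b00afe90058d300e3dd00693c00e4d8002bba0066d100639800d76b00b04600e79500e3fb00b00d00a83f00a371008a20002c1e00e3ee00b94100e5760043b600670b006bb6006cae00642a00e79600e728006423005e560067e1005f1b002c0400baf5008a040064c700caa1002ba50058f700db0500bb5000a3830089a800810a002c1100c2cf008aa40061ed00bb050043aa005905008673008b9400a38100607500617e007c4e008c7300b92c00e4080063a200c76800855d008cde0062e300e40700b71c005f28005eef006180008e0900ba8700855a00baf800ddd800855f0062c6008fd2005ee10062d10044390061500058e70042ff0042300043ee00df7c0058e600416f0042830043f400b8ba00412d008fe90039bb0085b900433b008fdb000a9a0027c900bc2b00b8480010b3006442000fd200643f006f4a009d1700631d008490006f9f00ab25007392007ded0021d700d16600799700640300c37e0090bf00be4600bf0a00c40c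 else nat_lit 0x929700679000d8ec00de9700c1d700c1d600e5dd00ddae009156008c8c006cb700c92f0058e900794e00662c00c92d00dde400b6a2006d460028bc00ddb000df9c0054ec00a61200917500c98d0023f70058d40062d7008e3b009ed700de420087f3006a730067d40088b700b03b0067d5000bd400a33a00ae60000dc500ae6a000dc400ae680067cc00b75700b31100a9d7009ed900879c0043e900de4000b765002bbc0067e700ae7000e3f4005f9100e3f000bce800b7ad008322006413005f4d00bcec00e65a005e13005e5d00bb6500e70700b05f00e3ea00b7560067f100c1db00e7d500e136005e1e00bfaf00680000bfb000e231005f98005e0f006cb800a39c00b91c0058e40067a500b91f008b3f00d4dd00612d005e7700287700d6e60043d30043580063a100c6e200610b0023ad002c0e007e8700440a00440c0041d70061e4008c63008c82000dfb00b8c2005d380058f600923400bc0b00ba7e00928b002c0700846d0044460044480041d60061e100a3bb00852b000e79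
def cT_103_105 (j : ℕ) : ℕ := bif Nat.blt j 104 then nat_lit 0x5e8d00b70e0061b500b9ba00bf3c00ad7a00cadd00d6db008e23007b8100c92400c92600ce76005eae00cb2900bf7b00cada00be7600bf7c008ffb00762a008ff50093b9001ead00a8db00a6d900991e006edd002747008365007af2007c1c00bbe1004b4400ae8f007fc7006fe900c0a700878e00cdf300c0a900de9d007f6100942e00a6a300bfcc004b8b00a100007fc9006eeb00bd0c008de200bd0f00c112005eab0086580085e20096cf00b65a000d370056b900a836007b6a00961000a9d4007a0e0098ba00416500678b0042a800a1b1006afa00dea300a69b0091170097dd0097dc0097db000b400098d5005540007a0f009c240098aa0098710098a8007b6b002a440066700041b900902c00e2f6005f0300d556005e5900e45f007b6900a83800a95d00c91c00d66800e20700ae2f00b18e0056b400e5880066e800547e00548000a992000c2200ab940067280092cc0067b900b04b00679300d85f00c7b700ae0100e6f800c7ac00c7ec00a44500556f00950e00cbab00582e else nat_lit 0xc95c00c27300a37d00b51800a92d005af700892300a0fd00c20e00c64700107b0099e200c4d2009fc8009e47002d6a007c1a0096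49005af500b367005ac600be7500aa9a0071f500942b002d68009e49004b8e00d267001d9500116a007ad700d9a500b39c0071f300765e0061b4005e93008f3a0070c70070c40073900070c500339a00c6e3000fd400a67600b0c9006ea400b0cb0072e60022f900c35900c4d400b354009429003902007e740083f800d37800c19f00c9ca00883800ba3500d0ff00be7000c4100082ed008836007b2000de9f008326007a350073ea00b8d900dd0200883400be6c00dd0400718100be6e00dccd00c1a300cd2300b8da00b73800d91d0077b5007183006d610099210020d6007a7c00994a006c11006f8f00c9e200ac9a00347600c4d0009f4f004c1700c2fc002e6d00a9340030c200c9ce00c53c003943007c1700845a00dd8c007ec300cd2200bb2f00bf7800c611008e2700762c00d18a00cd2100d11a00d4e900d8e500d46500ca7c007fa5008e25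
def cT_102_105 (j : ℕ) : ℕ := bif Nat.blt j 103 then nat_lit 0x9115000cac0097a500d86100af8d00d0c500582b00d1b500901200431400af8c00de8f00d45900b2ec00720800c27d00720a00afd400db1800b69c00964400ddd600a80000bc83006ecc00d45400ace2009ef60075e600982b00c7b600c7a200c7af0096eb009b5800553b00cde200929300550700550900a297000c6c00a7c900c7ad0092df0066400064250067f900b7b00067f80066e900b7ae00661900ceaf00a79000566a0066b00066ae00675e005f00000bdc008b0700d7c2009bef009bed005fd100a5be00902e00418400619d005e5f00ce5a009e7100a66a00721400a633007212006411005ec2009cb0009cb2005e05005e4c006343006300002c1d0063a600884c00dc8b008e8600584500b847008d7e00b71900a661000bd300a32300a328000dde00a339000ddf00a3350067c900b7f9008ec6006caf0043f90066760043b400e71a00a33d00e72100e7fb00e6cc00c12800675f00676100e29800dea500a99a00949200de8800de9100b8a100e22c00e15f006cbe00e78a else (cT_103_105 j)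
def cT_100_105 (j : ℕ) : ℕ := bif Nat.blt j 102 then (cT_100_102 j) else (cT_102_105 j)
def cT_106_108 (j : ℕ) : ℕ := bif Nat.blt j 107 then nat_lit 0xc0e900231d0073a70071e100ccd400b7df001021001aef00c07f00c34800233000cdf00072f500d28400ba090010670016ff00c0e800c5f9001e1300a8ed001704001d8c007a8e001aea006dfb006e44001113000f940016b50016b0001ab5001aae005d000070d1000e4c009f71007391006d56005cfd0075ab000e6100c167006d5300631700711a00c0310070890063190009cc00732c007207005cd1006e87001c2a000e4d0071d1006c06001c00006d0100721500643a006fd9001c19000e6000bf760071140009ef00732f00732a000e65001c0a0077f300708d000e48006d62006d98007389005dca007127000ab4002e14002e66001b6500717b004bc5003cec001b66007556006e95006ea5001b26001b240009a60068d00068ca0009a9006a9c0069e5007fbc006b0500dc3600797d0087310034480073b600519b00d2ab00106900878800caac00938500d54400d18100cf8900dd0000ca71007faa00da5f0073af00830400688d00c5dd00da5e008f07007fab00312400519d else nat_lit 0x746600753b000c6b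007a6b0074df00e6cf00dece00956500956700b4fa00833300832a0077fc0009f000774600645200decb00c1dc005e6500e6bd005db6006462006461006095007d01005e1a005cf4007a14007a1600e7a5005e11005e0d005d51005d5a005cf1005cf3005eac004317001bff0041bd007ac10061d9007bbe008a6c00632d0041870009cd0041bc00a8fb00832c005d29002bac008112001c32006ee100deeb006ee300c19600c169000e63006f78006d54006ee200dd7400796e005cda0090c700dedb00804e00910200b8960091240071880089a700856400815d00712500bf4c001c7c00db7800db7e0073a600c02b00bfeb000e4a006f7b006d5500848400d9ba00ded1005ce600604800deea00df01005e15006b5c005dbd005e7e005ecf005e0c005d50008ff0005dc800815e005d2800c5a20068e60059e0006e4800c69f006ab0006e470074960077a3006dff0073b000cdde0073b8007980008f0c008f0d00797b0087370073f100d40000c08000ba0a00cdef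
def cT_105_108 (j : ℕ) : ℕ := bif Nat.blt j 106 then nat_lit 0x73b2005129005acb003c4500d0960010230083d6008ddc00d54000aa96007ea100d5d700d13b00512b0082f300cd51003bf2002dd000d70d00d70f0082f200dc3500d28b00b43c00bbe700b92400836b00d99a007b9a00b92600310500cf8800a1e300a1e50010250099d5007f6200a9ce005ace009a33009a3500ca6c00c9760075690014d9006e8300156500a10800bfc6006a45007f67008f0500bef900b7fd002e0100c93200aa5200aa5400106b00b0c600836600a7cc002dd300ac8200ac8000c3ea00ccab007498007535005ac900c69700632800c696003270002dce0063300017b100b7b90074e10094b40099d4008d56002d6900bc3b00b43100d62c009aa2001035007a2e00a34500adfc005af800942c00adc6002d67009f62002dcb00b737009389007309007c19005af600a447004b4700c87e001e1c000f5300c8dc00e0f700a03f00730700afd800832700c5850086c40070ca006d4700753700708300c43c0010b500755d003230006e960099d80071d20099da0022f2 else (cT_106_108 j)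
def cT_109_111 (j : ℕ) : ℕ := bif Nat.blt j 110 then nat_lit 0xcd930059e100d4d100adf900a66c00d6c800635d00312600aa9900e4a8009c0f007eac00d3f900cdc7009e6f00d486007ea9006fa1005a2600d3000010af0066b200bea0006f9e0077b200af9800b4d300c1dd00bd0a00bdd0007996007c7000ad8b0083e100ce92006e9c00b479007c6f00d6d800bb3000d3d300d31e0067fc0043e8008c800027d000cb3c0067ef00d2c800cd1b00762b00bf7a000a93004b3e004b3d00cc8f00e0f100d40f00bc880073ce00d41600e01c007c0200a72d009442002e1a006f430093040099d600e0f000e0cc00c0a600cdd3007bb600d40500e04700da2e00e04300db2500d46700d92300a1330080ab00b4de004bcb006f9800b49700b0c700e04800bd0b00bd0d00c69900881d007ea000843f00941000bd5f0083d5007e59007bfe00be38003444002e1c00befd007eb70074f300db750082f600311d009415003c4e007935007ce000c19700dcba00d04500844000171d00d36100cdf900b84200312000311e00cf970083ec007b41008396008196 else nat_lit 0x6624006e78002bfb00861c006c48006e2f000e120085f30060680077500065f4007dda0060aa00a00300717c00d69200aea800ac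6e0090cb00116b00717e0094b3001d9400cee500793400a6f100a24d003bfa00d9e400bf0800d7450077d600e3ce00d721008b2c007557006f8500c90a00a908006044000f54007b8400b232001e1b007ce100c5dc00ab1500ab17003c4d00db5d00c9e500d6b3005e3900e3df0058d800aecc00e4ec00b93200ca5f007b9900b98b00819800c8ea00cc2400a3fb00b84d00d9d4008f0400bef800b80d00c90c00cee300c39200c85400c919003bf7005a2800d3d0006e4600c63000744c00e01d00ca6500a4dd00344a00938800df7900a85b00c79e007749007c72006f4c0083de00ad8c0079f4000fce00a44200c424006f4900a5c5007a3400dbce00e0cb00e1f600d1d6005a2700d48700a17a006e9e007eaa00df9800c6a00077b0006af50043fa008a76006bf5007aed006af9007b9f00718000718200c1a10089ad004b85004b84003c4a006f4e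
def cT_108_111 (j : ℕ) : ℕ := bif Nat.blt j 109 then nat_lit 0x7fae003441007c03003bfb007ce20079330074940074fb00c57b00750400ca54009979007e5a001af4007b9800c8ce0067ea00db7a0080a900798f00db7b007c04007611009c9600b69b0026d80026dc00a331007583008e8d009cfa00a2d80098290024f100e2c10024f50074b2009bd60087fa009524007584009523008e8c00af4100adb9009d5000b5fc0026d700e1e8009f0800242e0024300074b1009b880075e70087f9009d1300a77d00e28a0096f10024f000a5030072a90024b80024ba001c7b0075ac007b7000759d00947b007e93007450000b3800759e007e8e00947700431600847100c12500a8d2007660000c2100901400745e00e66d00746100752e00759200947a0075f90075ff00940d001c09007606007124007122007cb900de8900e75300911f00910a00911e0089b000c0e500de9a00e4450072ad00943e00d75f00de86007bbd00911d005cf200a270001c330079120094a6009b4700b4f90083cf0075e9000c6200769c0083cb009c110041860079bd007dd8 else (cT_109_111 j)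
def cT_105_111 (j : ℕ) : ℕ := bif Nat.blt j 108 then (cT_105_108 j) else (cT_108_111 j)
def cT_100_111 (j : ℕ) : ℕ := bif Nat.blt j 105 then (cT_100_105 j) else (cT_105_111 j)
def cT_89_111 (j : ℕ) : ℕ := bif Nat.blt j 100 then (cT_89_100 j) else (cT_100_111 j)
def cT_111_113 (j : ℕ) : ℕ := bif Nat.blt j 112 then nat_lit 0x82230080a500ade600809b00e3ac00df720078bd008e4f007c2a006c070082d10082830082890086fa0071ca00c1e9007217006047007219006f74005e1700df2200d34b00e0de00614500698b005f5700612200e04f005e6a0061320060a600613e00608f00a64700b5f6006171005e45005d7300a64600606b008e96007d9d00c0bc00dbff005ed2002888005d6d00cc3f005d6f005d39007f890095d900912b00cc5e008049008ed600804400b5270087ab007647007ff0007fec007c3200853d0054e9005d2f00876a00725900c2630091220082d500647c00647000d5b700809c00853700822a0095750086760082d700646e0082860063e500611d0027bc0087af00927d0095cc002bae006464008a1200675000444100858000896900669f000a73000a57006da0006d9e0060c2000a7a0074b70085f4009cea007d5200852f006da1008c4200896b008c6c006098008c4100625800899b006c4a00590d008a13008966006091000a710043ae004442007785000a7400272100679d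 else nat_lit 0x949a00ca61006f2a00df7000a683005e2d00647700647600628000833c008336007336005e1800da1c00defa005f0500614100613f005f55006143005f99005f5f004359007a190061740060e8008a2c00817000697c0091fe008e5a00a306009c1f006631009d9000794b00ddb3008afe00917300df740071a30075fa00759100759b00758f0091a4007e910060e7008d2d009de6006a3200ae5800610200ae5a00a86b0067aa00611e00611c0061210061200043af0043b000439f0083320095680088050087580089870083cd00df02007f8e008d1100d59a0080430074db00a28600804a0080ff00e7af00e01b0087bc00a228007b76007643007fe9007ff30081e100796600e15300d0940090c800804c006f7f00d25900e4bb00d1f100e03f009140006a94006bae00803a00e0b50077d200810e00c44d006d44007d0400b021006bfa00c72700bc6400778900b020007d4f00a8fc00876c00d82b006d3b00dc470028cd00778f00c729008a7100716600df090082db00895600cbf2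
def cT_114_116 (j : ℕ) : ℕ := bif Nat.blt j 115 then nat_lit 0xca6400beba009a4e0083d400c7a9007bff00dd010082ea00ccd6000fcc00680d0080e1009350007dea00455a00c56000b96e009354009f9a00795a00c09900b4af0091ba00932b0062bf00b92900737e00876d00d27600d5e100b91800d278009cd300b1b500b38b00c44c0068c1009ba5007c9800b1ec007c9600bb7100958a00c26f0084de00a7db00911a0096ff009cd000911800c66b006bad00241000a80100636f008486007d0000624100b89d00636200624c009b7f00a8210062a200629200629e005ece0062a10061a8005e6b0062a0005f25005f1c00c0c600805200b60a005e3e00a81e00629f005e26005f800023c6009cb300d38e00702c006fd800a8f600e30200d5ae009cdd00870800d37000953000549800a949008db00041c10094ed0094d900a4a700d19800a48800afbc00bdcd0090cf00b962006dfa006d5c0072ab00df9400e22a00e12200e6a500e21b00e216009ca100e21a006ba700df7d00c44f006e9400e0eb00df8600716200db8300c3c100e21900b73b else nat_lit 0xb8b400b8b700ba2b001c7400d70000994c00994e00a3ad00bd6500b89f00699300ba7200b9ec00455200d16700aa8b00d48c0093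5c0083e200cc2800c76600c43700b2c800cf9d00ce0b00e4b000d68a00a66000e3cc00e3de00878f00e12700db8100aa4100aa430092fe00d266007a7a006b5700d31200acf300b9b900ad3400682800b8090043cf006763006cdd007b82009f4d00d6b9007ead00cb2800be9f00680300a8d900c85700c8c800dd3500b7d300b03a00e4eb00b7b100d6ff008de300a66b00d9540082eb00bec00038fc00b40a00819a000f8900c85900a8e00086d60080280087d000a3ec00dc700065f60018da00ac8900b8d600d00a006afc00b04800c416007fa300d51e00393d00a0d600aa9700110800bef7007a81008f4c0082be008e6300a39b006f39005f6200140b009a4700d13f0067ed0069ee00642800d30400c59500c5da00b112007e9f00bd5e0080ae00da65007fa200cc5d0010ad00b29000821c00aab800848d008ce300d48f00b87a00aabc00b368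
def cT_113_116 (j : ℕ) : ℕ := bif Nat.blt j 114 then nat_lit 0x24830057d100c63100deb9006455006f2e006edc007a1100645e00cc2c00a7bd00b21e00ccf300549a009c130055230055210074640075330042b000d17300a36700a87200d31500ac9e006373005eb1005eb3006286007bba008ff200b86e00627700626f00e72000d95100629400629100629000628f005e6e00628e000a9600e042006f3a00e20c00df6a005d3d00628d005e28005d3b000a9800436e00c1e300e0dd00e03a00e3a3008823007d1100c06a0095ec006f2700bcf800d5a200e13b00bac500a2aa00c5e6008e6200827200cc3100d5a600916b009532009f2200808f00a68a00aeba00764900948700910c00702800df6e00b04d00773500915e00915b00913e007a6c00d26b009f2e00ce0c00daf600ded600cca0009d4d00b068008c8900debb00e16600773d0057bc00c0e400bc5a007d9e00bddc0060cc00d61500623f00b56c0070250061b600bf1c00bf2a006f31006f3300609f0087cf0080900061a300bf2000a861009d3300a4e900827100b05400a3e900c222 else (cT_114_116 j)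
def cT_111_116 (j : ℕ) : ℕ := bif Nat.blt j 113 then (cT_111_113 j) else (cT_113_116 j)
def cT_117_119 (j : ℕ) : ℕ := bif Nat.blt j 118 then nat_lit 0x953c00affd00913700880f009864006bf9005d64008f67009dd1005dc7009d7900a4cf00b5c5005d56005dbc005db000584100550d007d540042b70057bd005840005484005dcd0041c800435a0042b9002787004309008aef0055be00417900899d00437f00430600278a000558008d7500a5d200890a0082c10095da007a0300afa50088fe00802b00b55a0027c2008d620080dc0082c5008f6400bd620095e0007d5000810400dda9006d41007c7e0027b5007c4b008217007c490086ee008fd400b56000606a005edf005db9000a7b005d5200bacd00ba8d006f360084d10091b8006bff007e2c007e2e006182005df400d0b800ca2c00c57800caae00103d0074a000749e001b3a00ada90016b400228a00103b00c93100d00700cd4d00d30100108300169700cd940059e5001b4000a2400016960016b1002290000fdd009f4900df9d00878000da8100b52b00ac50007bb8006f8400e093003cea00def900b453007df3007df500d04600cf5800a1ce00748600c69400106a00dec9 else nat_lit 0xa490009564007cbc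00dfbd00bbac00a46000ae1300d4cc00b1db00a9c5009d28001038007054009d2a009d2c00633b008a2b008a29009d8d009d8e00b583009d76009d1e009cc600cc600042b40085c100b1ab00b577009162009164000d32006a6d0083ce000d3000e3bc00d96200c4eb009d0500b57a0075eb000a5000885700a60c0089a300bbe0008fa200862b00862c00764c008d2e00e389008fde008fe200d7d600983f00a7de00a81400d5b90041c500899f00962b009623008c6e009576000b3b00584b007e92000b390095cf009634008ae300a49100962d008930000a8a00745200afe50089790063bc0063af005d54006478005d5b00e0e10042b60055840055860042be0042760028bd00df130041c700567f0056810041cf0042230028780042bb0027890069f500a27d009b6d00a16e008492008a0a00b512009138009e8a00842a009ea300969d00638600638800b1a300b46d007def008aaa0094ae00b6bf009e9f007844009d6000b5c40082180086f1009e5b00821a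
def cT_116_119 (j : ℕ) : ℕ := bif Nat.blt j 117 then nat_lit 0xd529003c4c0083d700d3f500ca7200ca7400d09a00dbf800d81200a13700d52300e5aa007fa9007fad00de7c00b43d00bd0e00e137008de000c0f400c0f200c42300cac700ca73008f0900849500178e009f4a00e142008eaa007bb700959c0095a900da82006d5a00b8c0003b6700ded400849600a1360084980069f000a1cd00cac900c03b00cf7500102400c19b00ca84003bf9007ea200cdbd00d70e00d6fa00d34a00bebd00d81a00b45400bebf0082f10082f500cef500a10900cdd400be1f00878c00d20300c08b00c08900d28a00cf6a00d6fb008733007df20022ed00750c00dab6007ec4006f20003c9100bd9300394200ca5000210e00440900b7c400d20500942f00e3e200831000bd0000d0db00cc5600ca51007ec200b79b0067d700440500e3d1007aef00701c00b366006f1e003c8f0078270079b00083f900701e003ba1002d6600d25b00d51c00390100d516001e3f00444900ba1d00c88c00bdb0007c1d00e139007fc800d2c200d2b700cf1d00d5170083f700bc2a else (cT_117_119 j)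
def cT_120_122 (j : ℕ) : ℕ := bif Nat.blt j 121 then nat_lit 0x8e8f00d91e00d94f00df0c00df1600e75a00e77300eb0600d9650098e300ac2400e47100d7f5009e5400cea100d327007d91007e37007dde009211007de200758c009bbf008edf00916900920e00df7700d2d90098be00b52600958400a82a009b5c006715008be800b8c300c644002ba4008f7d008f9c007edd008c3300da2f00e3bd00d97700c23300ced200c53000816f00e00d0089dd00acff008fc2008ede00aeb300a5cb005d5300a86c00e3c0008dfe0088fc008b930088fa00e38800e77200bd3b00e44e00df6c00c64000eb070098bd00d7b70097f200e44f00e1ac00e19d00e45100e2a600666b00971500e38600b25000d32800e44c00b6e200e6f200e6f300d33400b2cd00ba1500e1e100a4bb00b03e009fd10042c3009e80008f1900870c00bda300c22400b91a00cc2100870e00c5f7008c7d00870d00e12000e4af0088ab00e4b300e44600ead200e0f900ad4400951c00e63200b2cf008cec00c9f600d1a9007e890084d8007a5e008cee00847900c25e00b1e700875b else nat_lit 0xb3e700a12a00992200ac9200b7d700dc3b00b38d0062c30063ad0062c700a3c90062ad005ed70062ae005f2600a22600e30d00e7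e100b18400876700d71200c81800c81a00cbda00e1fa00d3f200b2b600cbe100b7ed00a46300b2ee00d13600dee900d17d0079c400ae35006cc500ae1800a9650062f500d13900634800103700c43d009e9d00784600784800dedd00a4fd0062f300634500b0d100633e00d55400634000e3c200a87800ac3b00e4a700bcbd00881100a9530063fc0076f400bcef0079c200b7a900805300e13c0079be00747100bb16005e9500617b00dfef00bced00aca200619c005f530079630079610079ba0080e6006407005df5008d2f00bc5d00db0600e37c00e37600d12500e77e00e4b400d62500ead300b6db00d73900b66800e46700e1a600e61d00e33f00678600b62000bdaf009d8800d1aa00e5b30098c400e4d300d1d700e4d2007a57007b0700e1e0007aae00b03d009fd20041d4009e8100874300bf2300764b00adc400b89900d59e008ee500adc2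
def cT_119_122 (j : ℕ) : ℕ := bif Nat.blt j 120 then nat_lit 0xac29009cd800e2dd00d12800b6dc0094c2009d2e00870700b1920066db008b4600b8c400d5520043ab00a69600bc0d00841200bc0c00bc5c00bc8000e10b00bbfc00b27700e3b000c81700a3e400e03100a39500a9b400a96f00875c00af9e00610300867400ac2600863400880400c26200739a00df7300a9cb00e77900a9c9009d2600dd3700d14b00d96000b5ce00972c0026dd00982e00b5b30080a300ab9900ade200d16c009cc70026930042b30073f200745d007530009f6e0074ca0075280041ba00902b00e58900e76500d7d2008ee700972e009d06008f33009c3800a60900d95d0074d200dfcd00bc850074d300a2b200c629009bb300a7a500b21100107e006eb100b21300af2600721e00e36d00e764007f9000e74800a7e300985c00d9bf00cb4300b6d80096a70097860024f60096ad00967100e3ab00a7ce00964f00cc8a00a81500253d0041c40074dd0094f900a7d1009792008b490088ee0042a900a1b000c19e00e74000d87100871100978400cbf70086bd00c58f else (cT_120_122 j)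
def cT_116_122 (j : ℕ) : ℕ := bif Nat.blt j 119 then (cT_116_119 j) else (cT_119_122 j)
def cT_111_122 (j : ℕ) : ℕ := bif Nat.blt j 116 then (cT_111_116 j) else (cT_116_122 j)
def cT_123_125 (j : ℕ) : ℕ := bif Nat.blt j 124 then nat_lit 0x66ca006f1d00ded500e0d300d4c9009665008b3a00a3d800d0b400cc81005eb40066cc0066ec00aee200a7e70066ea0069f300e3cd00668e00a5e500b23400c9a700a0a000b447009a0d00748200c34b008fc30066540087620095890063b20063b400b18000ad9c00e815009e97008e9100d722008c4800a43d00cdba00a43f00b6d400ace300aefb009e9500ceb200d81c00b01900a2df007ac8009e43009e5f00acb400d2ff00ceb500ccb600107d00c4b0005eb5009e8d009f0900b18100df97007b5e00b2030099e0007aca00cb4700c97e00c0c700a87700a87500a78300b6d0008e0000c0e300bdd600ddfe00950900bf1a00a79900ba69007b65007a7500944100afc800dd4200e01600a99900a94e00c07a007a7700822100a79b006bfe00d3f40084e400628800740800645400738700627b00e8ce00e80f00e6fc00df2c00c64100e61e004226004228008d8200df6b00ad3f00e176009f0100b1f900a2c900e1820041d2009eaf00e18100e06c00e18400242c00de93009f05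 else nat_lit 0x810000ded800ae7800bb4600e43d00c0d800bb4400ea7300e86b009d0100d96700d626009cff00427900417e0088bb00e2430098c300e1b3009d1000ae2a00b32500421b00e1e700b04000e0b900e23a00e23b0024b600a4b900de9400b2cb0060000096ca00674b00cc5900804f00cc5b00702300b5b400b5ec004343009d0d00e61900b5f700432e0080500086bf00c56600955f00c5eb00e43500c54500b65c00b5ba00432a009f31007a0c009caa009cae00765900416700bcbb007cf800db4c00bc1800774b00aba400e4f700b9c90098820075e500ce97005bfc0077ff009f28009e8f009e8b007602000b8b0070cc00bf7300b7b300bc5700d2c700a66e00a63900df04008ed3006e1e00d57600bf2900bf2700df0d00d4f200b56b00ea3c00b52f0079b1006df500702200e8e20079b300e43a00d73b00e32700e35b0098ca00ce9e00e15b00e1e500d32f00b66400cba500e68600a9e0007b1e00c16800bc1a007d92007e3c00abed007b15009f2900be87009b69007b1c007ddb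
def cT_122_125 (j : ℕ) : ℕ := bif Nat.blt j 123 then nat_lit 0x9e50005fcc009d3d00669a00aede00debf00b013006f250096720096c500413500984100e21700e4520096ec00412000640200a4d30075ee00640e00e41700c99c00b5f200acaf00968200411c00c0c200a4d500ad1f00966a0090000042f700b6ce007b6200ba6700be8100c1eb00e299009e9100e45d0075f0007b6600e45c007b68009ee100d485002a4000b34a00763e009edb00a9d800a980007603000cf3006ede006e3f00e023006bb900c41400dc6c00afce00df0a0087a9006e6700cbd900ca6200d5ad00e4b100c1e80095eb00e782006370007cfe00e93d00608800e9db00dab900e2d000d7b500e2c000e35400b6e800ab5600d0de00ab8e00d1bc00e23800ac2300951b00c9ae00640a00e953007b0f00b99400ded300617a00bde000841e0084d900955c00847c00d57700e024007a6400740d00847300633500701b00791100e0b000cf0000b5a700b06e00aea900cfbe00d1c700bf6a00670600adc900a44a00638700ae0000b07200e3eb0062ea0062f0009d6c006346 else (cT_123_125 j)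
def cT_126_128 (j : ℕ) : ℕ := bif Nat.blt j 127 then nat_lit 0xd18500d0fb00310600103f00d10300c60d00a336000bd200a337007b7e00d10000e31b00d11600e01100347700c62800a6fd00c62700b49d001ab000ab4800c59800d32000c08700d2c900106d00a6b5008f5700d2ca00c9a500d2ce00c62b00342a00108500ccbe00d14500a372000ca200a35400c9af00d18b00b75a00c62c00dfa40030c300d11400ab21006349009319001ab30086e100a6b100102d00b49e00a156006f5500a0cb00102c00931a00b456006faa00b3ff00b56400a5d400c99e0095e400afa700c5e90018d900140a000fdc00849400103a007df1009c470097830074b4009c41009c46000b86009782009c3f000d33000d35009c44009795009c2a0092bc000ca100972f00a82b009676007581009675000cee009679009678000b3c000b3e009c26009c300097250092bd000bd100a4b3009107008d7f00a65f009d1600e77d0041da00e69c00cbad00e15800dfd60086f90087230073e500e68000e7a000872100de8a00954200954300871f00adf400e483009486 else nat_lit 0x4131008d8100b35500aabe00d493007baf00953f007f4100be6b00b2440099e300799400baf2008aab00669800e4b50096bc00c5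1d0096980031fa00dd7f00ae9500bb3d0070400071d800749500a72a00344500ca6300c58200c50300210c00b7cc00e0d900c50f00e62900e625009bca00427e00210d00c9e100e0da00c9e0009b4d00bd1400a7ec007b0b0076a400d55500e89700883a00c68200abe8000f9800c8e5001e19009508001d92009b8100b378008f0100760c00735b00b13300ae9600c4dd00b105009a41009a7c00c35300ac9000c3e7006ee4006f9000096a00694300bbb800cee400bbb6003c4b00e7a600afec00ab1900cd9f00a24b003bfd00ab360016b300a0fb006f0500ab20009a6e00700200c3e8006f4d0059e200ad870059e400e78300ce21007cdf0066920078be007c2900d2570078c000111900cb25007ea6001d8d00cac8007a8b00760f00c09d005f9500bf770076410072ec006e9d005eec00d1b800d79c00c0f000c60e0010270079d500b93600d0f9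
def cT_125_128 (j : ℕ) : ℕ := bif Nat.blt j 126 then nat_lit 0x558800e48400d110008d22008f2600d088002a3d00bdd400afc5008dbf00584700e1040094db0094dd00d0f70092d800912f00bddb006f34006f3700d695007e2a00abb40042fb009c9700953600a472000bd800b18300adc100b2df00dbcb00d48a00a96200a9900092d700253600c9de0094e2007457002a3e00943d009d40009484009d3f000b8700668b0068d400692f0068ce0068d200a01f00605400636700b0390088b800e6b100af0800e6b50042c9005ec5005ec700d9a7005e9600e3ca00bf3d0060ce008ef9005e640060a300e70a00de4400e79d00e4f8008ef500a29400e69000568300a87100875000ac3100ccf4005bf900a76100886700a5f200d970006a7100abce00abd000a6010092c50094cf006f3800833700765b0084cd00ad1500a7e900416b0074b000758000a296000ca800e30f00a26300adbf009e6400da3f00a78b00acdf008fab00268c00e30e00a7c000a604005bfa009b11009b3f009642009e89000cef00673c006aa00062ef006a9a006a9e007552 else (cT_126_128 j)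
def cT_122_128 (j : ℕ) : ℕ := bif Nat.blt j 125 then (cT_122_125 j) else (cT_125_128 j)
def cT_129_131 (j : ℕ) : ℕ := bif Nat.blt j 130 then nat_lit 0xc36a00d36000cef600797f0084bf00783300884b00665d00c9b200c5cc0056ea00b7c900b7cb00799200defb00b52e00c9a40066c9009a4d00c510007e7c007e1c0078f600677800884800be160078eb00daf900d6140056e200782800c9c300d9f70065e8009eeb00ba2400760e00e0d700637100c5db00670300b11100283300831e00b00100a46b00ba3300762f00d49000e42100d98a00b88200e73900b2b000d49700877300b9b000d46200d11300c53f00d1ce00869e00addc0010c1006ffe009a4300dc5700b457006fab00739900811400712000a98c00c9cb00d0ea007fba00718a0056f2007fd600a62800a5e700b77300ba320067fb00c56100e11e00b97600e957009e2e00bd01008e9d00b83d00ce5f00b22700cb2600b7f7008f8c00a27c000fe0006f0000a9240069f400a157006f5600d32c007f8f00e3c700acdb00c61200b9ef008302005dec00a3b000db1400c08c00c08d00c93700c08f00e41f00e16900e16200e188009d0e00a0ce00b5350086f600d8cf00e3ef else nat_lit 0x8e1400c15b00b814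00bf2800d0a300d87200e3fa00d87400682500c06c00682400682600cd3400d7a600b74000d7a800a890009a7a00a0cc009a7e00a1d000b40000c9cc00d4ea008de1006eea00878d006fe800929100e6480084140063a700e72a007edf0064c0005d550062c5008df80062c8008810008fe60088a000b92800b91b00b73d00a38f0068230068d800b84300b89e00d38c00ae7e00b80e008dc9000df80073db0073720061ec0088a20059070043ac00b95f0088a4000e7c00b84900b89b0064c800b89a0058f5002ba300b86b00b80f00b7180067d600852a00b8cd008cbc008ce50091be0085600067df008c62005fa40067d10044380061510043a6002ba900d2db002e1600b92700668a005f0700680c000fcd00a8ec0083da00733300704500b99100e7810083d800d0e000c0f100d0b700b98f00cacb004bc700b84100673b00cce200d0920010ae007a8d007ea500bf64006ea20079ae00e3f8007ea300d2bf00c08800d20800cd9d00ccd800de7b006aa200cddf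
def cT_128_131 (j : ℕ) : ℕ := bif Nat.blt j 129 then nat_lit 0x881f00d82e00a46700b40100c4d500d14a001036006749008a0b00df24009d0700df3400a3a600c30a00a72b00312100d51d00d04400c3b8001e3d00ba2500dd9900c9c400e6c300e18700951e00d492001e3e00d4ec00e03b00952000c9c500abb7007ad600b06200cb69008e2900d549007a6700111700cbdb00ac1000b1b7009faa00872b00a3a700c4a500c3df00b14100748400c4a6006fe2006f3b0009690068c900c27c00c5ce00c27a003bf800a613003c5000a7510016b200b42f00700300a6fc00c3de006f04005a29006e51005a2b00749d00d1300079320067430080fe00a22700c85300738e000f9a00cb330083db001e1400796f00a07b00c76300c10600740500c07800c07d00810600944700be3900c0f500c0f600d1ef00c0f800e71f00e41000e791009b5000b1f700b9980088ba00a0cf008f6c0095a600e3e000d765009356009f5000c53b00c53a00b6a300c33900b2f800d804007bb400aeff007b80008345009d7c0033fb00c4d100a0cd00d2fd009aa100107c else (cT_129_131 j)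
def cT_132_134 (j : ℕ) : ℕ := bif Nat.blt j 133 then nat_lit 0x8b40006f2c00626600b31f00606000afa400627f005f58002c0f0063b5007e8800bbdf00e0d5009fd0000ca50062b700aed7000df9008fae000dfa00757e008c83008a2e00440d00bc150043a700c32500e54200e16a00ba7d0092330058f400a611002c060062c400846e008f9900b03c008f9a000bd5009d9500a425000e7b008a73000e7a00852e008c86004445008f2b008bea002ba8008c3800863300e4c300ba7c00baf40059080063b0006b6900964a00b33f0066d0006a3c009dde00d76c00b04700e79800e32b00e3fc00b00e00e86900ea7c00dea000e5d400b58c00661700670a0069dc00b27d00d7e500642900e9a700e3f900e72700642200e80d00e8f0005ec0002c0500bb4f00e4fe00c2d2009de5002ba60066d400c2c000d76a00a38200bb7400bb72002c10008b9200e571008cd400b2840043a900670e008b91008a2f0062c200898200617d00b7d600855c00d658005eee008e0800de8000db91006d3c00855b00baf700ba8600ddd70063b100e328008109008819 else nat_lit 0xe2940090ce00a99b007fdb00de8700dea100e78e00832500cdbe00c2c50073eb00614d00e42f006af8006af600bfb3006bbd007f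7700e78900d8eb00e44300dcce00c1d800e40e006bbc00929600679100e42500c1d500e73600e73500c93000691f00acf200c92e00794d00662b009d0300702a006d4500ddb100915500917400a5d10077cf00de4100d5780087f4008b0300548100b6a500a32200979400a30d00ae6100ae6b00ae5e00a33b00b7ab00b75800c7f800838000879d00837f009d8100b76400e4d400e71c00b79d00680a00a34200ae67005f9300b7cf00dd40005f9200ae6f00b7d100e76000e762008ec700aca300e76100cc3300831800641400e84900e80c005f4e00e91400e14100c0bb008323005e1200dec100e4a30061a100d3f600bb6600de0000e73800de3500db5a0067f000e94200c1da00e6b300837b00e70e00e13500e7d4005e1d00e411006801006b5400e723006b5300b31d00e23200b31e00acac00b8a000cebe00699200a48b006b560067a400ceba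
def cT_131_134 (j : ℕ) : ℕ := bif Nat.blt j 132 then nat_lit 0x8fd3008fe0005ee2005f170062d0008fcf005e3a00bbad005f2700617f0058f200412e006a1d00444a0095900039bc006be300590a00433c0069bd004408008fd000398e000a9900c10700c09e00a90300a958007eb600cf5a00d46800799300bbb20043b5006ed100bf5d00c77a0083eb00c7240073cf00760d006f87002bbb006f3200d5d400872a00e0f4008f0000c4b3004b8200d5cd004b3b00ab6500e0be00d11b0024bb00ab6700242f009cbd00680400641900a64500243100a63a0024b900a80b00872400e04600877900641000a5b300a5ac00d4e3007ed0007f6d0041300042fd00e2fb005f0a00b23900a5b200c1600066b300ac4000b01b00a2dd00df910058f300c237006e8000db8f00d9e2008efa00e0ec008ea300c4e800af9000af8b00c61300837100840500427f00416d006aa300dea7009d71009b8c00c07100a44100a87a00d2f700ae31005eca00590900bc00006e3700d6bd00db5b00dd730056e300c9a600af79006ce600deed0056e900634700a4fc006ce3 else (cT_132_134 j)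
def cT_128_134 (j : ℕ) : ℕ := bif Nat.blt j 131 then (cT_128_131 j) else (cT_131_134 j)
def cT_122_134 (j : ℕ) : ℕ := bif Nat.blt j 128 then (cT_122_128 j) else (cT_128_134 j)
def cT_111_134 (j : ℕ) : ℕ := bif Nat.blt j 122 then (cT_111_122 j) else (cT_122_134 j)
def cT_89_134 (j : ℕ) : ℕ := bif Nat.blt j 111 then (cT_89_111 j) else (cT_111_134 j)
def cT_134_136 (j : ℕ) : ℕ := bif Nat.blt j 135 then nat_lit 0xcbb10084da00950f00dbd700431500af8500832800afc900d45600d45800b2eb00738b00733200732700afd300a27100964300d4530094f600a85500662500841d00cbe2009ef500bc8400982c00c7a100c7b500c7a30097e50097e20097da00867f00b2bd00dd9a00af460096ea00af45000ca900a9c3009ebb00550800746800753d00a2cf00e4da00dfae0096480084cb0064260067fa00bf2600e5d800e03500661800e65d00ceae009e4a00aca100a79100b78e00ac150066b100a69800ccb800d9a600641d00a4c7000bdb00a5f3008b0800dc2d00a5f400a551009bf000d7c300a5f700726b00ac1700a5f900418500a5570061a0005e6000ce5700ce59009e7000c30900784000a634007213005ec100b585006344009d5d008e8700584400550a00984900a30b00a30c00a32400a32000b7fa00ce5b007f7c007f7b00dcc700667500e6a6009fde00ba5d00e78800a32900b78400e71700d9c800b78a00a33e00e92c00e3d300e6ce00a94f00e29b00b8a300676200e29700dea4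 else nat_lit 0x8e2800762d00c61000ded2008ffc00ac6c00c0bd00cadc00795d005eaf007c1b00a0fe00cdee00df9600942d00a0ff00d18c008ffd00b69a00968100b5f1000d3600b5ea000d34009c0a009e6a00e67400aa0200961100b01c007a0d009cab009c4500c5440098b400432b0088f00098ad00dc6f00dead00a69a00de9b0098260098250096cd0096cc0096cb000b3f0098d70096ce0096c3000b3d00ad3500a85600cbe30098b30098a9009e6900982800983400a7fe00e6000098db00411d00746900753e00e7bd005f0400cb3400e711009c090075f2007e3b00679e00e46200a95c00c85d00961200c91b00d40300d4c70096d600a4be00a4bd008a7700e0db009e4200a4c100a4c000a4bf000bd900b30b00ad0e00547f0088f100987400a94a00e5ff00ae2e00adc700667300b04a00679200d5ac00e5d900e00e00cc1400e6f900c7ab00b2c500a95000a44400ba4e00950d00b7d500cbaa00cbac00dfd700afca009114000cab00a84200902300dc4600afcd00af8000ae0200d862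
def cT_137_139 (j : ℕ) : ℕ := bif Nat.blt j 138 then nat_lit 0x83300077480077fb00832900bcf300740200c07b00774700645300746b00e6d600635b00decc00645a00e7f100e85500e70800646500949700e31500bb4c00e89d00e50c006096005e1900bc59008ffa005e1b007a13005eb000617600d8ca00e8a4005dba005db5005d59007337008fff006b1a00aca00075fd0077910068a200a951008331005d58006ee000dbd4006cfe00dd8b00cc8400e0ca0066900079c9006f77006fd10079c700d5e000dafd00dedc00804d00910300e8c800ea7d00e8ca00912500b89500789000e0b4007189008565006d9c00e8a200711100deff00db79007d0c00dd7500d2f600e091006741009409006fcc006f7c007412007cff00d9f300deee00deef00605800e7d300e86c00e7d1005dbe00b989005ded00e04e0061a4005db4005db7008ff6005e74006d9d000a7c00ca2b00db77006dfc006e45001114000f95005cff0070d0007414009e38009f72005cfe00bf7200bfe600e1eb00bfff00711900708800738600738a0073820073f0007b7500c308 else nat_lit 0xb5fb005fcb00dff300e1e300242d00740e009bdb009b9000692400841c009bd2009b48008daa009d1400a4b7009d5100d0d8009b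530096f0005fff007b1d00a50200e1e900af420024b700a79700bf7400c907009438007ee6007b7100947d00c62f00759c0094d40094d30089310094d6007585007451005849007e8d009880007e900094d000bf660084db0088f200a8f500a8fa00847200746a0098ab00e66c00b18900a5c60094d200948500e2010075fe00ce5800bf15007fe100940e00760500a9da00940f00e43e00e66e0073df00712100e30600e42300914800b4fb00910b00c31900ea5800dba90089af00d5e300c22c006d5d00de05006d5f0090d000e44200617700de84007bbc00ba52006bf7009f2f00a2a800791300cded009b1600c79f00bff20094a700d4d000abd4009be500ac040075ea009bd5009bd40075e80087f8007e3300e32c0083cc009c120079bc00795b00746700753c00a2d9007dd900ae5f0098ac00e6d000712300a25d00af9900ac0500abc800e78f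
def cT_136_139 (j : ℕ) : ℕ := bif Nat.blt j 137 then nat_lit 0x6cfb007b7400739300733000732e000e640078c100784200847e000e4900de04006d990073ef005dcb00773f005dc9002e15004b37004bc6004b7e0069320068d10009a70068cf0069e8006a9d0009a8006a9b00d5d5007fbb00344900344700e0f200e0f300830300312500312300d5d6006ee900aa4200ca6600b93300102600e5f400a9cd00cc6f009a34006fe700994d00d35a00b7fc00106c006b6700964b00d5c800ac8100d2dd00ae7500d2df00d0da001032009943000f9700103300b43000b0d200aeaa00e0af00c41300a44800111800e5c50088e80073750086c3006ee5006e9700c7230099d700ac8f00cf9200cad900a38600cad700c4bb00107800aa3800111600107900a0fc0099e100a3d900e0d200d6cd009e48000f9900e5c0008daf005e94008f3900cf5900b0c8007485006fe3006ea300ccd500107a00aabd00942a009fc500883900ba3400762e007b1f0072ac006d5e006df600dc0a007126006d6000103400935500d30600d0fd007c1800b37b00c60f00d2cc else (cT_137_139 j)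
def cT_134_139 (j : ℕ) : ℕ := bif Nat.blt j 136 then (cT_134_136 j) else (cT_136_139 j)
def cT_140_142 (j : ℕ) : ℕ := bif Nat.blt j 141 then nat_lit 0xb890086690082d400647100a7dd0074bf008538009cce00966f0095c60089090095c8005d630094d800952b0086ab0082d8006f290082870082850088f60086b9008e93008d2b00e394009630005dee005e2300e0e000674d00674f008a27006a8100444000a43b00669c00669e008ab900697800443f007788006d4000cbbd00710c00624e008c460027a9005e20008c7e000b880085f50074b6009ceb00affc00c9c2006bf8008c44000cf000647e008c4300969400a6230097ef006271008a15009d47007d5300856700862f008a1400896a008af40060bd005fa6008169005fa80067ac008967007786006633008536005d76006e790088e100861f00a843007d51006e300088f5008c60008c5e0060690084d20091b9007e2f006183004b38006d590090ca00ba70006d5b0094b2009d6b0079f100d84b00d744004b7f006f8300604500b7d4007bb9008ff800b23300d13c00b99300d8ae00b963007d0e00819900b86f00e31800cd4e00cb3100c855006fa400949600afd100b931 else nat_lit 0xdf710087bd0076420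07f80007fea007ff2007fd500cec600ea780090c900e15400cce000910400d1f2006f7e00e5b400d48800914100bad2006a8e00bad0006a9300803900dc3a00cbd000b1b200cbce00d1e7006d4300b02200821b00c726007d0300b01f00a95200db0b00d82c00b87b00e5de007790007d5500b00000affe00716500df0700e40b0082da009ccf00739800ade700e5b100c31400defe009e98008e5000b18500c07e0082d200828400828800831d00bd6300def000604600608a00cfb400605700ce98006f7500e5a200641800646c00ba92006985008b7800698a00612300dc2e006146009b7c00897a00d34400618d00a6480080e000c9a1005d7400a4d200c0c400d80200c0be00b96f00e5da005d6c005dce00a62700a625005d3a009592000cf10095d8007f8800912a00aba800a288008ed700a81c00b5b1008d3c00b54b00b54f0086f000863600abc9007648007f8b007027007ff1007feb008637008f3000e2e900876900dc4c00725a00c2d9007164009dd4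
def cT_139_142 (j : ℕ) : ℕ := bif Nat.blt j 140 then nat_lit 0x744b00dc6b00b98c0094f100774a0079f300790200a44300a5c400dbcf00bb4900e0ea00cb2400440e00ba55006bf600d268008528006f4f00af5d00a63600635c00626e00a66d0062400075ed008f3800c91800783f00a79200d1a100af9700dd2800c31600c1e400c85200d2cd004444008c6b005dd60067ee000a94006b6800e0ed00674700e5c1004bc800b45100e02100c8c7002e190082dc00a72c00bb4800e71e00e04500669600e5c3002e1700a13400dff700cb68004bca00ae7600a72900c315006f95007c01006f400080ac006f42002e1b00d51b00db7600d17e00c90d00cc97007c00003c4f00e787006f9700311f00c5810081970079f200c57e00cf5b0080ad003bfc00680b0080aa0081e500df2900b1c100b6970026d900b5eb0026db00a33200a83700a33000979700902400dd8300e30800ab54009b990098210024f200e2c400e2890096c40024f4009c27009c25009c21009c20008b0900987b00a83d007e3a006aee00987900a83b0088e300af0600e1e200a487 else (cT_140_142 j)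
def cT_143_145 (j : ℕ) : ℕ := bif Nat.blt j 144 then nat_lit 0xe21500e899009ca000e7ae00e7aa00e7ac00e22000880b00e21f009f3000deb600e22600afd200e22500db8400716300df7e00c450008e0700c632006f2f006edb00645d00da0700e5a300e4c500bb5900e59e00ccf200a51c00d36f00a45b00acee00916e00555400aca400745b0075320042b100a9a900a4a500422500a948008c3a00ac3800a87300af5300e0b800ace000637200a5e800795c00c0c900628700627800b2b1007bbb00adf600b5bb00db8c00d95000629500ab5800b1be0062ab00e7ad00e7b600e7b8008faa0062b20062bd00c0c100a43000adfb00a63500e20a00e209005d3c008fb2000a9500881800d4d300831c008824007d1000b96400831a00c5e700b9ed006f2800832400cc320082c000bf2400870a00d47a009c1400916a00953300bac6009f2100a2ab00802900e0b100aeb900ae8900758900764a008e47008f2300758600a41f00e9c000a68b00cd5f00702900d73000b04c0091b30091aa00b05900b05b008dba00ded700641e00d4c100b010009d4e else nat_lit 0xe13a00d2c100d52400ba5c00a3ae00bd6400b98e00a9a500e73400b2c700b78f0092ff00ac3900b81100b9b800acf0006802009e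4c00c88000b7d200dc7100b45200b049006bb800dc8400a1350064270069ef006f9600b879006f4100b96d00c76200d657008b3900b92a00737300876e00d27900dc8000b1b600e03800665700ce9d009ce7009cd400b1b400e29c00b1eb007c9700876000665500880c00c2700084dd00725c00df1500970000a7dc00c66a00b1b100a5d000b06d00636300d05100dc7500624b00b89c009b800062a300d0df00b1f300629d009b7e00e311009bc1009bc3005e6c0062b30062b10062b00062af00c0ca00db9b00b60b00aba7005e3d00d62e009b7b00afa300d38d006fd700dbd000e4dd00e72600e47a00bb5a00e3af009ef300a2f50056cd00a94d0094f700a9910041c20094ec00a9a100427800957c00d08600a4a600d19700a4d600e05000a47a00d8cd00afbb0084dc00bf4d00ae7700e71600b96100d3e000e70d00da8500e12100e53d00e21c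
def cT_142_145 (j : ℕ) : ℕ := bif Nat.blt j 143 then nat_lit 0xa7ee00b57c00b06900dc7200e73700c1d400e16500dabb00773e00e16700cfea0060cd008e1300c15a00b8700060a000cc430062490070260061a200d5b400802a00d5aa00870b00ce87008709009d34009d3200737700a4ea00ae0c0082bf00e04c00a3e800a39a00c26100c22300949900874d00abc70074af00e8a700b05500d39c006f2b00d72000a68200baf90086ad0095ce00a6910088f300d00900def800b01200cef8005f0600642000b1f600abb900e0a9008b3500dc8300bfad00614200614e0079b5005f5400b32000c94700bb6000e54000697d00a303008e590067130091a100a307009b85006714006632009d9100ac0300b55200794a00794c008afd00e3ad008afc00ddb20091720087bb00987e00953500a2fa00c2bf008d2c006a8600ae570087c60066d900898a00ae5b0094c40066da0067ab00897100957200862600b394008b4100611f00612c00bfac00605f00e68d0086fd00af9a00ab8200875900e9fa00e9f2007f8d00a81d0074dc00a28700e5c700bb47 else (cT_143_145 j)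
def cT_139_145 (j : ℕ) : ℕ := bif Nat.blt j 142 then (cT_139_142 j) else (cT_142_145 j)
def cT_134_145 (j : ℕ) : ℕ := bif Nat.blt j 139 then (cT_134_139 j) else (cT_139_145 j)
def cT_145_147 (j : ℕ) : ℕ := bif Nat.blt j 146 then nat_lit 0xb023008c57008c66008f68009d7a00a9c100a4ce00b5de0085f900aea4005dbb00a4d000a37f00550c00c81c005552006d9a00a38000548300d6690056cb005dcc00430a00a56600417a009798004332005806004124009bd000b565008d7600c98a006a9100c99f005dc60095e5007a0200c6e600698800c5e800c4f4008dbb00c52f0095770082c6008f6500d23700bd6100ca9b00d48300affa0095e100810500d132006d42006d3e00885600bc6300b529007c480086ef008fd500ce93008fbf00ce9500a4d100b561005eed008c4a005db8005ee400c7aa00dfd100cead00d9ac00ae3e00103e00adaa00103c00a2ea001084006f5000a241006fa5000fde00e0ee006f9200107600a1cf00cfbc00d8d8004b3a00e5d500102f00c4b1006f3d00103000a1cc00d0b600312200344600bebe004b8100e79900107500cc9b00e5f6006f210084ca00c5a30088a800c9cd00e3e100e57700d0e400ca6700b79c006f1f00d5df00e3f500701f00667400701d00d51f007b5a00d4eb00e4de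 else nat_lit 0x9143009145009ce00088090087b000abc500abc4006a6e0082c800e50900e16e00db9d00982f00c4ea00915200e06b00a3c7008e4b0075ec0087b700841a0089a200612600862a0091670087b80091ab008c7200e37d008c6a008af5008fe100e70b009dd500983e009e5900d86800a7a100d7d700a7e100a7df00e42900a2f100a55600698600612400962a00965a008c4500896f00958500646800646a0095ca00896e008d6700952600952500584a008032008c5900963300e50000b6cc008ae400ceb900bc8b008c6f00892f0094f0008974007e3800debc00c31d00892e00897300bb53005d5c00e0330042b500c81d00d111007f72005585008e880042bf005587004277007c7900df140041c600d55700837600a8700056800087f50041d000568200422400614f006755004220005837004221009b6c00a69900b06300b513009e27009ea400969c00b1a20094ad00cba90094af009e9e009d5f00b5c300cc5a00a3bc0086f200953d009e5c00a46500913600866d00880e009865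
def cT_148_150 (j : ℕ) : ℕ := bif Nat.blt j 149 then nat_lit 0xea7e00eb5100e2a500e61c0098d200412200957900971400e95400b24f00e38500bd3900e44d00e45b00d33600aa2c00df1b00b8ca00b24d00e6ea00e6eb00d33500e1d900e1ce00b2cc00ba1400e1b90041db00b03f00d65d00aa1c0042c2009e7f008f1a00874b00b92b00d8bf00df2100e130008c7c00abc300d5ec00e05c00e4ae00ac2e00e7f400e76e00df1c00e75d00e7a700eaea00df2d00eaeb00aa0e00e19f0098e400b2ce00d81e0098c600c9f5008ceb00d1ac008cd8007e8a0084d700abca0084750088a900d820007a5d00b8c500847a00ce3500e587009cd500875a009cd70088aa00e5a500aa0700d1290098e60094c300951d009d2f007f280066dc008af000bb5b00b19100a4d700a69700e71500803100bc8100e38a00e65c00b27800a3c600d4a000e3b100ac2f00a68e00a3e500af9c00e48700a39400a9f700a9b500a97000a9b100af9d00875f00a3960088f9008b8e00d47c0087b500899400863500e3b200e2e700ea2900e37300ea5900e36a00ae3900c6ee else nat_lit 0x9d8700ba8100ba7f00e77f00e5b200d1d90098c500e39b009d8500b8c900e69100d1d800e69200e1da00e26e007a58007b0800e1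df0042ca00c76c00a66500aa1b0041d300a36f008744008f2100b84600adc5009d9e00d8e600957b00910f007c4700d91f00df0b008c8800e81000df1700e69900e24400e75c00eafd00d96600eb1e00e62100d7f4009e5300aa2b00cea000df1900d32a00d408007d90007e360094e1007ddd00d7f600921000ba0f00d326007b1700758b00e5c9009bc000857a00a82500920f00e1c200aa1700d2da0098bf009bcb00ac250095340083c6006716008be200cc2a009b5b00af5400b06100c2b80082c700e3c100e7d600ea6a00c32900897600ced100957d00b05800aeb600a5c900e72900816e00ad2500ad0000a7c4008edd008fca00ae8500a5ca00aed800e39600ce8900e73100dc6700bed700e3a2008cd700c2ac008a3300e39700e6f400bd3a00e77800eafc00aa160098bc00d81d00df2e0097f10096ee00eb090098d00098ce00e1ad00e450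
def cT_147_150 (j : ℕ) : ℕ := bif Nat.blt j 148 then nat_lit 0xd95f00d77700b61100b67f008ea100972b0096db00b5cf00b5d30080a200e77a00a9ca00a98b00d10200a9c800a82d00ae4600af8100a98a00a32100745c0075310042b200753f00e6dc00e74d00e321008ee800a82c0096dd00c4ef008f34009c3700af1a00d95e00a61d009c3900dfce00a7aa00a51400a2b100a839009bb200ad0f00a7a400d40400b21200af2700e36e00e6d700e76a00985b00e2cd00a2e500d2fe00b6d700d7da0097060098090087770097870097ea0096a80096ac00d31d00e74700964e00a7cf00cc8900a7e200978f00a55300a2f200a7d000a3150094f800abde0041c30088ef00e74e00ea4400e2c500871200a5600097e800bda50086be00a55500a48f00956300e12f00c58e00b6d600a45f00cbb400ae1200a83000b1da00a9c400a9c600cdf1009d27009d29009d2d00a3c8008a2a00df6f008a2800a3bf00a43400a43600a9e700a42b00d7c9009d1d00d77a00a9c7009cc500ae450094e800af84006a8f00cbcf00b1ac00b59c009d9300916100b54c else (cT_148_150 j)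
def cT_145_150 (j : ℕ) : ℕ := bif Nat.blt j 147 then (cT_145_147 j) else (cT_147_150 j)
def cT_151_153 (j : ℕ) : ℕ := bif Nat.blt j 152 then nat_lit 0xe41200e0fc00583500422900c50700aa1500aa1300e1a400d2b300b7ba0088b90041d100e657009f0200b1f800e18d00aa1900e18300e18c00e06d00e18b00af4300e27c00e18a009f0400e18900e1e4007b0a00b5f000417c00669b008c5600debe00827700df2f00690500e2be009b970096ed00e4aa0097f000412100640f00980d008aac00669700983300e60300980b00e60100c98700962400e21800e1800096c100411f00b2b900dd8000a5d500dfad00964700bb3e00b6cf00ba68007a76007b63009e9000e4600075f100a7d800e45e00bfe500b2f000763f00760400a97f000cf2006e42006e4000e022006af700afcf00e4b200e40c0087aa00ca53006089006f2300ea0f00636400daba00e91e00b7cd00b57b00e16400e17800d7b400e35f00e2bf00e2bd007b0900b6e900ab5700e35c00c9f400e35d00ab8f00e19400e18e00b6e700d0dd00ab5500d0d400a48500d0d600b51400e70100a9df00de9c00e65900617900a9dd00955600c1ee00707900847b0094a900e9fd else nat_lit 0x702100e8d000b530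0079b400e6fb00ba2600e6ab00e36000e23c00d73c00e35e00e1a000daa20098cb00e89800e1e600e1bf00e2420098c900d2be00b66500e0bc00d2b50094b000e43f00bc1b006ed6007b16009bb1009f2a00be88009ee500a63e00ac0f009b6a00a63c007ddc00d4c800d273009480005ec80069340066cd00aee100d14600a3dc0069f200d0b500668f00a5e600ce6b00ac8e00c4a400c4ba008ed800b18700e81400adc0008e9200e89b00d7230088f8008c4d005e1f008af3008c49008c5c00e0cd00b32300a61400aefc009e3000ceb300a43c009e8c009b4000acb200a2de00a2e200a2e0009e5e00acb300ceb4005ec9009e28009e2a009f0a007b5d00b20400e206006f03007ac700c62e00c97f00e70c00741000a87600674400a87400e91a008c4700a260008e0100c2e200a79800738d00bf1800d69d00af8e00ddfd00950a00dd4100bf1900e5f7007b6400740400c07c00a79a00a7d700cfb200e3a400627a00c31000e9a900645c00e80e00e6fd00e61b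
def cT_150_153 (j : ℕ) : ℕ := bif Nat.blt j 151 then nat_lit 0xc9ad00e4a100b2f4009507007a6500c0350094f500847400ceff00d04b009b4300d0c90069e100670700adc800a44900d2f100aead00d0480062f100a46c00674000d0e1009a4200d6e300d0e500853900a25f00e7e200e31000876800ea7200d71300e15000916600d131006d3f00d43100c819009cf100e6b200ea7900b2b700e09200dfff00afed009d42009d4600d13700c81b00c02c00b2ed00948300a96300ae3200ae3600740f00ae1900a42100d138009bfd00ab7200a50100e01700a4fe009d1b0062f200700100bf5100d4cf00bf5300ea1c00d97500741100a87900669300ac3a00e98600bcbe00bcbc00b18600881200e78d00e4610079c300decf00bcf100bb1500640900d9c900bcf000e5e500b9cd00c93e00a5ae005e62005f5200764000b9ce00796000b7a800ab6c00aba200d4090088a300bc5e00e9d200e39c00d12400e9d000eaf800aa0800b6da00d73a00dd8500b66700b5f900ead400b6ee00b6ec00e1a500ea7700e33e00b6f0004330008c7b007a0100e8d1 else (cT_151_153 j)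
def cT_154_156 (j : ℕ) : ℕ := bif Nat.blt j 155 then nat_lit 0xe74a00e15900d2fc00e7330073e400e66f00e6d80086f80073e600626c00e86d00954100e42200e48500b84a00cda2007f7000afd700e6ff00e38c00862200c2d0008e4600bd9900e48800d08700862000c2a400d08900961400af950088e4005dc400e1030088e2008f1e00584800e6e900d0f6008d2100a3d400d23600bc23008dc600da21009e1500412f00e5ed00d62200e01000dc5600d694007e2900abb50042fc00a47600a2d100ae2b0067a0009bdc00953700a42200e2de00871c00b2e000dbca00d19f00e22300a42000a41e002537000bd700d12f00ab5d0074580094e500943c009ce8009ce3006930006f3c0060550096f600b23000636600a62600b03800b6a400dbf7005e1c00c27700af0700e6b600acae005ec400dc2800e41300d14700746d00e6d500decd005e630073de00e8a00060a200e70900e6b40073dc00d3da00e70600e76f00e65b00837400e68f00baf600874f008ef400e79e00d53f00cd20008fc5008fc7008fbe00857700a5c2008868008dab00d96f else nat_lit 0x7bb300837a00b96c009d7b009d7d00a4cd00b30c00984a00969b007f79007bae00b878007f76009135009ebc00b1f4007bb00096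9900b24500b99200b33500dad900e62400e28b00b33400ea6e00e62700e6c2009b4c00c9df00a7eb00d55300a64200abe900a7ed009a7b00a46d00ce5000cfbb009b1500a762006691000f96007a8c005f9400bcba00acd4008ec900b93500e2ea00ae3b00d0fc00e36c00d10400d0e900b98a00e3d200e2ec008e9e00b9ee00a6b400d2c000e32000a2e700d2cb00e2ce00b9f600b7f100b7ef00b75900e31900877400cbb60079d4001ab1001ab200102e001074009c4900968a0097e7009c94009c930074b5009c91009c9000a55e00b6220097e600968b00971c00a510009c29009c2b000bda00a32500a56100967c00968300a7fd00a7fc0096220096210096200097230097210096260096250096d10096d0009c2f00a30900a308000caa00a30a00d8ce00afff00910600b1c90094b100984800a65e00bbb3009d1500dc5800de9800e69d00a95b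
def cT_153_156 (j : ℕ) : ℕ := bif Nat.blt j 154 then nat_lit 0x8748008da900e770006a7000b25600b52a00ac3000cfa600886e00bd4400daf1009f6900433d00e03700e5f000ad1600dbfe0084cc00ad1400a7ea00416c00a2d0009be200662700a2ce00a2cc00a2cb00a2ca008ef200e31400dd23009e6500d31c00bb5200757f00a2cd00268d000ca700629800629a00a60300a8d1009b12009e25009e240069ea006f9100d24200e78600ae7900bb4300ea7400e30400e86a00ea000094ea00915400d96800675700417d00c76d00aa090098c200e247008d8000421c00ba1300e1c1009d0f00b32600ad4e00e24100e1b200e0ba00e24000e23f00a4b800e27b00b32800e23e00e23d009b5100b9990096c900422a00674c00dd9700809500dd84006acf00b5f800b66600432f00e41d00b683006748008a0c00b68100956000e6fe00c5ec00e704009c8c00e23900b5e800432d00dea600afa800df3300ae2d00c30b00aba300e630009881009e8e0073f9009641000b8a006e4300df0000b7b400d8e900a63800e9fc00e9f4008ed400d51900e155 else (cT_154_156 j)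
def cT_150_156 (j : ℕ) : ℕ := bif Nat.blt j 153 then (cT_150_153 j) else (cT_153_156 j)
def cT_145_156 (j : ℕ) : ℕ := bif Nat.blt j 150 then (cT_145_150 j) else (cT_150_156 j)
def cT_134_156 (j : ℕ) : ℕ := bif Nat.blt j 145 then (cT_134_145 j) else (cT_145_156 j)
def cT_156_158 (j : ℕ) : ℕ := bif Nat.blt j 157 then nat_lit 0x4b39005f0800d0e600e91000cce100bb7700783e00ded0004b800079ad00cad500e7800084c000783400884a00665c00c9b300dfa000b7c800b7ca00d5f000dada007e7d007e1d0078f700677700884900969000cc9a00cc9800dfd000d5de00db3200d5dc007e81009eec00af4a00636500e409007f7400b88300e75000b27200b2af00e14600877200b9b100e10700d11200d45c00add900addb00ae410010c000e7ed00bba700e31a00d0eb00e2ef00837800b977009e36009dd3009e2d00dc6a008e9c00b83e00d97300cccd00ce5c00a27900a27b00a2ed000fdf00e74c00ad3900e2eb009c3a00a3af00e16800e6200086f500b5340086f700882000d82d00a466009cec00d4ef009f1100db3100e18500e65400e6af009f1000af4900e6230094c500d4ed00abb600cb3d00d647007a6600abb800af0500d45200c19900943900674200111500a07c0073960074060073f600879f009300006b5500a6410086f4008f6d0095a500b2f500b6a600da7800837d00b96900b2f700d803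 else nat_lit 0xe68c00e812008fce00e20b007ed4007bab00b87c00840900da75008fdc00a95900e0e200d5cb00dff000dff20066c000d5cc0066fa0087a000e0bf00ab68009cbe008eca00e08600a63b00a80c00e15d00877800a4c9008ae5007ed1007bad005f0900a5bd00b23a00a2e300acb000e2930043a800bc0e00c236006e7f00db9000e163008ea200a27200c4e900837200840600dea8009b8b009d72009b8d00a44000e1f9002ba700c9d200bbff006e3600e416007b5c00b30800e2ed00e57200ae7c00d87500e5c800e40d00b73f00a38d00d7a900e5a400e45a00841500c1f800e73e007ee000b81f0064bf008c5d008fd8008df70063b600a3ba00886000889f00e79700b73e00a38e00ea8200d26a00ae7d0074490086b100e5b700a3920086b000b96000887000b813007c4400e5ca00ae8100b81200adf5008dc800852900c2d100c31b006d3d008cbd008ce60091bf00e0d6008fa3008c6100bb4e005ee3005fa5008f98005e3b008f9b008a3700794800ccdf006417006991007397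
def cT_159_161 (j : ℕ) : ℕ := bif Nat.blt j 160 then nat_lit 0x9cc200c7a000a85100af130097e40097ee0097e1009b5a00977f00977c00977800b2bc0096e900a47b00983900af0a00a9c2009eba00a41d00987200ace100662600a5d700e5f1008b3800e036009e4b00ac1400ccb900e5fe00a4c600a50700e36800a5ab00bf2500a5af00a50600a2a200a5b000b78d00a65a00a616005e6100a5ad00947e00bbbb00dec200bf6500784100d2e700ae0800b55000b2ae00550b00a51600a3da00dcc600984c00e65100e15e00b31b00ba5e00e86600d54a00a33f00a32a00ae6d00e29600b78b00ba41007fd100e74b00bcf200d72400c2c60073ec00612b00e42e00e703007f7800e70000e73200dabd00e15a00614c00e01300662a00acf100e6cd009e2f009e2600cf9900548200ae6c00ae6200b78500c82200b2ac00cbb800838100879e00837e00aeab009d8000de3e00e6fa00df8000e7be00b79e00a34100a32e00b9b400e80900cb3500ae6e00ae6600a34000e763007f7d008ec8007f7a00641500e877005f50005f4f00b78300e921007394 else nat_lit 0x7b7300c16a00c19800de030073ee0069330069310069e70069e900ae3c00a98700a2e800acd6002e1800b7b70010310088e7004b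c900b7b6001077008dae0096800096d300b65900b5b700af7b00aa0300a4a100e61600956200afa900d96b00b6800098b500977a00432c00e46400e6550097e30097e00097df0097de00978000971b00aa1e0098d80096de00e73f00967e00967700d69300a50900e65e00acf800a61e00dd8100a5d600e60800980a00971e00971d00411e00ad3c00a63f00e61f00b324007e3400a4a000e2e60088e500a81000c91a009c050096d700b65b00a4c400a2a600b190009727009c3e00a50500e290009e4100a47900a47800a47300b30a009e5d00953a00a99400987300a99300679f00e5f500b06c00e00f00b2c600950c00d35800e5ec00af1100973c00e36900af8a00d5ab00af9100af7a00ae03009b8e00ba4d00951000a94c00737400af8f009b4500738c00732d00733100c27f00c60a00a2a70095c900e000009ef4007e8c00e42800acf9008dac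
def cT_158_161 (j : ℕ) : ℕ := bif Nat.blt j 159 then nat_lit 0xbcf500831900de8500617800aca600e4a200bf1400d71400bb6700de0100e72500de3400db5900e94300c1d900e75900837c00e6c000b31c00e6b700e44400e23300bfb20079b7005ec300dcbc00a4f300dfbe0067a300a48c000ca60062b60062a600e8760074ae00aed5008faf0062b900d282008d7a00ba6100bfa900ccf100cd1c00e72e00e54300e77b00d38500c636009232000bd6009d9400a3b800e9f1009d9600a42c00a3c2008a720079fe008be900b7a100c1d0008b8f00d37200df6d00863200899700cd2e00ce2800a4f600b34000da050066cf009ddf009ddd00d76d00b00f00e95200e32900e93f00af0f009f1c00e4db00670900b27e009ddc00d7e400642100e95100e2f500e46300a4c8008c5b00bc8200e53e00bacc00ae56006a8700b617006a370066d500ccf000e37b00e0b200866e00cdfd00bd9a008cd500a30200697e00922d0069d700670f008b90008a30005d5d00afee00a61500885e00de7f00bd9b00de8300e7e400ba8500e5df008fbb008fbd00e79b else (cT_159_161 j)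
def cT_156_161 (j : ℕ) : ℕ := bif Nat.blt j 158 then (cT_156_158 j) else (cT_158_161 j)
def cT_162_164 (j : ℕ) : ℕ := bif Nat.blt j 163 then nat_lit 0xe31600bb0d005e2400cbbb00674e00d37700ca97006a8200ca990066dd00a43a00669d008ab800d53c006979008aba006717009cf0008c4c008ab300912800c72500c89000647f00647300c9a200c9a30085f600863000bb680085f700816a008af1007d56007787005e21005d7500affb00a62200dfd200d9ab00d74300d7ad007d0f00ce6100d6550073dd00744a00afd000b98d00a5c300bb4a00e647008a3600ba5400c6b200626d00adf700a63700624a00af9600c31700e4a90079a3009e3100e32a00674600e49e00dff400e2f400669500e49100e01e00e19000e3310026da00a32f00a55400ae0400973d00e20200e27400e1cb00e26300e29f00978b00a83500e28800e2c2009b980024f300af8600973500a31f00a2a300a83e007e35006e7a00cb6b00e32e00b5fa00e1b800d2b600e1b700e1ea00e1ba009b8f006e31007e8b009f2b00e20400a4860096ef00d0d700e25300e25200e27d00e17a009b5200a80e00b50c00cae000db3500952d00aedf00ea3500952c0094d5 else nat_lit 0xa2fb00ccef008e53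00ea1200d4770087c50066d800c31c00897000862300d74100862500862700d7e200b39500897e00b39300897b00e9f500e89600bfab00e4c000ac2700af9b00ab8100e5af00ae4f00d2410087be0079ab00910500bb7500d1fd00914200e8a900d7df008905006a8d00daaf00bad1008035006a9200916000803800ce2f00cbd100b1ea00cbd300d1e600d4e4009d5a00db0c00e75100e7f2006e4100d5e8008e5100c4fd00dab100605600c2aa00ce9900646b00ea3b00d7720089030069840079a900ba910082cb00698900dec00082ce00614700968e009bc200d57000a78400c9a000e41400db1900e76d00e7fc00b2790095d700d7c8007f7f00acd300a3ce009b79006987008745009ced00b528007588008f2400db9c007f8c00e06a00899300db220087bf00e43100e2e800d82500725b00c2da00c32a008a1900d8670082d30073f700bd9f00b1af006a90005d62005dc500957800bda00086ac00e4ff0082d900bc8c0088f7008c5800e4c10062b5009631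
def cT_161_164 (j : ℕ) : ℕ := bif Nat.blt j 162 then nat_lit 0x7e3900952200987f008c8700a94b00e00100758a00ea6c00952e00a9db00e7ee00e30500914700a43200c31800c4ff00ea6d00c31a00dba800e2df00e681009cf700ba5100ba53009cc00094a800d54700e56e00ac0d00e9500087b400abc6009be300841b009b4900e6050087b600ac9f00e6d10073e000e02600c26000e8e100ac0c00740300e67300746c00e95600645b00646600e8aa00bb4b00d5ea00e8a800bb4d00e50b008fa600aca500b22000b79100b79300e41500e43b006fe100e3ed006cfd00deda00a80d00a2e900dff500b2ef00bfef00943a006f7600e92200ea7500e29500e8c900912600e8c700b88f00ea3f00b89400e0cf00b1b300856600de02006d9b00cfad00e3ec00c037007d0d009cbf00ae3d00defd00964000bfee00bfec009b14006f7d00bff100e92d00e93a00641600e7d200647500e88c00b98300e88000b988005dbf009b7d005fa70073ed00618a00cbbe008c4b00c02d00963d009e3700bfe700e7c400c0300073f500c03600a84f00acd5006cfc else (cT_162_164 j)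
def cT_165_167 (j : ℕ) : ℕ := bif Nat.blt j 166 then nat_lit 0x702000971100d4f300b533007b5b00c81300e6a300e5c600e43400a9a400acef00e49d00e49200876f00e5ab00cd6800db2100665800783900a48000d8da00c9f300e0bd00e2da0066560095d600880d00dc3700a95a0082cd00c66900b1b000df7f008e9900e5a10062a40067730078fc00a97a00614a00d73500a48200a48400e3120062b4008a1b00b1cb008fba00d7c700803700d62d009b7a00debd00dbd100e4dc00e0e900af2800e58a00cd2c009ef2009ef100e6e100abdc00a2f40056ce00915100914f008c3c00d08500d17000d2aa00a4c300cfaa00d3df00e53c00b79000e21d00e97f00874700e21400e4f5008813009ba200b1ba00e94100db8600e93200ea7f00e7f300e2240095d400880a00e22100897500646700e94d00e12900e2e500db8500885d008e0600c63300db7400da0600e04100a49d00e4c400cd2d0085790056cc00d68d00d49e00a45a00acec00555300745a00a45c00555500a9aa00a4a4008b8d00cd2b00ac3700d08c00af4800627900cda700db8b else nat_lit 0xa2ae00d77100965700965900612500962e00962900962800957a00957400e98300ea3d00dba700b6cb00e50100e68700a48d008d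6500d7e100e17300ce2e006480008fcb00e03400d16e00af9300e752007f7300c81e007f7100696600df8100b22100a5c0009dd800837700cf9a008375006a6f00675600421f005836004272009b6b00b51000ac13009dd700a4cc0094aa0094ac00950b009d3e009d5e007838005d5e00a3850086f300a427009d4300ae1a007bb100866c00d23900b0240078fb008ab4008fb4008f6900a9ec00b21f00a2b900b96a0085f800cfa900a64a00d16f00ac3600430b00417b004331005805004123009bcf008d7700b56600962700d87600e3070088b00095e600b5790079a700e59f00e3a0008cd60087c100e43000c18900e04a00d48400d47100aff900e3be00e79a008e5400e4c200c01e00e0f500ce9600ce7e009e6600d0e300ae3f00b7f200a2eb00d2dc00d13e00ea0e006f2200b61c0095a400b30700c9d100e79000e5b000e65000ca2d00e8e4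
def cT_164_167 (j : ℕ) : ℕ := bif Nat.blt j 165 then nat_lit 0xba5000629600b1b9008e0200b1ca00ab5900b1bd0062aa00e2fc005dc300e53700e7cc00e87f00e811008fa900e3c300b2550062bc00885b00914600b2ba00d95800e22b00a42f00e30100e536008fb100881700a43100831b00d47b00a2f600bac7009f2000b21a00a2ac00d47900d06f00614b00df9200a42e008f2200698200e79400a68c00d7f900d4070067a100e9c100d72f00cd6000bbb100cdfe00d07500a5b4009d4f00e94f00d7ae00a47f00ea0100b06a00b33700dabc0094e70060a100ce8800ae4a00737800a457009d3100ae0d00ce8600aeb800a3e700cd6700a39900dfed00e89f00874c006a8b00e6ac00b05600d82300cdfa00662800e91700d71f00d0760086ae008c5a00963200b01100cef900641f00b1f500e6a200d74200d8db00e958008b36009f130079b600b32100d36c0087c000e54100ce8400629c006127008edc009d9200e39f00d7af00daf000a3840079a500794900b74e009ff600b9a600e16d00b551008afb00917100758700a5c800a7af00e5d3 else (cT_165_167 j)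
def cT_161_167 (j : ℕ) : ℕ := bif Nat.blt j 164 then (cT_161_164 j) else (cT_164_167 j)
def cT_156_167 (j : ℕ) : ℕ := bif Nat.blt j 161 then (cT_156_161 j) else (cT_161_167 j)
def cT_168_170 (j : ℕ) : ℕ := bif Nat.blt j 169 then nat_lit 0x98d10098bb0068ac008d78008a3200a86f00b88700e39800d2d300d2d100e77700eafb00aa2d00e34e00df1a008ce700b97b00b24e00e6f100e6ec00eaa700eadb00e1cf00e25d00d32b00e2b900e1cd00e27300e1b100e1a200aa1d00421d00aa36009e7e00874a00e68e006a8900d5eb00e77100e4b600b88b008fcd00e69b00e1c000e6f000eae900eaa000eb0300e6ad0098c000e65800e1d800eb080098c7008cea00e93500e2b4007a5900a47500d82100b2d100dc5100abcb007a5c00b8c600d1a700d11f0087c400ce3400e2db00e0bb00aa2400aa060098e700e33c0098e5009d300089e100e72f00e38b00dba400e4bc00e39500bbfe00d68f00a68d006a8800a3e600e48600d49f00cd6b00a39300ae5500e03000cec200a9b600d120009cd600a97100a9b000a45900a39700881400e3b400e3b500e67200e91200c6ef00ad3a00d68b008ea000972a00c0750097890096da00d77600b5d000b67e00b5d200ea5a00e36b00ae3a00d18700a82e00a4f000d18d00ae4700e6de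 else nat_lit 0x8c7700e4c600bc5f00e37f008fb800d12300e69700eaa100e35700eb5300eaf200ea8900b6ed00b6eb00e25100e33000b6ef00b6d9005803007a0000e4c7008c7a00ba8000d12200e9cf00eaf900aa2500e2b5008fb9009d8600e69800e69300eaa600e26400eab400e25e00e1db00e35200e1de00e1b000e1a100aa1a00427000aa3500a36e008f2000698000c50000e6e800e38d00e7b000e35600e69400eafe00ea9700eafa00e1d000aa2a00e75b00e34d00a65b007c4600dc09009e560094e000ba1000d85000d32500d2d0008b8200d43600e31300e06e00ad4f00aa1800b6fd00e24600aeee008998009b9100e7fd00e72400897700c8ee00697f00aeb700a78700ced000816d00ae8200a30100e00b00c83c00ad0100a82400a78600acfb008578006128008e0300ea8500ea8800e4bd00b05700c2ad008a3100e57000e4bf00e6f500e78c00b97f00d2d400e6ed00ea9600e35800eb5400eb0200ea810098cf0098cd00e1ae00e2a400e25600eb4000eaf100eb3e00e29e00ea76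
def cT_167_170 (j : ℕ) : ℕ := bif Nat.blt j 168 then nat_lit 0xad3b00af8700e2f100dc1e00809700e61400a27300ad2f008e9f00a27500983100af1900a7ab009c3b00a51100a7a300970900e6d200e01500e32600c98100e46600970700ad3e00877600978800978c0097290097eb00d7db0096a90096e00096ab00e76900e2cc00a2e600ce6500a2e400aa0400d30a00a2f300e72d00e46500e2f200e7a400a55f0082790098b700a50b00aa01008775009c4a00b6ca00a48e00a45e00cbb500a82f009cc300dfee00b61200b61400e4be00e78b00e71400b55600a3be00874600c9ec00a43300ea8300e88600a43500b27a00a42a00ea6000b273009d1c00a4ff008ee900d7ca009cc400ae1100a4f100ae0f00e6dd00bd9c00b59900b59b009ce6009cef00b5780087b200880800b27400e91900e50a00983000db9e00af180091530088070079a600614800e15600b89000dba3008c6900e37e008ab7005d610062ba005d5f00dba100ea4500e89c00c01c009ddb00aed600e915009dd600a7a2009e5800871300d86900a7e000af6e00a2b000e689 else (cT_168_170 j)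
def cT_171_173 (j : ℕ) : ℕ := bif Nat.blt j 172 then nat_lit 0xaf4700aea500a65d0083820073e300ddf70096e7009dda00d08a00863100af9400e1020094df008f1f00ea5f00d235008dc50096e800d73f008dc7007ed2007bac00b34200bc2400968800e88800e87e009bdf00a47400871b00dbc900862100b02500a3b900e20f00ab5c00745900a4580088e6009cf800b037007f7e00ddf80073e200e0d8008fc400cd2600816b00a5c100d96e00abcc00874900e53f008af700886d00d8a9009b4a00886f008373008407009f1e00c1f700968500e95a00e8ab00ae2c00af0b008ef100dd22008ef300a64b0062a800629700629b00a60200acfa008dad00ae7a00bb4200e8cb00e60700e95d00ad490098c100e1af00e1cc00eabf00e25500e25400e1dd00b32700e9f9008a0f00dc2300809600e9d900b68200956100e6be00c5ed008a0d00b5b900b5b800963e00b7b500d8e800dfcf00ba5f00b53100e916009f1200d73d0098cc00e1c800ea9e00e1d70098c800e18f00e676006e7c00a2af00e95b00dd3e00d27200b2f200a3db00d27100e79f else nat_lit 0xe7dd007ee1008fd9008df600885f00889e00cd3100cd1d00e39e007c4500e3bf00ea71008fa8009e3200c2ab00790000dab200d1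8200bb7600783d0079ac00d3030084c10078350068bc00ae1e00e9da00e0a400c9b40084c200b9a800dadb007e7e007e1e0078f8006b3400e88b00969100968f00cc9900677600be1800d5dd00db3300665b007e80007e1f0096e600b88400e74f00912700b27100877100e86100b9b200c9b500d9c500add800adda00ae4000e84d00b978009e35006474009dd2008e9b00e80400b83f00be1900dd3d00a27800a27a00a2ec00e2f000db3000ea5b009f0f00e62200e65300a850009d7f00b2f600837900b96b009d7e0098a2007bb2007f7500969a00b24600dad800b33300e6f6009b4b00e652009c0400d18600e8a300d30500e79200af7e009689008a0e009ce5009ce400a50c009c53009c5400a5bb00b2bb00977d00a50f009c2c009c3d009c3c009684008aae00b1f200b1f100973900973b00a51b00967f009635009722009720009c2e00ae5d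
def cT_170_173 (j : ℕ) : ℕ := bif Nat.blt j 171 then nat_lit 0xe81300e8ef00e875008af200b322006e7d00af6f009e29009e2b00acb1009b4100947f00aea7009f0b00c98000bb0f00674500e89a00e12a00c2e100d69e00e87300739500a38b00c30f00e8cc00e61800e6bf00aa140098eb00e1a300d2b400e1dc00ea9900e1bc00e1bb00e1be009f0300e9f700e1bd008aaf00dc3c00827800e19300e2c300ea1100983200e9bf00980c008aad00c98600967b00967a00e602009b9600e17f0066ce00bb3f0073f800bfe400be4f00e58c00e13200bd9800b79f0095a200ea1000b33600d7b300e2bc00e24500b6ea007a5a00e33300eac400e1d100e35300aa2900ba1200e2a300e47200d0d5006e3300ae1000e6d900b2f300d9c6009ee600d04a009ee700670800aeac00d04900e49f00ea4100ea7a00e7e300d43000e79300b2b800ea4000e426006e3400a4f200c03400b2ad009cf900a3c0009482009b4400a3c1009d4100a78100c6f000e91c00d97400d92700669400e98700c30c00d95900c2dc00e72c00bb1400c93f00e872005f51009bfe else (cT_171_173 j)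
def cT_167_173 (j : ℕ) : ℕ := bif Nat.blt j 170 then (cT_167_170 j) else (cT_170_173 j)
def cT_174_176 (j : ℕ) : ℕ := bif Nat.blt j 175 then nat_lit 0xe7e500c2db00dc69008fb600d7fa00e70f00bb0e00e7fe00d37600c81f00e01400cd1e00a43900dfbf00cd3000897800e2bb00e26200e2a100e2a000963700af7f00e28700a47e00e64f00e19200e25f00e9f600e67f00e32f00e98000e2a200e65f00e9f800e29d00cae100ea3600a7ad00698100c4fe0078ff00d5480087b30073e100ab7f006a8a00ddf600d5e900783c00c03200d7cd00e92300cf9e0078f900b88e00b74900ea3e00db1200b89300a97700d8d900963f00bfed00bff000d86c00e98500d22e00783600b88d00ba7100e88d00db1f00b987005dc000d73400c02e00963b00bfe900bfe800e7bf00c02f00a4ef0098b600ead000e61a00973000e45400e6db00af520096df00eac500967d0096d200af6c00e68800e60600977900aceb00a4ee00a49f00e87400a80f0096d800972800973300973600a2a500ad3d00acf700a47700a99500e88900af8300e87d006e3200d2e100e60400af6b00e8cf009f1f009cc10097ed00eb3c00af7d00977e00978a00973200a4a2 else nat_lit 0xa42900886c00e4a0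00db8700e85f007a5b00e95e00e93100e98200e22200e9300095d300de8100d69f00a49e00c8ed00d68700d68e00a99600d68c00a45d00a4a300d08b00b2b300e94e00ab5a0062a9005dc200e53800e7e700a48300e7cd00e7d700e8850062bb00885c00e7ce00e86000e7e6008fda00c32800e71200bac800a2ad00a27700612900df9300bd3800e7cf00d7f800973800e93900b57e00e98400737900ae0e00add700a39800e5ac00e4fd00e92f00d82200d69c00e7c500b89200e95c00614900c9e700d7b000e4cd0078fa00b9a70095d500b33900a7ae00a30000d43500c83b00a2fc0066d700d4f000862400897d00783700b83400e4d600897c00ab8000ae5400ce3300d68800ae5000ce20008eed00e5a0008eef00daae00803600ce3000ce3200cbd200a97600a97200db0d00e7a100dab0009ea100871700890400698300e4530079aa008719008d37006a8c0079a80082cc00d43200d43400d56f005dc100a78500db1a00e7f5008d2500b55400d82400e433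
def cT_173_176 (j : ℕ) : ℕ := bif Nat.blt j 174 then nat_lit 0xe61700af0c00ad1300e8ac00973700e87c006e7b00ce55008b3700984d00a32b00ae6400e68a008e0500612a00e29100662900e92e00ccbc00ae6300b78600c7f600b06b00b33800a32d00ba4600ae6500a32c00e93e00e6df00da0400881600dcbb00a4f400e1ed0067a20062a500783b00e53b008fb000e31700d281008d7900e48900ba6000bfaa008e0400e6e00089e000af7200923100a4260078fe00db8a00e71300a42d0079ff008af800e16c00b7a0008afa00881500917000cd2f00a4f500cec300b341009de000d76e00dbd200e940009f1d00a4c200d7e300db7300b5840079a400d47800b6ae00b616009de10066d600df2a00daaa00ce8500922e00970b00b28000671000e3ae0095d000de7e00de8200ea5c00ea7b008ce900e73d00e868008fbc00e68b00e92000e89e00e4ba009e3400e9a8009c9b00a4ca00e93b00a5bc00ce54007e2400922f006e7e00ea1a00a7bf00af0d00ea8000d7cf00d2f20084c700cec4006e3500ae7b00a38c00e77c00e45800841600e62f else (cT_174_176 j)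
def cT_177_179 (j : ℕ) : ℕ := bif Nat.blt j 178 then nat_lit 0xe7b900e45600e62d00cf9f00d22f00a9b900b6b000ae1d00e88e00e0a500a9f200b6d50084c300ad0400985400a9ba00ad0500677500e88a00a2bc00e09400665a00ad200096e2007e2000b88500e89500e85200e85000b97900e94c00e80300e80500c5f0009e4000cd2400968600968700d37b00d7cc00c5ee00eae700e85e00e85c00871a00a2bb00e85d00bb1000e2b200d86b00d41700e17d00bfe300eb1c00e34b00e7e800e7ea008ef000d9c400c2e000c03300ae1c00dd3c00e95500bb1300c2dd00e5db00eab800eae500eb0400ead600a97400eaa2009e33008c7900eaa500eab500eab300aa3300eb1d00ea9800eaa400ea9400a65c00d73e00acc4007e2100d2cf00e47300aa3100b6fe00e4ad00ad0200e4d50091ae00e89400e73b00acc200b88900b97e00eaa300eac900eb3700eaca00e26100e2ba00eb3f00eb4100b88600acc3007e2200e4ac00b88800ea9500e73c008ce800a86e00e7dc00b97c00eade00eab600eaa800e34c00aa3700ba89008fb700b88a00b97d else nat_lit 0xeac800eacf00eac700eb0500a9bb00ad0600e86700e85100ea8e00eab900eb4a00ea8d00ea8c00ea8a00ea8f00ea9000ea8b00b6b100985500e8a600e8d800aa1f00aa3200a9b800ad0300e85300db0f00e80200db1c00bb1100bb1200a2ff00a2fd00ae5300ae51008eec00ae5200ce3100ce1f008716008eee00d41900871800a2fe00d43300db0e00e7d000e91d00db1b00eb4900eb3800963800eaac00eaab00cae200cee900d41800db1100a97800c5ef00db1000acc700cee800c16600d4af00963900eb3a00c07700e62b00e75e00e45500e76b00ea5d00eac600eacb009e3f00eacc00e60900e17b00e60c00e70500e60b00db8800db8900b6af00985300e8a500e93c00d86d007e2300985100d7ce0084c600b6ad00e5c400e48a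
def cT_176_179 (j : ℕ) : ℕ := bif Nat.blt j 177 then nat_lit 0xeae800ea9f00eab700e6ae00e93600eaba00e2b300a42400d7b200a9750084c400d11e00e67500aa050098e800e65600a97300e5f300a9b70084c500e5f2009dd9009c2d00c0760096d900d77500b6b200871500b5d100b67d00e91300e95900a27600970a00cae300970800ae5c0096360097ec00d7dc0096e1008eeb0096aa00980700e32500e29200ea02009c9a00e1ee00ceea00b61500b61300886b00e50300ea8400e73a00e88700c18600d9c300e2f3008eea00d7cb00b59a00db9f00b980005d6000dba000ea4600e5dc00e91f00c01b00dd3b00af9200871400d86a00965800e502008fcc00e64500421e009e7d00e47900427100a36d00ae1b00a2ba00b6f20058040098dc009bce00e43200e04b00c18500e71000e0f600c01a0095a300cec500b53200c81200e85400877000db2000665900783a00b58000c9b600c9f200b2d200e801008e9a00db130067740078fd00cfa300a97900ab9300a48100d324009e5700c94000af29009ef000ad1200c8eb00a7ac00915000cd25 else (cT_177_179 j)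
def cT_173_179 (j : ℕ) : ℕ := bif Nat.blt j 176 then (cT_173_176 j) else (cT_176_179 j)
def cT_167_179 (j : ℕ) : ℕ := bif Nat.blt j 173 then (cT_167_173 j) else (cT_173_179 j)
def cT_156_179 (j : ℕ) : ℕ := bif Nat.blt j 167 then (cT_156_167 j) else (cT_167_179 j)
def cT_134_179 (j : ℕ) : ℕ := bif Nat.blt j 156 then (cT_134_156 j) else (cT_156_179 j)
def cT_89_179 (j : ℕ) : ℕ := bif Nat.blt j 134 then (cT_89_134 j) else (cT_134_179 j)
def cT_0_179 (j : ℕ) : ℕ := bif Nat.blt j 89 then (cT_0_89 j) else (cT_89_179 j)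
def cT (j : ℕ) : ℕ := (cT_0_179 j)
noncomputable def cChunk (h : ℕ) : ℕ := Nat.rec (motive := fun _ => ℕ) (cT 0) (fun n _ => cT (Nat.succ n)) h
noncomputable def cF (i : ℕ) : ℕ := Nat.land (Nat.shiftRight (cChunk (Nat.shiftRight i 7)) (Nat.mul (Nat.land i 127) 24)) 16777215
theorem cF_lt (i : ℕ) : cF i < 16777216 := land24_lt _
theorem cF_zero : cF 0 = 0 := by decide +kernel
def nDef : ℕ := 60244
def nEv : ℕ := 171550
def nW : ℕ := 280
def N : ℕ := 22880
def ys : List ℕ := [nat_lit 0, nat_lit 1, nat_lit 2, nat_lit 3, nat_lit 4, nat_lit 5, nat_lit 6]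
end Cfsg.Agent.Lib.ToddCox.Suz22880
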